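import Mathlib.Algebra.Homology.DerivedCategory.Ext.EnoughInjectives
import Mathlib.Algebra.Homology.DerivedCategory.Ext.ExactSequences
import Mathlib.Algebra.Homology.HomologySequence
import Mathlib.Algebra.Homology.HomologicalComplexAbelian
import Mathlib.Algebra.Homology.ShortComplex.Ab
import Mathlib.Algebra.Category.Grp.Abelian
import Mathlib.CategoryTheory.Abelian.Projective.Resolution
import Mathlib.CategoryTheory.Abelian.Injective.Resolution
import Mathlib.Algebra.Category.Grp.Zero
import Mathlib.GroupTheory.QuotientGroup.Basic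

/-!
# Computing `Ext` with a left resolution by objects acyclic for the coefficient

If `π : P ⟶ M[0]` is a quasi-isomorphism and `Ext^{q+1}(P n, F) = 0` for all `n`, `q`, then the
`n`-th cohomology of the complex `Hom(P •, F)` is `Ext^n(M, F)`.
-/

set_option autoImplicit false

universe v u

open CategoryTheory CategoryTheory.Limits CategoryTheory.Abelian

namespace Groth.Agent.SiteCoh.HomRes

variable {A : Type u} [Category.{v} A] [Abelian A]

/-- The cochain complex `Hom(P •, F)`, as a functor of `F`. -/
noncomputable def homCx (P : ChainComplex A ℕ) : A ⥤ CochainComplex AddCommGrpCat.{v} ℕ where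
  obj F := CochainComplex.of (fun n => AddCommGrpCat.of (P.X n ⟶ F))
    (fun n => AddCommGrpCat.ofHom (Preadditive.leftComp F (P.d (n + 1) n)))
    (fun n => by
      ext (f : P.X n ⟶ F)
      change P.d (n + 1 + 1) (n + 1) ≫ P.d (n + 1) n ≫ f = 0
      simp)
  map {F G} φ := CochainComplex.ofHom
    (fun n => AddCommGrpCat.ofHom (Preadditive.rightComp _ φ)) (fun n => by
      dsimp only
      rw [CochainComplex.of_d, CochainComplex.of_d]
      ext (f : P.X n ⟶ F)
      change P.d (n + 1) n ≫ f ≫ φ = (P.d (n + 1) n ≫ f) ≫ φ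
      simp)
  map_id F := by
    ext n : 1
    ext (f : P.X n ⟶ F)
    exact Category.comp_id f
  map_comp φ ψ := by
    ext n : 1
    ext f
    exact (Category.assoc _ φ ψ).symm

theorem homCx_d_apply (P : ChainComplex A ℕ) (F : A) (n : ℕ) (f : P.X n ⟶ F) :
    ((homCx P).obj F).d n (n + 1) f = P.d (n + 1) n ≫ f := by
  simp [homCx]
  rfl

theorem homCx_map_f_apply (P : ChainComplex A ℕ) {F G : A} (φ : F ⟶ G) (n : ℕ) (f : P.X n ⟶ F) :
    ((homCx P).map φ).f n f = f ≫ φ := rfl

instance (P : ChainComplex A ℕ) : (homCx P).PreservesZeroMorphisms where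
  map_zero F G := by
    ext n : 1
    ext (f : P.X n ⟶ F)
    rw [homCx_map_f_apply]
    exact comp_zero

variable {P : ChainComplex A ℕ} {M : A} (π : P ⟶ (ChainComplex.single₀ A).obj M)

/-- The augmentation. -/
noncomputable def aug : P.X 0 ⟶ M := π.f 0

theorem d_aug : P.d 1 0 ≫ aug π = 0 := by
  change P.d 1 0 ≫ π.f 0 = 0
  rw [← π.comm 1 0, HomologicalComplex.single_obj_d, comp_zero]

variable [QuasiIso π]

include π in
theorem exactAt_succ (n : ℕ) : P.ExactAt (n + 1) := by
  rw [← quasiIsoAt_iff_exactAt' π (n + 1) (ChainComplex.exactAt_succ_single_obj _ _)]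
  infer_instance

set_option backward.isDefEq.respectTransparency.types false in
set_option backward.defeqAttrib.useBackward true in
/-- The augmentation is the cokernel of the first differential. -/
noncomputable def isColimitAug : IsColimit (CokernelCofork.ofπ _ (d_aug π)) := by
  refine IsColimit.ofIsoColimit (P.opcyclesIsCokernel 1 0 (by simp)) ?_
  refine Cofork.ext (P.isoHomologyι₀.symm ≪≫ isoOfQuasiIsoAt π 0 ≪≫
    HomologicalComplex.singleObjHomologySelfIso _ _ _) ?_
  rw [← cancel_mono (HomologicalComplex.singleObjHomologySelfIso (ComplexShape.down ℕ) 0 _).inv,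
    ← cancel_mono (ChainComplex.isoHomologyι₀ _).hom]
  dsimp
  simp only [ChainComplex.isoHomologyι₀_inv_naturality_assoc, HomologicalComplex.p_opcyclesMap_assoc,
    ChainComplex.single₀_obj_zero, Category.assoc, Iso.hom_inv_id, Category.comp_id, aug,
    HomologicalComplex.isoHomologyι_inv_hom_id, HomologicalComplex.singleObjHomologySelfIso_inv_homologyι,
    HomologicalComplex.singleObjOpcyclesSelfIso_hom, ChainComplex.single₀ObjXSelf, Iso.refl_inv, Category.id_comp]

theorem epi_aug : Epi (aug π) := epi_of_isColimit_cofork (isColimitAug π)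

theorem aug_comp_injective {F : A} {f g : M ⟶ F} (h : aug π ≫ f = aug π ≫ g) : f = g :=
  have := epi_aug π
  (cancel_epi (aug π)).1 h

theorem exists_desc {F : A} {f : P.X 0 ⟶ F} (h : P.d 1 0 ≫ f = 0) : ∃ g, aug π ≫ g = f :=
  ⟨_, ((CokernelCofork.IsColimit.desc' (isColimitAug π) f h)).2⟩

/-- `Hom(M, F) ⟶ H⁰ (Hom(P, F))`. -/
noncomputable def theta (F : A) : AddCommGrpCat.of (M ⟶ F) ⟶ ((homCx P).obj F).homology 0 :=
  ((homCx P).obj F).liftCycles (AddCommGrpCat.ofHom (Preadditive.leftComp F (aug π))) 1 (by simp)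
    (by
      ext (f : M ⟶ F)
      refine (homCx_d_apply P F 0 (aug π ≫ f)).trans ?_
      simp [← Category.assoc, d_aug]
      rfl) ≫ (CochainComplex.isoHomologyπ₀ _).hom

theorem theta_bijective (F : A) : Function.Bijective (theta π F) := by
  have h : Function.Bijective (((homCx P).obj F).liftCycles
      (AddCommGrpCat.ofHom (Preadditive.leftComp F (aug π))) 1 (by simp)
    (by
      ext (f : M ⟶ F)
      refine (homCx_d_apply P F 0 (aug π ≫ f)).trans ?_
      simp [← Category.assoc, d_aug]
      rfl)) := by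
    set L := ((homCx P).obj F).liftCycles (AddCommGrpCat.ofHom (Preadditive.leftComp F (aug π))) 1
      (by simp) _ with hL
    have hcomp : ∀ f : M ⟶ F, ((homCx P).obj F).iCycles 0 (L f) = aug π ≫ f := by
      intro f
      rw [← ConcreteCategory.comp_apply, hL, HomologicalComplex.liftCycles_i]
      rfl
    have hmono : Function.Injective (((homCx P).obj F).iCycles 0) :=
      (AddCommGrpCat.mono_iff_injective _).1 inferInstance
    refine ⟨fun f g hfg => aug_comp_injective π ?_, fun z => ?_⟩
    · rw [← hcomp, ← hcomp, hfg]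
    · have hz : P.d 1 0 ≫ (show P.X 0 ⟶ F from ((homCx P).obj F).iCycles 0 z) = 0 := by
        have := ConcreteCategory.congr_hom (((homCx P).obj F).iCycles_d 0 1) z
        exact (homCx_d_apply P F 0 _).symm.trans this
      obtain ⟨g, hg⟩ := exists_desc π hz
      exact ⟨g, hmono ((hcomp g).trans hg)⟩
  exact (ConcreteCategory.bijective_of_isIso
    (CochainComplex.isoHomologyπ₀ ((homCx P).obj F)).hom).comp h

theorem theta_naturality {F G : A} (φ : F ⟶ G) (f : M ⟶ F) :
    theta π G (f ≫ φ) = HomologicalComplex.homologyMap ((homCx P).map φ) 0 (theta π F f) := by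
  have h : theta π F ≫ HomologicalComplex.homologyMap ((homCx P).map φ) 0 =
      AddCommGrpCat.ofHom (Preadditive.rightComp M φ) ≫ theta π G := by
    simp only [theta, Category.assoc]
    rw [← cancel_mono (CochainComplex.isoHomologyπ₀ ((homCx P).obj G)).inv]
    simp only [Category.assoc, CochainComplex.isoHomologyπ₀_inv_naturality,
      Iso.hom_inv_id_assoc, Iso.hom_inv_id, Category.comp_id,
      ← cancel_mono (((homCx P).obj G).iCycles 0), HomologicalComplex.cyclesMap_i,
      HomologicalComplex.liftCycles_i_assoc, HomologicalComplex.liftCycles_i]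
    ext (f : M ⟶ F)
    change (aug π ≫ f) ≫ φ = aug π ≫ f ≫ φ
    exact Category.assoc (aug π) f φ
  exact (ConcreteCategory.congr_hom h f).symm

/-- Two surjections with the same kernel have isomorphic targets. -/
theorem nonempty_addEquiv_of_same_ker {X Y Z : Type*} [AddCommGroup X] [AddCommGroup Y] [AddCommGroup Z]
    (a : X →+ Y) (b : X →+ Z) (ha : Function.Surjective a) (hb : Function.Surjective b)
    (h : ∀ x, a x = 0 ↔ b x = 0) : Nonempty (Y ≃+ Z) :=
  ⟨(QuotientAddGroup.quotientKerEquivOfSurjective a ha).symm.trans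
    ((QuotientAddGroup.quotientAddEquivOfEq (by ext x; exact h x)).trans
      (QuotientAddGroup.quotientKerEquivOfSurjective b hb))⟩

variable [EnoughInjectives A] [HasExt.{v} A]

omit [QuasiIso π] in
theorem homCx_map_shortExact (S : ShortComplex A) (hS : S.ShortExact)
    (h : ∀ n, Subsingleton (Ext (P.X n) S.X₁ 1)) : (S.map (homCx P)).ShortExact := by
  refine HomologicalComplex.shortExact_of_degreewise_shortExact _ fun n => ?_
  have := hS.mono_f
  refine
    { exact := ?_
      mono_f := (AddCommGrpCat.mono_iff_injective _).2 fun f g hfg => ?_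
      epi_g := (AddCommGrpCat.epi_iff_surjective _).2 fun f => ?_ }
  · rw [ShortComplex.ab_exact_iff]
    intro (f : P.X n ⟶ S.X₂) hf
    obtain ⟨g, hg⟩ := KernelFork.IsLimit.lift' hS.exact.fIsKernel f hf
    exact ⟨g, hg⟩
  · exact (cancel_mono S.f).1 hfg
  · have h1 : (Ext.mk₀ f).comp hS.extClass (zero_add 1) = 0 := Subsingleton.elim _ _
    obtain ⟨x, hx⟩ := Ext.covariant_sequence_exact₃ _ hS (Ext.mk₀ f) rfl h1
    obtain ⟨g, rfl⟩ := (Ext.mk₀_bijective _ _).2 x
    refine ⟨g, (Ext.mk₀_bijective _ _).1 ?_⟩
    rw [Ext.mk₀_comp_mk₀] at hx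
    exact hx

include π in
theorem nonempty_homology_addEquiv_ext (n : ℕ) : ∀ (F : A),
    (∀ m q, Subsingleton (Ext (P.X m) F (q + 1))) →
      Nonempty (((homCx P).obj F).homology n ≃+ Ext M F n) := by
  induction n with
  | zero =>
    intro F _
    exact ⟨(AddEquiv.ofBijective (theta π F).hom (theta_bijective π F)).symm.trans
      Ext.addEquiv₀.symm⟩
  | succ n ih =>
    intro F hF
    let ι := EnoughInjectives.presentation F |>.some
    let S : ShortComplex A := ShortComplex.mk ι.f (cokernel.π ι.f) (cokernel.condition _)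
    have hS : S.ShortExact :=
      { exact := ShortComplex.exact_of_g_is_cokernel S (cokernelIsCokernel ι.f)
        mono_f := ι.mono
        epi_g := coequalizer.π_epi }
    have : Injective S.X₂ := ι.injective
    have hQ : ∀ m q, Subsingleton (Ext (P.X m) S.X₃ (q + 1)) := fun m q =>
      subsingleton_of_forall_eq 0 fun x => by
        have h1 : x.comp hS.extClass rfl = 0 := (hF m (q + 1)).elim _ _
        obtain ⟨y, rfl⟩ := Ext.covariant_sequence_exact₃ _ hS x rfl h1
        rw [Ext.eq_zero_of_injective y, Ext.zero_comp]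
    have hC := homCx_map_shortExact (P := P) S hS (fun m => hF m 0)
    have hI : ∀ k, IsZero (((homCx P).obj S.X₂).homology (k + 1)) := by
      intro k
      rw [← HomologicalComplex.exactAt_iff_isZero_homology,
        HomologicalComplex.exactAt_iff' _ k (k + 1) (k + 2) (by simp) (by simp),
        ShortComplex.ab_exact_iff]
      intro (f : P.X (k + 1) ⟶ S.X₂) hf
      have hex : (ShortComplex.mk (P.d (k + 2) (k + 1)) (P.d (k + 1) k) (P.d_comp_d _ _ _)).Exact :=
        (P.exactAt_iff' (k + 2) (k + 1) k (by simp) (by simp)).1 (exactAt_succ π k)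
      have hf' : P.d (k + 2) (k + 1) ≫ f = 0 := (homCx_d_apply P _ (k + 1) f).symm.trans hf
      exact ⟨hex.descToInjective f hf',
        (homCx_d_apply P _ k _).trans (hex.comp_descToInjective f hf')⟩
    have δsurj : Function.Surjective (hC.δ n (n + 1) rfl) := fun y => by
      have h := hC.homology_exact₁ n (n + 1) rfl
      rw [ShortComplex.ab_exact_iff] at h
      exact h y ((AddCommGrpCat.subsingleton_of_isZero (hI n)).elim _ _)
    have Esurj : Function.Surjective
        (hS.extClass.postcomp M (rfl : n + 1 = n + 1)) := fun y => by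
      obtain ⟨x, hx⟩ := Ext.covariant_sequence_exact₁ M hS y (Ext.eq_zero_of_injective _) rfl
      exact ⟨x, hx⟩
    rcases n with _ | n
    · -- both sides are the cokernel of `Hom(M, I) ⟶ Hom(M, Q)`
      let a : (M ⟶ S.X₃) →+ ((homCx P).obj F).homology 1 :=
        (hC.δ 0 1 rfl).hom.comp (theta π S.X₃).hom
      let b : (M ⟶ S.X₃) →+ Ext M F 1 :=
        (hS.extClass.postcomp M (rfl : 0 + 1 = 1)).comp (Ext.addEquiv₀.symm.toAddMonoidHom)
      refine nonempty_addEquiv_of_same_ker a b (δsurj.comp (theta_bijective π S.X₃).2)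
        (Esurj.comp Ext.addEquiv₀.symm.surjective) fun g => ?_
      have hA : a g = 0 ↔ ∃ f : M ⟶ S.X₂, f ≫ S.g = g := by
        constructor
        · intro hg
          have h := hC.homology_exact₃ 0 1 rfl
          rw [ShortComplex.ab_exact_iff] at h
          obtain ⟨y, hy⟩ := h (theta π S.X₃ g) hg
          obtain ⟨f, rfl⟩ := (theta_bijective π S.X₂).2 y
          exact ⟨f, (theta_bijective π S.X₃).1 ((theta_naturality π S.g f).trans hy)⟩
        · rintro ⟨f, rfl⟩
          change hC.δ 0 1 rfl (theta π S.X₃ (f ≫ S.g)) = 0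
          rw [theta_naturality]
          exact ConcreteCategory.congr_hom (hC.comp_δ 0 1 rfl) (theta π S.X₂ f)
      have hB : b g = 0 ↔ ∃ f : M ⟶ S.X₂, f ≫ S.g = g := by
        change (Ext.mk₀ g).comp hS.extClass (zero_add 1) = 0 ↔ _
        constructor
        · intro hg
          obtain ⟨x, hx⟩ := Ext.covariant_sequence_exact₃ _ hS (Ext.mk₀ g) rfl hg
          obtain ⟨f, rfl⟩ := (Ext.mk₀_bijective _ _).2 x
          rw [Ext.mk₀_comp_mk₀] at hx
          exact ⟨f, (Ext.mk₀_bijective _ _).1 hx⟩
        · rintro ⟨f, rfl⟩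
          rw [← Ext.mk₀_comp_mk₀, Ext.comp_assoc_of_second_deg_zero,
            ShortComplex.ShortExact.comp_extClass, Ext.comp_zero]
      exact hA.trans hB.symm
    · obtain ⟨e⟩ := ih S.X₃ hQ
      have δinj : Function.Injective (hC.δ (n + 1) (n + 1 + 1) rfl) := by
        rw [injective_iff_map_eq_zero]
        intro y hy
        have h := hC.homology_exact₃ (n + 1) (n + 1 + 1) rfl
        rw [ShortComplex.ab_exact_iff] at h
        obtain ⟨x, rfl⟩ := h y hy
        rw [(AddCommGrpCat.subsingleton_of_isZero (hI n)).elim x 0]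
        exact map_zero _
      have Einj : Function.Injective
          (hS.extClass.postcomp M (rfl : n + 1 + 1 = n + 1 + 1)) := by
        rw [injective_iff_map_eq_zero]
        intro y hy
        obtain ⟨x, rfl⟩ := Ext.covariant_sequence_exact₃ M hS y rfl hy
        rw [Ext.eq_zero_of_injective x, Ext.zero_comp]
      exact ⟨((AddEquiv.ofBijective _ ⟨δinj, δsurj⟩).symm.trans e).trans
        (AddEquiv.ofBijective _ ⟨Einj, Esurj⟩)⟩

end Groth.Agent.SiteCoh.HomRes
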