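import Groth.Agent.SiteCoh.DimShift
import Groth.Agent.SiteCoh.HomRes
import Mathlib.Algebra.Homology.ShortComplex.ExactFunctor

/-!
# Comparing `Ext` under an exact functor
-/

set_option autoImplicit false

universe v v' u u'

open CategoryTheory CategoryTheory.Limits CategoryTheory.Abelian

namespace Groth.Agent.SiteCoh.ExtCompare

variable {A : Type u} [Category.{v} A] [Abelian A] [EnoughInjectives A] [HasExt.{v} A]
  {B : Type u'} [Category.{v'} B] [Abelian B] [HasExt.{v'} B]

/-- If an exact functor `T` kills `Ext(N, T -)` on injectives and `Hom(M, -) = Hom(N, T -)`, then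
`Ext(M, -) = Ext(N, T -)`. -/
theorem nonempty_ext_equiv (T : A ⥤ B) [T.Additive] [PreservesFiniteLimits T]
    [PreservesFiniteColimits T] {M : A} {N : B} (θ : N ⟶ T.obj M)
    (hθ : ∀ X : A, Function.Bijective (fun a : M ⟶ X => θ ≫ T.map a))
    (hI : ∀ I : A, Injective I → ∀ q : ℕ, Subsingleton (Ext N (T.obj I) (q + 1))) (n : ℕ) :
    ∀ X : A, Nonempty (Ext M X n ≃+ Ext N (T.obj X) n) := by
  let e : ∀ X : A, (M ⟶ X) ≃+ (N ⟶ T.obj X) := fun X =>
    AddEquiv.ofBijective ((Preadditive.leftComp _ θ).comp T.mapAddHom) (hθ X)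
  induction n with
  | zero => exact fun X => ⟨(Ext.addEquiv₀.trans (e X)).trans Ext.addEquiv₀.symm⟩
  | succ n ih =>
    intro X
    let S := DimShift.inj X
    have hS : S.ShortExact := DimShift.inj_shortExact X
    have hS' := hS.map_of_exact T
    have E₁ : Function.Surjective (hS.extClass.postcomp M (rfl : n + 1 = n + 1)) := fun y => by
      obtain ⟨x, hx⟩ := Ext.covariant_sequence_exact₁ _ hS y (Ext.eq_zero_of_injective _) rfl
      exact ⟨x, hx⟩
    have E₂ : Function.Surjective (hS'.extClass.postcomp N (rfl : n + 1 = n + 1)) := fun y => by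
      obtain ⟨x, hx⟩ := Ext.covariant_sequence_exact₁ _ hS' y
        ((hI S.X₂ inferInstance n).elim _ _) rfl
      exact ⟨x, hx⟩
    rcases n with _ | n
    · let a : (M ⟶ S.X₃) →+ Ext M X 1 :=
        (hS.extClass.postcomp M (rfl : 0 + 1 = 1)).comp Ext.addEquiv₀.symm.toAddMonoidHom
      let b : (M ⟶ S.X₃) →+ Ext N (T.obj X) 1 :=
        (hS'.extClass.postcomp N (rfl : 0 + 1 = 1)).comp
          (Ext.addEquiv₀.symm.toAddMonoidHom.comp (e S.X₃).toAddMonoidHom)
      refine HomRes.nonempty_addEquiv_of_same_ker a b (E₁.comp Ext.addEquiv₀.symm.surjective)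
        (E₂.comp (Ext.addEquiv₀.symm.surjective.comp (e S.X₃).surjective)) fun g => ?_
      change (Ext.mk₀ g).comp hS.extClass (zero_add 1) = 0 ↔
        (Ext.mk₀ (θ ≫ T.map g)).comp hS'.extClass (zero_add 1) = 0
      constructor
      · intro hg
        obtain ⟨x, hx⟩ := Ext.covariant_sequence_exact₃ _ hS _ rfl hg
        obtain ⟨f, rfl⟩ := (Ext.mk₀_bijective _ _).2 x
        rw [Ext.mk₀_comp_mk₀] at hx
        rw [← (Ext.mk₀_bijective _ _).1 hx, Functor.map_comp, ← Category.assoc]
        exact DimShift.delta_comp_eq_zero hS' _ _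
      · intro hg
        obtain ⟨x, hx⟩ := Ext.covariant_sequence_exact₃ _ hS' _ rfl hg
        obtain ⟨f', rfl⟩ := (Ext.mk₀_bijective _ _).2 x
        rw [Ext.mk₀_comp_mk₀] at hx
        obtain ⟨f, rfl⟩ := (e S.X₂).surjective f'
        have h := (Ext.mk₀_bijective _ _).1 hx
        change (θ ≫ T.map f) ≫ T.map S.g = θ ≫ T.map g at h
        rw [Category.assoc, ← Functor.map_comp] at h
        rw [← (hθ S.X₃).1 h]
        exact DimShift.delta_comp_eq_zero hS f _
    · obtain ⟨d⟩ := ih S.X₃
      have i₁ : Function.Injective (hS.extClass.postcomp M (rfl : n + 1 + 1 = n + 1 + 1)) := by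
        rw [injective_iff_map_eq_zero]
        intro y hy
        obtain ⟨x, rfl⟩ := Ext.covariant_sequence_exact₃ _ hS y rfl hy
        rw [Ext.eq_zero_of_injective x, Ext.zero_comp]
      have i₂ : Function.Injective (hS'.extClass.postcomp N (rfl : n + 1 + 1 = n + 1 + 1)) := by
        rw [injective_iff_map_eq_zero]
        intro y hy
        obtain ⟨x, rfl⟩ := Ext.covariant_sequence_exact₃ _ hS' y rfl hy
        erw [(hI S.X₂ inferInstance n).elim x 0]
        exact Ext.zero_comp ..
      exact ⟨((AddEquiv.ofBijective _ ⟨i₁, E₁⟩).symm.trans d).trans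
        (AddEquiv.ofBijective _ ⟨i₂, E₂⟩)⟩

end Groth.Agent.SiteCoh.ExtCompare
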