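import Groth.Agent.SiteCoh.Totally
import Groth.Agent.ModShf.GrothAb
import Mathlib.Algebra.Category.ModuleCat.Presheaf.Free

/-!
# Free sheaves of modules resolve along Čech nerves; injective modules are totally acyclic
-/

set_option autoImplicit false

universe u

open CategoryTheory CategoryTheory.Limits Opposite Simplicial AlgebraicTopology

namespace Groth.Agent.SiteCoh.ModuleFree

variable {C : Type u} [SmallCategory C] {J : GrothendieckTopology C} (R : Sheaf J RingCat.{u})

/-- The free sheaf of modules on a presheaf of sets. -/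
noncomputable abbrev freeMod : (Cᵒᵖ ⥤ Type u) ⥤ SheafOfModules.{u} R :=
  PresheafOfModules.free R.obj ⋙ PresheafOfModules.sheafification (𝟙 R.obj)

/-- Maps out of the free sheaf of modules. -/
noncomputable def adj : freeMod R ⊣ SheafOfModules.forget R ⋙
    PresheafOfModules.restrictScalars (𝟙 R.obj) ⋙
    PresheafOfModules.toPresheaf R.obj ⋙ (Functor.whiskeringRight _ _ _).obj (forget AddCommGrpCat.{u}) :=
  (PresheafOfModules.freeAdjunction R.obj).comp (PresheafOfModules.sheafificationAdjunction (𝟙 R.obj))

theorem isIso_freeMod_map_of_W {P Q : Cᵒᵖ ⥤ Type u} (f : P ⟶ Q) (hf : J.W f) :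
    IsIso ((freeMod R).map f) := by
  have h : ∀ M : SheafOfModules.{u} R,
      Function.Bijective (fun g : (freeMod R).obj Q ⟶ M => (freeMod R).map f ≫ g) := fun M => by
    have hM : Presheaf.IsSheaf J (M.val.presheaf ⋙ forget AddCommGrpCat.{u}) :=
      ((sheafCompose J (forget AddCommGrpCat.{u})).obj ((SheafOfModules.toSheaf R).obj M)).property
    have h1 := hf (M.val.presheaf ⋙ forget AddCommGrpCat.{u}) hM
    have hfun : (fun g : (freeMod R).obj Q ⟶ M => (freeMod R).map f ≫ g) =
        ((adj R).homEquiv P M).symm ∘ (fun g => f ≫ g) ∘ (adj R).homEquiv Q M := by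
      funext g
      simp only [Function.comp_apply]
      rw [Equiv.eq_symm_apply]
      exact (adj R).homEquiv_naturality_left f g
    rw [hfun]
    exact ((adj R).homEquiv P M).symm.bijective.comp (h1.comp ((adj R).homEquiv Q M).bijective)
  obtain ⟨g, hg⟩ := (h ((freeMod R).obj P)).2 (𝟙 _)
  refine ⟨g, hg, (h ((freeMod R).obj Q)).1 ?_⟩
  change (freeMod R).map f ≫ g ≫ (freeMod R).map f = (freeMod R).map f ≫ 𝟙 _
  rw [← Category.assoc, show (freeMod R).map f ≫ g = 𝟙 _ from hg, Category.id_comp, Category.comp_id]

instance : (PresheafOfModules.sheafification.{u} (𝟙 R.obj)).Additive :=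
  (PresheafOfModules.sheafificationAdjunction (𝟙 R.obj)).left_adjoint_additive

theorem quasiIso_freeMod_ε (X : SimplicialObject.Augmented (Cᵒᵖ ⥤ Type u))
    (h : ∀ V, CechLike.IsCechLike (CechLike.at' X V))
    (hs : Presheaf.IsLocallySurjective J (X.hom.app (op ⦋0⦌))) :
    QuasiIso (AlternatingFaceMapComplex.ε.app
      (((SimplicialObject.Augmented.whiskering _ _).obj (freeMod R)).obj X)) := by
  let Y := ((SimplicialObject.Augmented.whiskering _ _).obj (PresheafOfModules.free R.obj)).obj
    (CechLike.toRange X)
  let T := PresheafOfModules.toPresheaf R.obj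
  have h0 : QuasiIso (AlternatingFaceMapComplex.ε.app
      (((SimplicialObject.Augmented.whiskering _ _).obj T).obj Y)) := by
    refine CechLike.quasiIso_of_eval _ fun V => ?_
    rw [CechLike.quasiIso_map_ε_iff]
    have hX : CechLike.IsCechLike (CechLike.at' (CechLike.toRange X) V) :=
      { inj := (h V).inj
        surj := fun n v hv => (h V).surj n v fun j => congrArg Subtype.val (hv j) }
    have hsurj : Function.Surjective ((CechLike.at' (CechLike.toRange X) V).hom.app (op ⦋0⦌)) := by
      rintro ⟨b, x, rfl⟩
      exact ⟨x, rfl⟩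
    obtain ⟨ed⟩ := hX.nonempty_extraDegeneracy hsurj
    exact (ed.map (ModuleCat.free.{u} (R.obj.obj V) ⋙
      forget₂ (ModuleCat.{u} (R.obj.obj V)) AddCommGrpCat.{u})).homotopyEquiv.quasiIso_hom
  have h1 : QuasiIso (AlternatingFaceMapComplex.ε.app Y) := by
    rw [← CechLike.quasiIso_map_ε_iff T] at h0
    exact (HomologicalComplex.quasiIso_map_iff_of_preservesHomology (AlternatingFaceMapComplex.ε.app Y) T).1 h0
  have h2 : QuasiIso (AlternatingFaceMapComplex.ε.app
      (((SimplicialObject.Augmented.whiskering _ _).obj (freeMod R)).obj (CechLike.toRange X))) :=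
    (CechLike.quasiIso_map_ε_iff (PresheafOfModules.sheafification (𝟙 R.obj)) Y).1
      (HomologicalComplex.quasiIso_map_of_preservesHomology _ _)
  let φ := ((SimplicialObject.Augmented.whiskering _ _).obj (freeMod R)).map (CechLike.fromRange X)
  have hφ : IsIso φ.right := by
    refine isIso_freeMod_map_of_W R _ ?_
    rw [GrothendieckTopology.W_iff_isLocallyBijective]
    exact ⟨inferInstanceAs (Presheaf.IsLocallyInjective J
        (Subfunctor.range (X.hom.app (op ⦋0⦌))).ι),
      Presheaf.isLocallySurjective_of_isLocallySurjective_fac J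
        (show Subfunctor.toRange (X.hom.app (op ⦋0⦌)) ≫ _ = X.hom.app (op ⦋0⦌) from
          Subfunctor.toRange_ι _)⟩
  have hl : φ.left = 𝟙 _ := by
    apply NatTrans.ext
    funext n
    exact (freeMod R).map_id _
  have hsq := AlternatingFaceMapComplex.ε.naturality φ
  have h3 : QuasiIso (AlternatingFaceMapComplex.ε.app
      (((SimplicialObject.Augmented.whiskering _ _).obj (freeMod R)).obj (CechLike.toRange X)) ≫
      (ChainComplex.single₀ (SheafOfModules.{u} R)).map φ.right) :=
    inferInstance
  rw [show (SimplicialObject.Augmented.point ⋙ ChainComplex.single₀ _).map φ =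
    (ChainComplex.single₀ _).map φ.right from rfl] at hsq
  rw [← hsq] at h3
  rw [show (SimplicialObject.Augmented.drop ⋙ alternatingFaceMapComplex _).map φ = 𝟙 _ by
    change (alternatingFaceMapComplex _).map φ.left = _
    rw [hl]
    exact (alternatingFaceMapComplex _).map_id _] at h3
  erw [Category.id_comp] at h3
  exact h3

/-- Comparison of free abelian sheaves and free sheaves of modules. -/
noncomputable def freeUnit (P : Cᵒᵖ ⥤ Type u) :
    (Free.freePre J).obj P ⟶ (SheafOfModules.toSheaf R).obj ((freeMod R).obj P) :=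
  ((Free.adj J).homEquiv P _).symm ((adj R).unit.app P)

theorem freeUnit_naturality {P Q : Cᵒᵖ ⥤ Type u} (g : P ⟶ Q) :
    (Free.freePre J).map g ≫ freeUnit R Q =
      freeUnit R P ≫ (SheafOfModules.toSheaf R).map ((freeMod R).map g) := by
  refine ((Free.adj J).homEquiv _ _).injective ?_
  rw [(Free.adj J).homEquiv_naturality_left, (Free.adj J).homEquiv_naturality_right,
    freeUnit, freeUnit, Equiv.apply_symm_apply, Equiv.apply_symm_apply]
  exact (adj R).unit.naturality g

instance : (SheafOfModules.toSheaf.{u} R).Additive := { map_add := rfl }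

/-- `Hom(O[P], M) = Hom(ℤ[P], M)`. -/
noncomputable def homFree (M : SheafOfModules.{u} R) (P : Cᵒᵖ ⥤ Type u) :
    ((freeMod R).obj P ⟶ M) →+ ((Free.freePre J).obj P ⟶ (SheafOfModules.toSheaf R).obj M) :=
  (Preadditive.leftComp _ (freeUnit R P)).comp (SheafOfModules.toSheaf R).mapAddHom

theorem homFree_bijective (M : SheafOfModules.{u} R) (P : Cᵒᵖ ⥤ Type u) :
    Function.Bijective (homFree R M P) := by
  let e : ((freeMod R).obj P ⟶ M) ≃ ((Free.freePre J).obj P ⟶ (SheafOfModules.toSheaf R).obj M) :=
    ((adj R).homEquiv P M).trans ((Free.adj J).homEquiv P ((SheafOfModules.toSheaf R).obj M)).symm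
  have he : ⇑(homFree R M P) = e := by
    funext a
    refine ((Free.adj J).homEquiv _ _).injective ?_
    simp only [e, Equiv.trans_apply]
    change (Free.adj J).homEquiv P _ (freeUnit R P ≫ (SheafOfModules.toSheaf R).map a) = _
    rw [(Free.adj J).homEquiv_naturality_right, freeUnit, Equiv.apply_symm_apply,
      (adj R).homEquiv_unit]
    erw [Equiv.apply_symm_apply ((Free.adj J).homEquiv P ((SheafOfModules.toSheaf R).obj M))]
    rfl
  rw [he]
  exact e.bijective

/-- `H⁰(-, M)` through free sheaves of modules. -/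
noncomputable def homFreeIso (M : SheafOfModules.{u} R) :
    (freeMod R).op ⋙ preadditiveYoneda.obj M ≅
      (Free.freePre J).op ⋙ preadditiveYoneda.obj ((SheafOfModules.toSheaf R).obj M) :=
  NatIso.ofComponents
    (fun P => (AddEquiv.ofBijective _ (homFree_bijective R M P.unop)).toAddCommGrpIso)
    (fun {P Q} g => by
      ext (a : (freeMod R).obj P.unop ⟶ M)
      change freeUnit R Q.unop ≫ (SheafOfModules.toSheaf R).map ((freeMod R).map g.unop ≫ a) =
        (Free.freePre J).map g.unop ≫ freeUnit R P.unop ≫ (SheafOfModules.toSheaf R).map a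
      rw [Functor.map_comp, ← Category.assoc, ← freeUnit_naturality, Category.assoc])

/-- Injective sheaves of modules are totally acyclic. -/
theorem isTotallyAcyclic_toSheaf (I : SheafOfModules.{u} R) [Injective I] :
    CohCx.IsTotallyAcyclic ((SheafOfModules.toSheaf R).obj I) := by
  refine Totally.isTotallyAcyclic_of_nerve _ fun K' K f _ p => ?_
  let X := ((SimplicialObject.Augmented.whiskering _ _).obj (freeMod R)).obj (Nerve.nerve f)
  have hq := quasiIso_freeMod_ε R (Nerve.nerve f) (Nerve.isCechLike_nerve f)
    (Nerve.isLocallySurjective_nerve_hom f)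
  exact (Cartan.isZero_homology_homCx_of_injective (AlternatingFaceMapComplex.ε.app X) I p).of_iso
    ((HomologicalComplex.homologyFunctor _ _ (p + 1)).mapIso
      ((alternatingCofaceMapComplex _).mapIso
          (Functor.isoWhiskerLeft (Nerve.nerve f).left.rightOp (homFreeIso R I)).symm ≪≫
        Cech.cofaceIso X.left I))

end Groth.Agent.SiteCoh.ModuleFree
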