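import Groth.Prelude.Def_SpSeq

/-!
# Transport of an abutment along isomorphisms of the target objects
-/

set_option autoImplicit false

universe v u

open CategoryTheory CategoryTheory.Limits

namespace Groth.Agent.SiteCoh.AbutTransport

variable {C : Type u} [Category.{v} C] [Abelian C]

/-- The image of a subobject under an isomorphism. -/
noncomputable def mapSub {M N : C} (e : M ≅ N) (S : Subobject M) : Subobject N :=
  Subobject.mk (S.arrow ≫ e.hom)

theorem mapSub_mono {M N : C} (e : M ≅ N) {S T : Subobject M} (h : S ≤ T) : mapSub e S ≤ mapSub e T :=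
  Subobject.mk_le_mk_of_comm (S.ofLE T h) (by simp)

theorem mapSub_top {M N : C} (e : M ≅ N) {S : Subobject M} (h : S = ⊤) : mapSub e S = ⊤ := by
  subst h
  exact Subobject.mk_eq_top_of_isIso ((⊤ : Subobject M).arrow ≫ e.hom)

theorem mapSub_bot {M N : C} (e : M ≅ N) {S : Subobject M} (h : S = ⊥) : mapSub e S = ⊥ := by
  subst h
  exact Subobject.mk_eq_bot_iff_zero.2 (by simp)

/-- A subquotient is unchanged by transport. -/
noncomputable def subquotIso {M N : C} (e : M ≅ N) {Z B : Subobject M} (h : B ≤ Z) :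
    SpSeq.subquot Z B h ≅ SpSeq.subquot (mapSub e Z) (mapSub e B) (mapSub_mono e h) :=
  cokernel.mapIso _ _ (Subobject.underlyingIso (B.arrow ≫ e.hom)).symm
    (Subobject.underlyingIso (Z.arrow ≫ e.hom)).symm (by
      rw [← cancel_mono (mapSub e Z).arrow]
      simp [mapSub])

variable {r₀ : ℤ} {E : CohomologicalSpectralSequence C r₀}

theorem exists_abutment {H H' : ℤ → C} (a : SpSeq.Abutment E H) (ha : ∀ n, a.IsFinite n)
    (e : ∀ n, Nonempty (H n ≅ H' n)) : ∃ a' : SpSeq.Abutment E H', ∀ n, a'.IsFinite n :=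
  ⟨{ fil := fun n p => mapSub (e n).some (a.fil n p)
     anti := fun n p q h => mapSub_mono _ (a.anti n h)
     rk := a.rk
     stat := a.stat
     β := fun pq => a.β pq ≪≫ subquotIso (e _).some _ },
   fun n => ⟨(ha n).1.elim fun x hx => ⟨x, mapSub_top _ hx⟩,
    (ha n).2.elim fun x hx => ⟨x, mapSub_bot _ hx⟩⟩⟩

end Groth.Agent.SiteCoh.AbutTransport
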