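import Groth.Agent.SiteCoh.CohPresheaf
import Groth.Agent.DerFun.Basic

/-!
# Higher direct images are the sheafifications of the cohomology presheaves
-/

set_option autoImplicit false

universe u

open CategoryTheory CategoryTheory.Limits Opposite CategoryTheory.Abelian

namespace Groth.Agent.SiteCoh.PushDerived

variable {C D : Type u} [SmallCategory C] [SmallCategory D] (J : GrothendieckTopology C)
  (K : GrothendieckTopology D) (u : D ⥤ C) [u.IsContinuous K J]

/-- Restriction of presheaves along `u` followed by sheafification. -/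
noncomputable abbrev restrSheafify :
    (Cᵒᵖ ⥤ AddCommGrpCat.{u}) ⥤ Sheaf K AddCommGrpCat.{u} :=
  (Functor.whiskeringLeft _ _ _).obj u.op ⋙ presheafToSheaf K AddCommGrpCat.{u}

omit [u.IsContinuous K J] in
instance : (restrSheafify K u).Additive where
  map_add {X Y f g} := by
    change (presheafToSheaf K AddCommGrpCat.{u}).map
      (Functor.whiskerLeft u.op f + Functor.whiskerLeft u.op g) = _
    exact Functor.map_add _

/-- The right derived functors of isomorphic functors agree on each object. -/
noncomputable def rightDerivedObjIso {A B : Type*} [Category A] [Category B] [Abelian A] [Abelian B]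
    [HasInjectiveResolutions A] {F G : A ⥤ B} [F.Additive] [G.Additive] (e : F ≅ G) (n : ℕ) (X : A) :
    (F.rightDerived n).obj X ≅ (G.rightDerived n).obj X :=
  (injectiveResolution X).isoRightDerivedObj F n ≪≫
    (HomologicalComplex.homologyFunctor _ _ n).mapIso
      ((NatIso.mapHomologicalComplex e _).app (injectiveResolution X).cocomplex) ≪≫
    ((injectiveResolution X).isoRightDerivedObj G n).symm

/-- The direct image factors through presheaves. -/
noncomputable def pushFactor :
    CohSite.push J K u ≅ sheafToPresheaf J AddCommGrpCat.{u} ⋙ restrSheafify K u :=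
  (Functor.rightUnitor _).symm ≪≫
    Functor.isoWhiskerLeft (CohSite.push J K u)
      (asIso (sheafificationAdjunction K AddCommGrpCat.{u}).counit).symm

/-- `R^q u_* M` is the sheafification of `V ↦ H^q(u V, M)`. -/
theorem nonempty_Rpush_iso (M : Sheaf J AddCommGrpCat.{u}) (q : ℕ) :
    Nonempty ((CohSite.Rpush J K u q).obj M ≅
      (presheafToSheaf K AddCommGrpCat.{u}).obj (u.op ⋙ M.cohomologyPresheaf q)) := by
  obtain ⟨e⟩ := CohPresheaf.nonempty_rightDerived_iso M q
  exact ⟨rightDerivedObjIso (pushFactor J K u) q M ≪≫
    DerFun.rightDerivedPostIso (restrSheafify K u) (sheafToPresheaf J AddCommGrpCat.{u}) q M ≪≫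
    (restrSheafify K u).mapIso e⟩

/-- The higher direct images of a sheaf acyclic on objects vanish. -/
theorem isZero_Rpush (M : Sheaf J AddCommGrpCat.{u})
    (h : ∀ (U : C) (q : ℕ), Subsingleton (CohSite.HU M (q + 1) U)) (q : ℕ) :
    IsZero ((CohSite.Rpush J K u (q + 1)).obj M) := by
  obtain ⟨e⟩ := nonempty_Rpush_iso J K u M (q + 1)
  refine IsZero.of_iso (Functor.map_isZero _ ?_) e
  exact Functor.isZero _ fun V =>
    @AddCommGrpCat.isZero_of_subsingleton _ (h (u.obj V.unop) q)

end Groth.Agent.SiteCoh.PushDerived
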