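import Mathlib.Algebra.Homology.DerivedCategory.Ext.EnoughInjectives
import Mathlib.Algebra.Homology.DerivedCategory.Ext.ExactSequences
import Mathlib.CategoryTheory.Abelian.Injective.Resolution

/-!
# Dimension shifting along an embedding into an injective
-/

set_option autoImplicit false

universe v u

open CategoryTheory CategoryTheory.Limits CategoryTheory.Abelian

namespace Groth.Agent.SiteCoh.DimShift

variable {A : Type u} [Category.{v} A] [Abelian A]

section Presentation

variable [EnoughInjectives A]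

/-- An embedding into an injective with its cokernel. -/
noncomputable abbrev inj (F : A) : ShortComplex A :=
  ShortComplex.mk (EnoughInjectives.presentation F).some.f
    (cokernel.π (EnoughInjectives.presentation F).some.f) (cokernel.condition _)

theorem inj_shortExact (F : A) : (inj F).ShortExact :=
  { exact := ShortComplex.exact_of_g_is_cokernel _ (cokernelIsCokernel _)
    mono_f := (EnoughInjectives.presentation F).some.mono
    epi_g := coequalizer.π_epi }

instance (F : A) : Injective (inj F).X₂ := (EnoughInjectives.presentation F).some.injective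

end Presentation

variable [HasExt.{v} A] {S : ShortComplex A} (hS : S.ShortExact) [Injective S.X₂] {M : A}

include hS

/-- Every class in positive degree is a boundary. -/
theorem exists_delta (q : ℕ) (x : Ext M S.X₁ (q + 1)) :
    ∃ y : Ext M S.X₃ q, y.comp hS.extClass rfl = x :=
  Ext.covariant_sequence_exact₁ M hS x (Ext.eq_zero_of_injective _) rfl

omit [Injective S.X₂] in
/-- The boundary of a morphism that lifts vanishes. -/
theorem delta_comp_eq_zero {n : ℕ} (h : M ⟶ S.X₂) (hn : 0 + 1 = n) :
    (Ext.mk₀ (h ≫ S.g)).comp hS.extClass hn = 0 := by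
  subst hn
  rw [← Ext.mk₀_comp_mk₀, Ext.comp_assoc_of_second_deg_zero,
    ShortComplex.ShortExact.comp_extClass, Ext.comp_zero]

theorem subsingleton_one (h : ∀ g : M ⟶ S.X₃, ∃ a : M ⟶ S.X₂, a ≫ S.g = g) :
    Subsingleton (Ext M S.X₁ 1) :=
  subsingleton_of_forall_eq 0 fun x => by
    obtain ⟨y, rfl⟩ := exists_delta hS 0 x
    obtain ⟨g, rfl⟩ := (Ext.mk₀_bijective _ _).2 y
    obtain ⟨a, rfl⟩ := h g
    exact delta_comp_eq_zero hS a _

theorem subsingleton_succ (q : ℕ) (h : Subsingleton (Ext M S.X₃ (q + 1))) :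
    Subsingleton (Ext M S.X₁ (q + 1 + 1)) :=
  subsingleton_of_forall_eq 0 fun x => by
    obtain ⟨y, rfl⟩ := exists_delta hS (q + 1) x
    rw [h.elim y 0, Ext.zero_comp]

omit [Injective S.X₂] in
/-- A morphism to the cokernel lifts when `Ext¹` into the kernel vanishes. -/
theorem exists_lift [Subsingleton (Ext M S.X₁ 1)] (g : M ⟶ S.X₃) : ∃ a : M ⟶ S.X₂, a ≫ S.g = g := by
  obtain ⟨x, hx⟩ := Ext.covariant_sequence_exact₃ _ hS (Ext.mk₀ g) (rfl : 0 + 1 = 1)
    (Subsingleton.elim _ _)
  obtain ⟨a, rfl⟩ := (Ext.mk₀_bijective _ _).2 x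
  rw [Ext.mk₀_comp_mk₀] at hx
  exact ⟨a, (Ext.mk₀_bijective _ _).1 hx⟩

theorem subsingleton_cokernel (h : ∀ q, Subsingleton (Ext M S.X₁ (q + 1))) (q : ℕ) :
    Subsingleton (Ext M S.X₃ (q + 1)) :=
  subsingleton_of_forall_eq 0 fun x => by
    obtain ⟨y, rfl⟩ := Ext.covariant_sequence_exact₃ _ hS x rfl ((h (q + 1)).elim _ _)
    rw [Ext.eq_zero_of_injective y, Ext.zero_comp]

end Groth.Agent.SiteCoh.DimShift
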