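import Groth.Agent.SiteCoh.SheafColim
import Groth.Agent.TopFin.Alg
import Mathlib.CategoryTheory.Limits.Constructions.EpiMono

/-!
# Classes of sheaves of sets to which the colimit theorem applies
-/

set_option autoImplicit false
open CategoryTheory CategoryTheory.Limits CategoryTheory.Abelian Opposite
universe u

namespace Groth.Agent.SiteCoh.ColimCls

open Groth.Agent.TopFin Groth.Agent.TopFin.QC
open ToposFin (IsQC IsQCHom IsQS IsQSHom IsCoherent HasQCGenerators IsAlgebraic IsGenerating ClosedUnderPullbacks)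

variable {C : Type u} [SmallCategory C] {J : GrothendieckTopology C}

attribute [local simp] pullback.lift_fst pullback.lift_snd pullback.lift_fst_assoc pullback.lift_snd_assoc

theorem epi_pullback_fst {X Y Z : ToposFin.Sh J} (g : Y ⟶ X) (p : Z ⟶ X) [Epi p] :
    Epi (pullback.fst g p) :=
  (je_unit_iff (pullback.fst g p)).1 (((je_unit_iff.{0} p).2 inferInstance).pullback_finite g)

theorem epi_pullback_snd {X Y Z : ToposFin.Sh J} (p : Z ⟶ X) (g : Y ⟶ X) [Epi p] :
    Epi (pullback.snd p g) := by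
  have := epi_pullback_fst g p
  have h : (pullbackSymmetry p g).hom ≫ pullback.fst g p = pullback.snd p g :=
    pullbackSymmetry_hom_comp_fst p g
  rw [← h]
  infer_instance

/-- Fibre products of epimorphisms are epimorphisms. -/
theorem epi_pullback_map {A B X Y Z : ToposFin.Sh J} (p : A ⟶ X) (q : B ⟶ Y) (f : X ⟶ Z) (g : Y ⟶ Z)
    [Epi p] [Epi q] :
    Epi (pullback.map (p ≫ f) (q ≫ g) f g p q (𝟙 Z) (Category.comp_id _) (Category.comp_id _)) := by
  let W := pullback (pullback.fst f g) p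
  let a : W ⟶ pullback f g := pullback.fst _ _
  let b : pullback (a ≫ pullback.snd f g) q ⟶ W := pullback.fst _ _
  have : Epi a := epi_pullback_fst _ _
  have : Epi b := epi_pullback_fst _ _
  let l : pullback (a ≫ pullback.snd f g) q ⟶ pullback (p ≫ f) (q ≫ g) :=
    pullback.lift (b ≫ pullback.snd _ _) (pullback.snd _ _) (by
      simp only [a, b, Category.assoc, ← pullback.condition_assoc, pullback.condition])
  have h : l ≫ pullback.map (p ≫ f) (q ≫ g) f g p q (𝟙 Z) (Category.comp_id _) (Category.comp_id _) =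
      b ≫ a := by
    refine pullback.hom_ext ?_ ?_
    · simp [l, a, b, ← pullback.condition]
    · simp [l, a, b, ← pullback.condition]
  exact epi_of_epi_fac h

/-! ## Coherent objects -/

theorem refine_coherent {P : ToposFin.Sh J → Prop} (hP : Gens P) (hPc : ∀ X, P X → IsCoherent X)
    {F K : ToposFin.Sh J} (g : F ⟶ K) (hK : IsQC K) (hg : Epi g) :
    ∃ (K' : ToposFin.Sh J) (k : K' ⟶ F), IsCoherent K' ∧ Epi (k ≫ g) := by
  obtain ⟨ι, G, π, hG, hπ⟩ := hP F
  have hπ' : JE (fun i => π i ≫ g) := fun Z a b hab =>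
    (cancel_epi g).1 (hπ _ _ fun i => by simpa using hab i)
  obtain ⟨n, idx, hidx⟩ := exists_fin hK hπ'
  refine ⟨∐ fun k => G (idx k), Sigma.desc fun k => π (idx k),
    Colim.isCoherent_sigma _ fun k => hPc _ (hG _), ?_⟩
  have : Epi (Sigma.desc fun k => π (idx k) ≫ g) := epi_desc_iff.2 hidx
  convert this using 1
  exact Sigma.hom_ext _ _ fun k => by simp

theorem cls_coherent (hE : IsAlgebraic J) :
    SheafColim.Cls ({X | IsCoherent X} : Set (ToposFin.Sh J)) where
  qc _ h := h.1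
  iso _ _ e h := isCoherent_of_iso e h
  pb K L M f g hK hL hM := by
    have hg := (Alg.isCoherent_iff hE g hM).1 hL
    exact (Alg.isCoherent_iff hE (pullback.fst f g) hK).2
      ⟨IsQCHom.baseChange (IsPullback.of_hasPullback f g).flip hg.1,
        IsQSHom.baseChange (IsPullback.of_hasPullback f g).flip hg.2⟩
  refine' F K g hK hg := by
    obtain ⟨P, hP, hc, -⟩ := Alg.exists_data hE
    exact refine_coherent hP hc g hK.1 hg

/-- Coherent objects lying over members of a generating class stable under fibre products. -/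
theorem cls_over {S : Set (ToposFin.Sh J)} (hqc : ∀ K ∈ S, IsQC K) (hgen : IsGenerating S)
    (hpb : ClosedUnderPullbacks S) :
    SheafColim.Cls ({X | IsCoherent X ∧ ∃ K ∈ S, Nonempty (X ⟶ K)} : Set (ToposFin.Sh J)) where
  qc _ h := h.1.1
  iso _ _ e := fun ⟨h, K, hK, ⟨m⟩⟩ => ⟨isCoherent_of_iso e h, K, hK, ⟨e.inv ≫ m⟩⟩
  pb A B M f g := fun ⟨hA, K, hK, ⟨a⟩⟩ ⟨hB, _⟩ ⟨hM, K₀, hK₀, ⟨m⟩⟩ => by
    have hc : ∀ L ∈ S, IsCoherent L := fun L h => Alg.isCoherent_of_mem hqc hgen hpb h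
    have hto : ∀ {X : ToposFin.Sh J} (x : X ⟶ K₀), IsQS X → IsQSHom x := fun {X} x hX => by
      obtain ⟨ι, G, π, hG, hπ⟩ := hgen X
      refine isQSHom_of_lifts (gens_set hgen) hqc x hX π hπ (fun i => hqc _ (hG i)) fun i j => ?_
      obtain ⟨P, p, q, hP, hpq⟩ := hpb (π i ≫ x) (π j ≫ x) (hG i) (hG j) hK₀
      exact (isCoherent_of_iso hpq.isoPullback (hc P hP)).2
    refine ⟨⟨hM.2 _ _ f g hA.1 hB.1, ?_⟩, K, hK, ⟨pullback.fst f g ≫ a⟩⟩
    let i : pullback f g ⟶ pullback (f ≫ m) (g ≫ m) :=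
      pullback.lift (pullback.fst f g) (pullback.snd f g) (by rw [pullback.condition_assoc])
    have : Mono i := ⟨fun x y h => pullback.hom_ext
      (by simpa [i] using congrArg (· ≫ pullback.fst (f ≫ m) (g ≫ m)) h)
      (by simpa [i] using congrArg (· ≫ pullback.snd (f ≫ m) (g ≫ m)) h)⟩
    refine isQS_of_mono i (isQS_of_isQSHom (pullback.fst (f ≫ m) (g ≫ m)) ?_ hA.2)
    exact IsQSHom.baseChange (IsPullback.of_hasPullback (f ≫ m) (g ≫ m)).flip (hto _ hB.2)
  refine' F K g := fun ⟨hK, L, hL, ⟨m⟩⟩ hg => by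
    obtain ⟨K', k, hK', hk⟩ := refine_coherent (gens_set hgen)
      (fun X h => Alg.isCoherent_of_mem hqc hgen hpb h) g hK.1 hg
    exact ⟨K', k, ⟨hK', L, hL, ⟨k ≫ g ≫ m⟩⟩, hk⟩

/-! ## The closure of a class as in the filtered colimit theorem for topoi -/

section Closure

variable (S : Set (ToposFin.Sh J))

/-- Objects covered by a member, over which fibre products of members are covered by members. -/
def closure : Set (ToposFin.Sh J) :=
  {T | (∃ (K : ToposFin.Sh J) (p : K ⟶ T), K ∈ S ∧ Epi p) ∧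
    ∀ (A B : ToposFin.Sh J) (a : A ⟶ T) (b : B ⟶ T), A ∈ S → B ∈ S →
      ∃ (V : ToposFin.Sh J) (v : V ⟶ pullback a b), V ∈ S ∧ Epi v}

variable {S}

theorem epi_equalizer_map {V X T : ToposFin.Sh J} (π : V ⟶ X) [Epi π] (u v : X ⟶ T) :
    Epi (equalizer.lift (equalizer.ι (π ≫ u) (π ≫ v) ≫ π)
      (by simpa using equalizer.condition (π ≫ u) (π ≫ v)) : equalizer (π ≫ u) (π ≫ v) ⟶ equalizer u v) := by
  have := epi_pullback_fst (equalizer.ι u v) π
  refine epi_of_epi_fac (f := equalizer.lift (pullback.snd (equalizer.ι u v) π) (by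
      simp only [← pullback.condition_assoc, equalizer.condition u v]))
    (h := pullback.fst (equalizer.ι u v) π) ?_
  exact equalizer.hom_ext (by simp [equalizer.lift_ι, equalizer.lift_ι_assoc, pullback.condition])

section

variable (h4 : ∀ K ∈ S, ∀ K' ∈ S, ∀ (a b : K ⟶ K'),
      ∃ (K'' : ToposFin.Sh J) (g : K'' ⟶ equalizer a b), K'' ∈ S ∧ Epi g)
include h4

/-- Equalizers of members with values in the closure are covered by members. -/
theorem cover_equalizer {T : ToposFin.Sh J} (hT : T ∈ closure S) {V : ToposFin.Sh J} (hV : V ∈ S)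
    (u v : V ⟶ T) : ∃ (K : ToposFin.Sh J) (k : K ⟶ equalizer u v), K ∈ S ∧ Epi k := by
  obtain ⟨W, w, hW, hw⟩ := hT.2 V V u v hV hV
  let c := pullback.fst u v
  let d := pullback.snd u v
  obtain ⟨K, k, hK, hk⟩ := h4 W hW V hV (w ≫ c) (w ≫ d)
  let m : equalizer c d ⟶ equalizer u v := equalizer.lift (equalizer.ι c d ≫ c) (by
    have h₁ : (equalizer.ι c d ≫ c) ≫ v = (equalizer.ι c d ≫ d) ≫ v := by rw [equalizer.condition c d]
    rw [h₁, Category.assoc, Category.assoc, pullback.condition])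
  have : IsSplitEpi m := IsSplitEpi.mk' ⟨equalizer.lift
    (pullback.lift (equalizer.ι u v) (equalizer.ι u v) (equalizer.condition u v)) (by simp [c, d]),
    equalizer.hom_ext (by simp [m, c, equalizer.lift_ι, equalizer.lift_ι_assoc])⟩
  have := epi_equalizer_map w c d
  exact ⟨K, k ≫ equalizer.lift (equalizer.ι (w ≫ c) (w ≫ d) ≫ w)
    (by simpa using equalizer.condition (w ≫ c) (w ≫ d)) ≫ m, hK, epi_comp _ _⟩

variable (h3 : ∀ K ∈ S, ∀ K' ∈ S, ∃ (K'' : ToposFin.Sh J) (g : K'' ⟶ K ⨯ K'), K'' ∈ S ∧ Epi g)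
include h3

/-- Members belong to the closure. -/
theorem mem_closure {K : ToposFin.Sh J} (hK : K ∈ S) : K ∈ closure S :=
  ⟨⟨K, 𝟙 K, hK, inferInstance⟩, fun A B a b hA hB => by
    obtain ⟨V, v, hV, hv⟩ := h3 A hA B hB
    obtain ⟨V', v', hV', hv'⟩ := h4 V hV K hK (v ≫ prod.fst ≫ a) (v ≫ prod.snd ≫ b)
    let u₀ := (prod.fst : A ⨯ B ⟶ A) ≫ a
    let w₀ := (prod.snd : A ⨯ B ⟶ B) ≫ b
    let m : equalizer u₀ w₀ ⟶ pullback a b := pullback.lift (equalizer.ι u₀ w₀ ≫ prod.fst)
      (equalizer.ι u₀ w₀ ≫ prod.snd) (by simpa [u₀, w₀] using equalizer.condition u₀ w₀)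
    have : IsSplitEpi m := IsSplitEpi.mk' ⟨equalizer.lift
      (prod.lift (pullback.fst a b) (pullback.snd a b))
      (by simp [u₀, w₀, prod.lift_fst_assoc, prod.lift_snd_assoc, pullback.condition]),
      pullback.hom_ext (by simp [m, prod.lift_fst, equalizer.lift_ι_assoc])
        (by simp [m, prod.lift_snd, equalizer.lift_ι_assoc])⟩
    have := epi_equalizer_map v u₀ w₀
    exact ⟨V', v' ≫ equalizer.lift (equalizer.ι (v ≫ u₀) (v ≫ w₀) ≫ v)
      (by simpa using equalizer.condition (v ≫ u₀) (v ≫ w₀)) ≫ m, hV', epi_comp _ _⟩⟩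

theorem cls_closure (hqc : ∀ K ∈ S, IsQC K)
    (href : ∀ (F K : ToposFin.Sh J) (g : F ⟶ K), K ∈ S → Epi g →
      ∃ (K' : ToposFin.Sh J) (k : K' ⟶ F), K' ∈ S ∧ Epi (k ≫ g)) :
    SheafColim.Cls (closure S) where
  qc T := fun ⟨⟨K, p, hK, hp⟩, _⟩ => isQC_of_epi p (hqc K hK)
  iso T T' e := fun ⟨⟨K, p, hK, hp⟩, h⟩ => ⟨⟨K, p ≫ e.hom, hK, epi_comp _ _⟩, fun A B a b hA hB => by
    obtain ⟨V, v, hV, hv⟩ := h A B (a ≫ e.inv) (b ≫ e.inv) hA hB
    let m : pullback (a ≫ e.inv) (b ≫ e.inv) ⟶ pullback a b :=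
      pullback.lift (pullback.fst _ _) (pullback.snd _ _)
        ((cancel_mono e.inv).1 (by simpa using pullback.condition (f := a ≫ e.inv) (g := b ≫ e.inv)))
    have : IsSplitEpi m := IsSplitEpi.mk' ⟨pullback.lift (pullback.fst a b) (pullback.snd a b)
      (by rw [pullback.condition_assoc]), pullback.hom_ext (by simp [m]) (by simp [m])⟩
    exact ⟨V, v ≫ m, hV, epi_comp _ _⟩⟩
  refine' F T g := fun ⟨⟨K, p, hK, hp⟩, _⟩ hg => by
    have : Epi (pullback.fst p g) := epi_pullback_fst p g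
    obtain ⟨K', k, hK', hk⟩ := href _ K (pullback.fst p g) hK this
    refine ⟨K', k ≫ pullback.snd p g, mem_closure h4 h3 hK', ?_⟩
    rw [Category.assoc, ← pullback.condition, ← Category.assoc]
    exact epi_comp _ _
  pb T T' M f g := fun hT hT' hM => by
    obtain ⟨A₀, p, hA₀, hp⟩ := hT.1
    obtain ⟨B₀, q, hB₀, hq⟩ := hT'.1
    obtain ⟨V₀, v₀, hV₀, hv₀⟩ := hM.2 A₀ B₀ (p ≫ f) (q ≫ g) hA₀ hB₀
    have := epi_pullback_map p q f g
    refine ⟨⟨V₀, v₀ ≫ pullback.map (p ≫ f) (q ≫ g) f g p q (𝟙 M) (Category.comp_id _)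
      (Category.comp_id _), hV₀, epi_comp _ _⟩, fun A B a b hA hB => ?_⟩
    obtain ⟨V, v, hV, hv⟩ := hT.2 A B (a ≫ pullback.fst f g) (b ≫ pullback.fst f g) hA hB
    let u₀ := pullback.fst (a ≫ pullback.fst f g) (b ≫ pullback.fst f g) ≫ a ≫ pullback.snd f g
    let w₀ := pullback.snd (a ≫ pullback.fst f g) (b ≫ pullback.fst f g) ≫ b ≫ pullback.snd f g
    obtain ⟨V', v', hV', hv'⟩ := cover_equalizer h4 hT' hV (v ≫ u₀) (v ≫ w₀)
    let m : equalizer u₀ w₀ ⟶ pullback a b := pullback.lift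
      (equalizer.ι u₀ w₀ ≫ pullback.fst _ _) (equalizer.ι u₀ w₀ ≫ pullback.snd _ _)
      (pullback.hom_ext
        (by
          simp only [Category.assoc]
          exact congrArg (equalizer.ι u₀ w₀ ≫ ·) pullback.condition)
        (by
          simp only [Category.assoc]
          exact equalizer.condition u₀ w₀))
    have : IsSplitEpi m := IsSplitEpi.mk' ⟨equalizer.lift
      (pullback.lift (pullback.fst a b) (pullback.snd a b) (by rw [pullback.condition_assoc]))
      (by simp [u₀, w₀, pullback.condition_assoc]),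
      pullback.hom_ext (by simp [m, equalizer.lift_ι_assoc]) (by simp [m, equalizer.lift_ι_assoc])⟩
    have := epi_equalizer_map v u₀ w₀
    exact ⟨V', v' ≫ equalizer.lift (equalizer.ι (v ≫ u₀) (v ≫ w₀) ≫ v)
      (by simpa using equalizer.condition (v ≫ u₀) (v ≫ w₀)) ≫ m, hV', epi_comp _ _⟩

theorem terminal_mem_closure {T : ToposFin.Sh J} (hT : IsTerminal T)
    (h1 : ∃ K ∈ S, Epi (hT.from K)) : T ∈ closure S := by
  obtain ⟨K, hK, hp⟩ := h1
  refine ⟨⟨K, hT.from K, hK, hp⟩, fun A B a b hA hB => ?_⟩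
  obtain ⟨V, v, hV, hv⟩ := h3 A hA B hB
  let m : A ⨯ B ⟶ pullback a b := pullback.lift prod.fst prod.snd (hT.hom_ext _ _)
  have : IsSplitEpi m := IsSplitEpi.mk' ⟨prod.lift (pullback.fst a b) (pullback.snd a b),
    pullback.hom_ext (by simp [m, prod.lift_fst]) (by simp [m, prod.lift_snd])⟩
  exact ⟨V, v ≫ m, hV, epi_comp _ _⟩

end

end Closure

end Groth.Agent.SiteCoh.ColimCls
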