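import Groth.Agent.SiteCoh.ColimCls
import Groth.Prelude.Def_CohCx

/-!
# Quasi-compact objects in the sense of local surjectivity; the free sheaf on the final object
-/

set_option autoImplicit false
open CategoryTheory CategoryTheory.Limits Opposite
universe u

namespace Groth.Agent.SiteCoh.ColimHelp

open Groth.Agent.TopFin Groth.Agent.TopFin.QC


variable {C : Type u} [SmallCategory C] {J : GrothendieckTopology C}

theorem jointlySurjective_of_je {K : ToposFin.Sh J} {ι : Type u} {F : ι → ToposFin.Sh J}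
    {π : ∀ i, F i ⟶ K} (hπ : JE π) : CohCx.JointlySurjective π := by
  intro U s
  let t : ToposFin.eps J U ⟶ K := (Topos.Gen.homEquiv J).symm s
  let R : Sieve U :=
    { arrows := fun Y g => ∃ i, ∃ l : ToposFin.eps J Y ⟶ F i, l ≫ π i = Site.epsMap J g ≫ t
      downward_closed := by
        rintro Y Z g ⟨i, l, hl⟩ k
        exact ⟨i, Site.epsMap J k ≫ l, by rw [Category.assoc, hl, Site.epsMap_comp, Category.assoc]⟩ }
  have hR : R ∈ J U := Site.mem_of_je J R fun Z a b hab => hπ.pullback t a b fun i =>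
    je_of_covering (Topos.Gen.covering_gen J _) _ _ fun ⟨V, z⟩ => by
      obtain ⟨S, hS, hS'⟩ := Site.exists_repr J (z ≫ pullback.fst t (π i))
      refine Site.je_of_mem J hS _ _ fun ⟨W, l, hl⟩ => ?_
      obtain ⟨g, hg⟩ := hS' l hl
      have := hab ⟨W, g, i, Site.epsMap J l ≫ z ≫ pullback.snd t (π i), by
        simp only [← hg, Category.assoc, ← pullback.condition]⟩
      simp only [← hg, Category.assoc] at this
      exact this
  refine ⟨R, hR, fun V g ⟨i, l, hl⟩ => ⟨i, Topos.Gen.homEquiv J l, ?_⟩⟩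
  rw [← Topos.Gen.homEquiv_comp, hl, Topos.Gen.homEquiv_map]
  exact congrArg _ ((Topos.Gen.homEquiv J).apply_symm_apply s)

theorem je_of_jointlySurjective {K : ToposFin.Sh J} {ι : Type u} {F : ι → ToposFin.Sh J}
    {π : ∀ i, F i ⟶ K} (hπ : CohCx.JointlySurjective π) : JE π := by
  intro Z a b hab
  refine Sheaf.hom_ext (NatTrans.ext (funext fun ⟨U⟩ => ConcreteCategory.hom_ext _ _ fun s => ?_))
  obtain ⟨S, hS, h⟩ := hπ U s
  refine ((isSheaf_iff_isSheaf_of_type _ _).1 Z.property S hS).isSeparatedFor.ext fun V g hg => ?_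
  obtain ⟨i, x, hx⟩ := h V g hg
  rw [← NatTrans.naturality_apply, ← NatTrans.naturality_apply, ← hx]
  exact ConcreteCategory.congr_hom (NatTrans.congr_app (congrArg InducedCategory.Hom.hom (hab i)) (op V)) x

theorem isQC_of_isQcObject {K : ToposFin.Sh J} (h : CohCx.IsQcObject K) : ToposFin.IsQC K :=
  isQC_iff.2 fun ι F π hπ =>
    (h ι F π (jointlySurjective_of_je hπ)).imp fun _ hs => je_of_jointlySurjective hs

variable (J) in
/-- The constant sheaf `ℤ` is the free abelian sheaf on any final sheaf of sets. -/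
theorem nonempty_const_iso {T : ToposFin.Sh J} (hT : IsTerminal T) :
    Nonempty ((constantSheaf J AddCommGrpCat.{u}).obj (AddCommGrpCat.of (ULift.{u} ℤ)) ≅
      (Free.freePre J).obj T.obj) := by
  let one : Cᵒᵖ ⥤ Type u := (Functor.const Cᵒᵖ).obj PUnit.{u + 1}
  have h1 : IsTerminal one := IsTerminal.ofUniqueHom
    (fun P => { app := fun _ => TypeCat.ofHom fun _ => PUnit.unit
                naturality := fun _ _ _ => rfl })
    (fun P m => NatTrans.ext (funext fun X => ConcreteCategory.hom_ext _ _ fun x => Subsingleton.elim (α := PUnit.{u + 1}) _ _))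
  have := Free.isIso_freePre_map_of_W J (toSheafify J one) (J.W_toSheafify _)
  let c : one ⋙ AddCommGrpCat.free.{u} ≅ (Functor.const Cᵒᵖ).obj (AddCommGrpCat.of (ULift.{u} ℤ)) :=
    NatIso.ofComponents (fun _ => ((FreeAbelianGroup.uniqueEquiv PUnit.{u + 1}).trans
      AddEquiv.ulift.symm).toAddCommGrpIso) (fun g => by
        refine AddCommGrpCat.hom_ext (FreeAbelianGroup.lift_ext _ _ fun x => ?_)
        rfl)
  let e : (presheafToSheaf J (Type u)).obj one ≅ T :=
    (IsTerminal.isTerminalObj (presheafToSheaf J (Type u)) one h1).uniqueUpToIso hT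
  exact ⟨(presheafToSheaf J AddCommGrpCat.{u}).mapIso c.symm ≪≫
    asIso ((Free.freePre J).map (toSheafify J one)) ≪≫
      (Free.freePre J).mapIso ((sheafToPresheaf J (Type u)).mapIso e)⟩

end Groth.Agent.SiteCoh.ColimHelp
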