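import Groth.Agent.SiteCoh.HomRes
import Groth.Agent.SiteCoh.DimShift

/-!
# Cartan's criterion, abstractly

Let `M b` be a family of objects and `P c ⟶ M (t c)` a family of resolutions such that morphisms into
a quotient lift, after composing with the augmentation of a suitable resolution.  If the cohomology
of `Hom(P c, F)` vanishes in positive degrees for all `c`, then all `Ext^{q+1}(M b, F)` vanish.
-/

set_option autoImplicit false

universe v u

open CategoryTheory CategoryTheory.Limits CategoryTheory.Abelian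

namespace Groth.Agent.SiteCoh.Cartan

variable {A : Type u} [Category.{v} A] [Abelian A]

theorem exists_lift_of_exactAt {M : A} {P : ChainComplex A ℕ}
    (π : P ⟶ (ChainComplex.single₀ A).obj M) [QuasiIso π] {S : ShortComplex A} (hS : S.ShortExact)
    (hF : ((HomRes.homCx P).obj S.X₁).ExactAt 1) (h : M ⟶ S.X₃) (a : P.X 0 ⟶ S.X₂)
    (ha : a ≫ S.g = HomRes.aug π ≫ h) : ∃ a' : M ⟶ S.X₂, a' ≫ S.g = h := by
  have := hS.mono_f
  have hb : (P.d 1 0 ≫ a) ≫ S.g = 0 := by
    rw [Category.assoc, ha, ← Category.assoc, HomRes.d_aug, zero_comp]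
  obtain ⟨c, hc⟩ := KernelFork.IsLimit.lift' hS.exact.fIsKernel _ hb
  change c ≫ S.f = P.d 1 0 ≫ a at hc
  have hdc : P.d 2 1 ≫ c = 0 := by
    rw [← cancel_mono S.f, Category.assoc, hc, zero_comp, ← Category.assoc, P.d_comp_d, zero_comp]
  rw [HomologicalComplex.exactAt_iff' _ 0 1 2 (by simp) (by simp), ShortComplex.ab_exact_iff] at hF
  obtain ⟨e, he⟩ := hF c ((HomRes.homCx_d_apply P S.X₁ 1 c).trans hdc)
  have he' : P.d 1 0 ≫ e = c := (HomRes.homCx_d_apply P S.X₁ 0 e).symm.trans he
  obtain ⟨a', ha'⟩ := HomRes.exists_desc π (F := S.X₂) (f := a - (e : P.X 0 ⟶ S.X₁) ≫ S.f) (by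
    rw [Preadditive.comp_sub, ← Category.assoc, he', hc, sub_self])
  refine ⟨a', HomRes.aug_comp_injective π ?_⟩
  rw [← Category.assoc, ha', Preadditive.sub_comp, Category.assoc, S.zero, comp_zero, sub_zero, ha]

variable [EnoughInjectives A] [HasExt.{v} A]

theorem isZero_homology_homCx_of_injective {M : A} {P : ChainComplex A ℕ}
    (π : P ⟶ (ChainComplex.single₀ A).obj M) [QuasiIso π] (I : A) [Injective I] (p : ℕ) :
    IsZero (((HomRes.homCx P).obj I).homology (p + 1)) := by
  obtain ⟨e⟩ := HomRes.nonempty_homology_addEquiv_ext π (p + 1) I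
    (fun m q => subsingleton_of_forall_eq 0 fun x => Ext.eq_zero_of_injective x)
  have : Subsingleton (Ext M I (p + 1)) :=
    subsingleton_of_forall_eq 0 fun x => Ext.eq_zero_of_injective x
  have := e.toEquiv.subsingleton
  exact AddCommGrpCat.isZero_of_subsingleton _

/-- Cartan's criterion. -/
theorem cartan {β γ : Type*} (M : β → A) (t : γ → β) (P : γ → ChainComplex A ℕ)
    (π : ∀ c, P c ⟶ (ChainComplex.single₀ A).obj (M (t c))) (hπ : ∀ c, QuasiIso (π c))
    (hcover : ∀ (b : β) {X Y : A} (g : X ⟶ Y) [Epi g] (h : M b ⟶ Y), ∃ (c : γ) (e : t c = b)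
      (a : (P c).X 0 ⟶ X), a ≫ g = HomRes.aug (π c) ≫ eqToHom (congrArg M e) ≫ h)
    (hP : ∀ (c : γ) (n : ℕ) (G : A), (∀ b, Subsingleton (Ext (M b) G 1)) →
      Subsingleton (Ext ((P c).X n) G 1))
    (q : ℕ) : ∀ F : A, (∀ c p, IsZero (((HomRes.homCx (P c)).obj F).homology (p + 1))) →
      ∀ b, Subsingleton (Ext (M b) F (q + 1)) := by
  have step : ∀ F : A, (∀ c p, IsZero (((HomRes.homCx (P c)).obj F).homology (p + 1))) →
      ∀ b, Subsingleton (Ext (M b) F 1) := by
    intro F hF b
    refine DimShift.subsingleton_one (DimShift.inj_shortExact F) fun g => ?_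
    have := (DimShift.inj_shortExact F).epi_g
    obtain ⟨c, rfl, a, ha⟩ := hcover b (DimShift.inj F).g g
    rw [eqToHom_refl, Category.id_comp] at ha
    have := hπ c
    exact exists_lift_of_exactAt (π c) (DimShift.inj_shortExact F)
      ((HomologicalComplex.exactAt_iff_isZero_homology _ _).2 (hF c 0)) g a ha
  induction q with
  | zero => exact step
  | succ q ih =>
    intro F hF b
    refine DimShift.subsingleton_succ (DimShift.inj_shortExact F) q (ih _ (fun c p => ?_) b)
    have hC := HomRes.homCx_map_shortExact (P := P c) (DimShift.inj F) (DimShift.inj_shortExact F)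
      (fun n => hP c n F (step F hF))
    have := hπ c
    exact (hC.homology_exact₃ (p + 1) (p + 1 + 1) rfl).isZero_of_both_zeros
      ((isZero_homology_homCx_of_injective (π c) _ p).eq_of_src _ _) ((hF c (p + 1)).eq_of_tgt _ _)

end Groth.Agent.SiteCoh.Cartan
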