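import Groth.Agent.SiteCoh.CechLike
import Groth.Agent.SiteCoh.HomRes
import Mathlib.CategoryTheory.Limits.Shapes.ConcreteCategory
import Mathlib.CategoryTheory.Preadditive.Yoneda.Limits

/-!
# The Čech complex of a family as a complex of morphisms out of free abelian sheaves

For a family `Y` of objects over `U`, the presheaves of sets `∐_a h_{Y_{a 0} ×_U … ×_U Y_{a n}}`
form a simplicial presheaf over the sieve generated by `Y`; the free abelian sheaves on them
resolve the free abelian sheaf on the sieve, and morphisms from them into an abelian sheaf give the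
Čech complex.  Hence Čech cohomology is the `Ext` out of the sieve when the iterated fibre products
are acyclic.
-/

set_option autoImplicit false

universe v u

open CategoryTheory CategoryTheory.Limits Opposite Simplicial AlgebraicTopology
open CategoryTheory.Abelian

namespace Groth.Agent.SiteCoh.Cech

section General

variable {A : Type*} [Category.{v} A] [Abelian A]

theorem hom_sum_apply {M N : AddCommGrpCat.{v}} {β : Type*} (s : Finset β) (f : β → (M ⟶ N)) (x : M) :
    (∑ b ∈ s, f b) x = ∑ b ∈ s, f b x :=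
  map_sum ((AddMonoidHom.eval x).comp (AddCommGrpCat.homAddEquiv (M := M) (N := N)).toAddMonoidHom)
    f s

/-- The cochain complex of morphisms out of a simplicial object. -/
noncomputable def cofaceIso (Z : SimplicialObject A) (F : A) :
    (alternatingCofaceMapComplex AddCommGrpCat.{v}).obj (Z.rightOp ⋙ preadditiveYoneda.obj F) ≅
      (HomRes.homCx ((alternatingFaceMapComplex A).obj Z)).obj F :=
  HomologicalComplex.Hom.isoOfComponents (fun _ => Iso.refl _) (by
    rintro n _ rfl
    ext (φ : Z.obj (op ⦋n⦌) ⟶ F)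
    refine (HomRes.homCx_d_apply ((alternatingFaceMapComplex A).obj Z) F n φ).trans ?_
    change ((alternatingFaceMapComplex A).obj Z).d (n + 1) n ≫ φ =
      ((alternatingCofaceMapComplex AddCommGrpCat.{v}).obj
        (Z.rightOp ⋙ preadditiveYoneda.obj F)).d n (n + 1) φ
    rw [alternatingFaceMapComplex_obj_d]
    simp only [alternatingCofaceMapComplex, AlternatingCofaceMapComplex.obj, CochainComplex.of_d,
      AlternatingCofaceMapComplex.objD, AlternatingFaceMapComplex.objD, Preadditive.sum_comp,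
      Preadditive.zsmul_comp]
    refine Eq.trans ?_ (hom_sum_apply Finset.univ (fun i : Fin (n + 2) => (-1 : ℤ) ^ (i : ℕ) •
      CosimplicialObject.δ (Z.rightOp ⋙ preadditiveYoneda.obj F) i) φ).symm
    refine Finset.sum_congr rfl fun i _ => ?_
    rfl)

variable [EnoughInjectives A] [HasExt.{v} A]

/-- `Ext` out of a coproduct vanishes if it vanishes on the summands. -/
theorem subsingleton_ext_of_bijective {ι : Type*} {Q : ι → A} {P : A} (e : ∀ i, Q i ⟶ P)
    (he : ∀ F : A, Function.Bijective (fun (φ : P ⟶ F) i => e i ≫ φ)) (q : ℕ) :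
    ∀ (F : A), (∀ i q', Subsingleton (Ext (Q i) F (q' + 1))) → Subsingleton (Ext P F (q + 1)) := by
  induction q with
  | zero =>
    intro F hF
    let ι := (EnoughInjectives.presentation F).some
    let S : ShortComplex A := ShortComplex.mk ι.f (cokernel.π ι.f) (cokernel.condition _)
    have hS : S.ShortExact :=
      { exact := ShortComplex.exact_of_g_is_cokernel S (cokernelIsCokernel ι.f)
        mono_f := ι.mono
        epi_g := coequalizer.π_epi }
    have : Injective S.X₂ := ι.injective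
    refine subsingleton_of_forall_eq 0 fun x => ?_
    obtain ⟨y, rfl⟩ := Ext.covariant_sequence_exact₁ P hS x (Ext.eq_zero_of_injective _)
      (rfl : 0 + 1 = 1)
    obtain ⟨g, rfl⟩ := (Ext.mk₀_bijective _ _).2 y
    have hlift : ∀ i, ∃ h : Q i ⟶ S.X₂, h ≫ S.g = e i ≫ g := fun i => by
      obtain ⟨x, hx⟩ := Ext.covariant_sequence_exact₃ _ hS (Ext.mk₀ (e i ≫ g))
        (rfl : 0 + 1 = 1) ((hF i 0).elim _ _)
      obtain ⟨h, rfl⟩ := (Ext.mk₀_bijective _ _).2 x
      rw [Ext.mk₀_comp_mk₀] at hx
      exact ⟨h, (Ext.mk₀_bijective _ _).1 hx⟩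
    choose h hh using hlift
    obtain ⟨H, hH⟩ := (he S.X₂).2 h
    have hg : H ≫ S.g = g := (he S.X₃).1 (funext fun i => by
      change e i ≫ H ≫ S.g = e i ≫ g
      rw [← Category.assoc, show e i ≫ H = h i from congrFun hH i, hh])
    rw [← hg, ← Ext.mk₀_comp_mk₀, Ext.comp_assoc_of_second_deg_zero,
      ShortComplex.ShortExact.comp_extClass, Ext.comp_zero]
  | succ q ih =>
    intro F hF
    let ι := (EnoughInjectives.presentation F).some
    let S : ShortComplex A := ShortComplex.mk ι.f (cokernel.π ι.f) (cokernel.condition _)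
    have hS : S.ShortExact :=
      { exact := ShortComplex.exact_of_g_is_cokernel S (cokernelIsCokernel ι.f)
        mono_f := ι.mono
        epi_g := coequalizer.π_epi }
    have : Injective S.X₂ := ι.injective
    have hQ : ∀ i q', Subsingleton (Ext (Q i) S.X₃ (q' + 1)) := fun i q' =>
      subsingleton_of_forall_eq 0 fun x => by
        obtain ⟨y, rfl⟩ := Ext.covariant_sequence_exact₃ _ hS x rfl ((hF i (q' + 1)).elim _ _)
        rw [Ext.eq_zero_of_injective y, Ext.zero_comp]
    refine subsingleton_of_forall_eq 0 fun x => ?_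
    obtain ⟨y, rfl⟩ := Ext.covariant_sequence_exact₁ P hS x (Ext.eq_zero_of_injective _)
      (rfl : q + 1 + 1 = q + 1 + 1)
    rw [(ih S.X₃ hQ).elim y 0, Ext.zero_comp]

end General

section Family

variable {C : Type u} [SmallCategory C] {U : C}

/-- The coproduct of the representable presheaves of a formal coproduct of objects over `U`. -/
def coprodPsh : FormalCoproduct.{u} (Over U) ⥤ (Cᵒᵖ ⥤ Type u) where
  obj x :=
    { obj := fun V => Σ i : x.I, (V.unop ⟶ (x.obj i).left)
      map := fun g => ↾fun p => ⟨p.1, g.unop ≫ p.2⟩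
      map_id := fun V => by ext p <;> simp
      map_comp := fun g g' => by ext p <;> simp }
  map {x y} f :=
    { app := fun V => ↾fun p => ⟨f.f p.1, p.2 ≫ (f.φ p.1).left⟩
      naturality := fun V W g => by ext p <;> simp }
  map_id x := by ext V p <;> simp
  map_comp f g := by ext V p <;> simp

@[simp]
theorem coprodPsh_obj_map (x : FormalCoproduct.{u} (Over U)) {V W : Cᵒᵖ} (g : V ⟶ W)
    (p : Σ i : x.I, (V.unop ⟶ (x.obj i).left)) :
    (coprodPsh.{u}.obj x).map g p = (⟨p.1, g.unop ≫ p.2⟩ : Σ i : x.I, (W.unop ⟶ (x.obj i).left)) :=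
  rfl

@[simp]
theorem coprodPsh_map_app {x y : FormalCoproduct.{u} (Over U)} (f : x ⟶ y) (V : Cᵒᵖ)
    (p : Σ i : x.I, (V.unop ⟶ (x.obj i).left)) :
    (coprodPsh.{u}.map f).app V p =
      (⟨f.f p.1, p.2 ≫ (f.φ p.1).left⟩ : Σ i : y.I, (V.unop ⟶ (y.obj i).left)) :=
  rfl

/-- The tautological section of a summand. -/
def pt (x : FormalCoproduct.{u} (Over U)) (i : x.I) :
    yoneda.obj (x.obj i).left ⟶ (coprodPsh.{u} (U := U)).obj x where
  app V := ↾fun a => (⟨i, a⟩ : Σ j : x.I, (V.unop ⟶ (x.obj j).left))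
  naturality V W g := by ext a; rfl

theorem yonedaEquiv_pt (x : FormalCoproduct.{u} (Over U)) (i : x.I) :
    yonedaEquiv (pt x i) = ⟨i, 𝟙 _⟩ := rfl

theorem pt_naturality {x y : FormalCoproduct.{u} (Over U)} (f : x ⟶ y) (i : x.I) :
    pt x i ≫ coprodPsh.{u}.map f = yoneda.map (f.φ i).left ≫ pt y (f.f i) := by
  refine yonedaEquiv.injective ?_
  rw [yonedaEquiv_comp, ← yonedaEquiv_naturality, yonedaEquiv_pt, yonedaEquiv_pt]
  refine Sigma.ext rfl (heq_of_eq ?_)
  exact (Category.id_comp _).trans (Category.comp_id _).symm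

/-- A section of the presheaf is a natural family of sections on the summands. -/
theorem comp_pt_bijective (x : FormalCoproduct.{u} (Over U)) (G : Cᵒᵖ ⥤ Type u) :
    Function.Bijective (fun (φ : coprodPsh.{u}.obj x ⟶ G) i => φ.app _ (yonedaEquiv (pt x i))) := by
  refine ⟨fun φ ψ h => ?_, fun s => ?_⟩
  · ext V ⟨i, a⟩
    have hi := congrFun h i
    simp only [yonedaEquiv_pt] at hi
    have hp : (⟨i, a⟩ : Σ j : x.I, (V.unop ⟶ (x.obj j).left)) =
        (coprodPsh.{u}.obj x).map a.op
          (⟨i, 𝟙 _⟩ : Σ j : x.I, ((x.obj i).left ⟶ (x.obj j).left)) :=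
      Sigma.ext rfl (heq_of_eq (Category.comp_id a).symm)
    refine (congrArg _ hp).trans (Eq.trans ?_ (congrArg _ hp).symm)
    exact (NatTrans.naturality_apply φ a.op _).trans
      ((congrArg _ hi).trans (NatTrans.naturality_apply ψ a.op _).symm)
  · refine ⟨{ app := fun V => ↾fun p => G.map p.2.op (s p.1), naturality := fun V W g => ?_ }, ?_⟩
    · ext p
      exact (congrArg (fun h => G.map h (s p.1)) (op_comp (f := g.unop) (g := p.2))).trans
        (Functor.map_comp_apply G _ _ _)
    · funext i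
      exact (congrArg (fun h => G.map h (s i)) op_id).trans (G.map_id_apply _ _)

variable [HasPullbacks C] {ι : Type u} (Y : ι → Over U)

/-- The sieve generated by the family. -/
abbrev gen : Sieve U := Sieve.ofArrows (fun i => (Y i).left) (fun i => (Y i).hom)

theorem hom_mem_gen (n : SimplexCategoryᵒᵖ) (k : ((FormalCoproduct.mk ι Y).cech.obj n).I) :
    gen Y (((FormalCoproduct.mk ι Y).cech.obj n).obj k).hom := by
  have h := Over.w (Pi.π ((FormalCoproduct.mk ι Y).obj ∘ k) (⟨0, Nat.succ_pos _⟩ : Fin _))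
  rw [Sieve.mem_ofArrows_iff]
  exact ⟨_, _, h.symm⟩

/-- The augmented simplicial presheaf of sets of a family. -/
noncomputable def cechAug : SimplicialObject.Augmented (Cᵒᵖ ⥤ Type u) where
  left := (FormalCoproduct.mk ι Y).cech ⋙ coprodPsh
  right := (gen Y).functor
  hom :=
    { app := fun n =>
        { app := fun V => ↾fun p => ⟨p.2 ≫ (((FormalCoproduct.mk ι Y).cech.obj n).obj p.1).hom,
            Sieve.downward_closed _ (hom_mem_gen Y n p.1) _⟩
          naturality := fun V W g => by
            ext p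
            exact Subtype.ext (Category.assoc _ _ _) }
      naturality := fun n m θ => by
        ext V p
        refine Subtype.ext ?_
        change (p.2 ≫ (((FormalCoproduct.mk ι Y).cech.map θ).φ p.1).left) ≫ _ = p.2 ≫ _
        exact (Category.assoc _ _ _).trans (congrArg (p.2 ≫ ·) (Over.w _)) }

/-- A component of a simplex. -/
noncomputable def comp {n : SimplexCategoryᵒᵖ} {V : Cᵒᵖ} (t : Fin (n.unop.len + 1))
    (p : ((cechAug Y).left.obj n).obj V) : Σ i : ι, (V.unop ⟶ (Y i).left) :=
  ⟨p.1 t, p.2 ≫ (Pi.π ((FormalCoproduct.mk ι Y).obj ∘ p.1) t).left⟩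

theorem comp_map {n m : SimplexCategoryᵒᵖ} (θ : n ⟶ m) {V : Cᵒᵖ} (t : Fin (m.unop.len + 1))
    (p : ((cechAug Y).left.obj n).obj V) :
    comp Y t (((cechAug Y).left.map θ).app V p) = comp Y (θ.unop.toOrderHom t) p := by
  refine Sigma.ext rfl (heq_of_eq ?_)
  change (p.2 ≫ (((FormalCoproduct.mk ι Y).cech.map θ).φ p.1).left) ≫ _ = p.2 ≫ _
  refine (Category.assoc _ _ _).trans (congrArg (p.2 ≫ ·) ?_)
  exact (Over.comp_left _ _ _ _ _).symm.trans (congrArg CommaMorphism.left (Pi.lift_π _ _))

theorem aug_eq_comp {n : SimplexCategoryᵒᵖ} {V : Cᵒᵖ} (t : Fin (n.unop.len + 1))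
    (p : ((cechAug Y).left.obj n).obj V) :
    (((cechAug Y).hom.app n).app V p).val = (comp Y t p).2 ≫ (Y (comp Y t p).1).hom := by
  exact (congrArg (p.2 ≫ ·) (Over.w (Pi.π ((FormalCoproduct.mk ι Y).obj ∘ p.1) t)).symm).trans
    (Category.assoc _ _ _).symm

theorem comp_ext {n : SimplexCategoryᵒᵖ} {V : Cᵒᵖ} (p p' : ((cechAug Y).left.obj n).obj V)
    (h : ∀ t, comp Y t p = comp Y t p') : p = p' := by
  have hb : p.2 ≫ (((FormalCoproduct.mk ι Y).cech.obj n).obj p.1).hom =
      p'.2 ≫ (((FormalCoproduct.mk ι Y).cech.obj n).obj p'.1).hom :=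
    (aug_eq_comp Y ⟨0, Nat.succ_pos _⟩ p).trans
      ((congrArg (fun c : Σ i : ι, (V.unop ⟶ (Y i).left) => c.2 ≫ (Y c.1).hom) (h _)).trans
        (aug_eq_comp Y ⟨0, Nat.succ_pos _⟩ p').symm)
  obtain ⟨k, a⟩ := p
  obtain ⟨k', a'⟩ := p'
  obtain rfl : k = k' := funext fun t => congrArg Sigma.fst (h t)
  refine Sigma.ext rfl (heq_of_eq ?_)
  have key : (Over.homMk a rfl : Over.mk (a ≫ (∏ᶜ ((FormalCoproduct.mk ι Y).obj ∘ k)).hom) ⟶
      ∏ᶜ ((FormalCoproduct.mk ι Y).obj ∘ k)) = Over.homMk a' hb.symm := by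
    refine Pi.hom_ext _ _ fun t => Over.OverMorphism.ext ?_
    exact eq_of_heq (Sigma.mk.inj_iff.1 (h t)).2
  exact congrArg CommaMorphism.left key

theorem isCechLike_cechAug (V : Cᵒᵖ) : CechLike.IsCechLike (CechLike.at' (cechAug Y) V) := by
  refine ⟨fun n p p' h => comp_ext Y p p' fun t => ?_, fun n w hw => ?_⟩
  · have := congrArg (comp Y (n := op ⦋0⦌) (0 : Fin 1)) (h t)
    exact (comp_map Y _ _ _).symm.trans (this.trans (comp_map Y _ _ _))
  · let c : Fin (n + 1) → Σ i : ι, (V.unop ⟶ (Y i).left) := fun j => comp Y (0 : Fin 1) (w j)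
    have hc : ∀ j, (c j).2 ≫ (Y (c j).1).hom = (c 0).2 ≫ (Y (c 0).1).hom := fun j =>
      (aug_eq_comp Y (n := op ⦋0⦌) (0 : Fin 1) (w j)).symm.trans
        ((congrArg Subtype.val (hw j)).trans (aug_eq_comp Y (n := op ⦋0⦌) (0 : Fin 1) (w 0)))
    let k : Fin (n + 1) → ι := fun j => (c j).1
    let a : Over.mk ((c 0).2 ≫ (Y (c 0).1).hom) ⟶ ∏ᶜ ((FormalCoproduct.mk ι Y).obj ∘ k) :=
      Pi.lift fun j => Over.homMk (c j).2 (hc j)
    refine ⟨⟨k, a.left⟩, fun j => comp_ext Y (n := op ⦋0⦌) _ _ fun t => ?_⟩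
    obtain rfl : t = (0 : Fin 1) := Subsingleton.elim (α := Fin 1) _ _
    refine (comp_map Y _ _ _).trans (Sigma.ext rfl (heq_of_eq ?_))
    change a.left ≫ (Pi.π ((FormalCoproduct.mk ι Y).obj ∘ k) j).left = (c j).2
    rw [← Over.comp_left, Pi.lift_π]
    rfl

theorem isLocallySurjective_cechAug (J : GrothendieckTopology C) :
    Presheaf.IsLocallySurjective J ((cechAug Y).hom.app (op ⦋0⦌)) := by
  refine Presheaf.isLocallySurjective_of_surjective J _ fun V => ?_
  rintro ⟨g, hg⟩
  obtain ⟨i, b, rfl⟩ := (Sieve.mem_ofArrows_iff _ _ _).1 hg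
  let a : Over.mk (b ≫ (Y i).hom) ⟶ ∏ᶜ ((FormalCoproduct.mk ι Y).obj ∘ fun _ : Fin 1 => i) :=
    Pi.lift fun _ => Over.homMk b rfl
  exact ⟨⟨fun _ => i, a.left⟩, Subtype.ext (Over.w a)⟩

variable (J : GrothendieckTopology C)

omit [HasPullbacks C] in
/-- Evaluation of a morphism out of a free abelian sheaf on a summand. -/
noncomputable def ev (F : Sheaf J AddCommGrpCat.{u}) (x : FormalCoproduct.{u} (Over U)) (i : x.I) :
    ((Free.freePre J).obj (coprodPsh.{u}.obj x) ⟶ F) →+ F.obj.obj (op (x.obj i).left) :=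
  (Free.sectionEquiv J (x.obj i).left F).toAddMonoidHom.comp
    (Preadditive.leftComp F ((Free.freePre J).map (pt x i)))

omit [HasPullbacks C] in
theorem ev_naturality (F : Sheaf J AddCommGrpCat.{u}) {x y : FormalCoproduct.{u} (Over U)}
    (f : x ⟶ y) (i : x.I) (φ : (Free.freePre J).obj (coprodPsh.{u}.obj y) ⟶ F) :
    ev J F x i ((Free.freePre J).map (coprodPsh.{u}.map f) ≫ φ) =
      F.obj.map (f.φ i).left.op (ev J F y (f.f i) φ) := by
  refine Eq.trans ?_ (Free.sectionEquiv_map J (f.φ i).left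
    ((Free.freePre J).map (pt y (f.f i)) ≫ φ))
  simp only [ev, AddMonoidHom.comp_apply, AddEquiv.coe_toAddMonoidHom]
  refine congrArg (Free.sectionEquiv J (x.obj i).left F) ?_
  change (Free.freePre J).map (pt x i) ≫ (Free.freePre J).map (coprodPsh.{u}.map f) ≫ φ =
    (Free.freePre J).map (yoneda.map (f.φ i).left) ≫ _
  rw [← Category.assoc, ← Functor.map_comp, pt_naturality, Functor.map_comp, Category.assoc]

omit [HasPullbacks C] in
theorem ev_bijective (F : Sheaf J AddCommGrpCat.{u}) (x : FormalCoproduct.{u} (Over U)) :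
    Function.Bijective (fun φ i => ev J F x i φ) := by
  have h := (comp_pt_bijective x (F.obj ⋙ forget AddCommGrpCat.{u})).comp
    ((Free.adj J).homEquiv (coprodPsh.{u}.obj x) F).bijective
  have e : (fun φ i => ev J F x i φ) = (fun φ i => φ.app _ (yonedaEquiv (pt x i))) ∘
      (Free.adj J).homEquiv (coprodPsh.{u}.obj x) F := by
    funext φ i
    change yonedaEquiv (((Free.adj J).homEquiv _ F) ((Free.freePre J).map (pt x i) ≫ φ)) = _
    rw [(Free.adj J).homEquiv_naturality_left, yonedaEquiv_comp]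
    rfl
  rw [e]
  exact h

omit [HasPullbacks C] in
/-- Evaluation on all the summands. -/
noncomputable def evAll (F : Sheaf J AddCommGrpCat.{u}) (x : FormalCoproduct.{u} (Over U)) :
    AddCommGrpCat.of ((Free.freePre J).obj (coprodPsh.{u}.obj x) ⟶ F) ⟶
      ∏ᶜ fun i : x.I => F.obj.obj (op (x.obj i).left) :=
  Pi.lift fun i => AddCommGrpCat.ofHom (ev J F x i)

omit [HasPullbacks C] in
theorem evAll_apply (F : Sheaf J AddCommGrpCat.{u}) (x : FormalCoproduct.{u} (Over U)) (i : x.I)
    (φ : (Free.freePre J).obj (coprodPsh.{u}.obj x) ⟶ F) :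
    Pi.π (fun i : x.I => F.obj.obj (op (x.obj i).left)) i (evAll J F x φ) = ev J F x i φ := by
  rw [evAll, ← ConcreteCategory.comp_apply, Pi.lift_π]
  rfl

omit [HasPullbacks C] in
theorem evAll_bijective (F : Sheaf J AddCommGrpCat.{u}) (x : FormalCoproduct.{u} (Over U)) :
    Function.Bijective (evAll J F x) := by
  refine (Function.Bijective.of_comp_iff' (Concrete.productEquiv _).bijective _).1 ?_
  have e : (Concrete.productEquiv fun i : x.I => F.obj.obj (op (x.obj i).left)) ∘ evAll J F x =
      fun φ i => ev J F x i φ := by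
    funext φ i
    simp only [Function.comp_apply, Concrete.productEquiv_apply_apply]
    exact evAll_apply J F x i φ
  rw [e]
  exact ev_bijective J F x

omit [HasPullbacks C] in
/-- `Hom` out of the free abelian sheaves on the coproducts is evaluation on formal coproducts. -/
noncomputable def evIso (F : Sheaf J AddCommGrpCat.{u}) :
    (coprodPsh.{u} (U := U) ⋙ Free.freePre J).op ⋙ preadditiveYoneda.obj F ≅
      (FormalCoproduct.evalOp.{u} (Over U) AddCommGrpCat.{u}).obj ((Over.forget U).op ⋙ F.obj) :=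
  NatIso.ofComponents (fun x =>
    @asIso _ _ _ _ (evAll J F x.unop)
      ((ConcreteCategory.isIso_iff_bijective _).2 (evAll_bijective J F x.unop)))
    (fun {x y} f => by
      refine Pi.hom_ext _ _ fun i => ?_
      ext (φ : (Free.freePre J).obj (coprodPsh.{u}.obj x.unop) ⟶ F)
      simp only [FormalCoproduct.evalOp, Functor.comp_map, Category.assoc, Pi.lift_π]
      exact (evAll_apply J F y.unop i _).trans ((ev_naturality J F f.unop i φ).trans
        (congrArg _ (evAll_apply J F x.unop (f.unop.f i) φ).symm)))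

/-- The Čech complex is the complex of morphisms out of the free abelian sheaves. -/
noncomputable def cechComplexIso (F : Sheaf J AddCommGrpCat.{u}) :
    (cechComplexFunctor Y).obj ((Over.forget U).op ⋙ F.obj) ≅
      (HomRes.homCx ((alternatingFaceMapComplex _).obj
        (((SimplicialObject.Augmented.whiskering _ _).obj (Free.freePre J)).obj
          (cechAug Y)).left)).obj F :=
  (alternatingCofaceMapComplex _).mapIso
    (Functor.isoWhiskerLeft (FormalCoproduct.mk ι Y).cech.rightOp (evIso J F).symm) ≪≫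
  cofaceIso ((FormalCoproduct.mk ι Y).cech ⋙ coprodPsh.{u} ⋙ Free.freePre J) F

/-- Čech cohomology as `Ext` out of the sieve generated by the family. -/
theorem nonempty_cechH_addEquiv (F : Sheaf J AddCommGrpCat.{u})
    (h : ∀ (p : ℕ) (a : Fin (p + 1) → ι) (q : ℕ),
      Subsingleton (CohSite.HU F (q + 1) (∏ᶜ fun k => Y (a k)).left)) (p : ℕ) :
    Nonempty (CohCx.cechH F.obj Y p ≃+
      Ext ((Free.freePre J).obj (gen Y).functor) F p) := by
  let X := ((SimplicialObject.Augmented.whiskering _ _).obj (Free.freePre J)).obj (cechAug Y)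
  have : QuasiIso (AlternatingFaceMapComplex.ε.app X) :=
    CechLike.quasiIso_free_ε J (cechAug Y) (isCechLike_cechAug Y) (isLocallySurjective_cechAug Y J)
  obtain ⟨e⟩ := HomRes.nonempty_homology_addEquiv_ext (AlternatingFaceMapComplex.ε.app X) p F
    (fun m q => subsingleton_ext_of_bijective
      (A := Sheaf J AddCommGrpCat.{u})
      (P := (Free.freePre J).obj (coprodPsh.{u}.obj ((FormalCoproduct.mk ι Y).cech.obj (op ⦋m⦌))))
      (fun k => (Free.freePre J).map (pt ((FormalCoproduct.mk ι Y).cech.obj (op ⦋m⦌)) k))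
      (fun G => by
        have hb := ev_bijective J G ((FormalCoproduct.mk ι Y).cech.obj (op ⦋m⦌))
        let E := Equiv.piCongrRight fun k =>
          (Free.sectionEquiv J (((FormalCoproduct.mk ι Y).cech.obj (op ⦋m⦌)).obj k).left G).toEquiv
        exact (Function.Bijective.of_comp_iff' E.bijective _).1 hb)
      q F (fun k q' => h m k q'))
  exact ⟨((HomologicalComplex.homologyFunctor _ _ p).mapIso
    (cechComplexIso Y J F)).addCommGroupIsoToAddEquiv.trans e⟩

/-- For a covering family, the sieve may be replaced by the object. -/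
theorem nonempty_cechH_addEquiv_HU (F : Sheaf J AddCommGrpCat.{u}) (hY : gen Y ∈ J U)
    (h : ∀ (p : ℕ) (a : Fin (p + 1) → ι) (q : ℕ),
      Subsingleton (CohSite.HU F (q + 1) (∏ᶜ fun k => Y (a k)).left)) (p : ℕ) :
    Nonempty (CohCx.cechH F.obj Y p ≃+ CohSite.HU F p U) := by
  obtain ⟨e⟩ := nonempty_cechH_addEquiv Y J F h p
  have hW : J.W (gen Y).functorInclusion := by
    rw [GrothendieckTopology.W_iff_isLocallyBijective]
    refine ⟨Presheaf.isLocallyInjective_of_injective _ _ fun V => fun a b hab => Subtype.ext hab,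
      ⟨fun {V} g => J.superset_covering (fun W k hk => ⟨⟨k ≫ g, hk⟩, rfl⟩)
        (J.pullback_stable g hY)⟩⟩
  have := Free.isIso_freePre_map_of_W J _ hW
  exact ⟨e.trans ((((extFunctor (C := Sheaf J AddCommGrpCat.{u}) p).flip.obj F).mapIso
    (asIso ((Free.freePre J).map (gen Y).functorInclusion)).op).addCommGroupIsoToAddEquiv).symm⟩

end Family

end Groth.Agent.SiteCoh.Cech
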