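import Groth.Agent.SiteCoh.NerveMap
import Groth.Agent.SiteCoh.Cech
import Groth.Agent.SiteCoh.Cartan
import Groth.Agent.Topos.Sheaf
import Mathlib.CategoryTheory.Sites.Pullback

/-!
# Totally acyclic sheaves: Čech criterion and direct images
-/

set_option autoImplicit false

universe u

open CategoryTheory CategoryTheory.Limits Opposite Simplicial AlgebraicTopology
open CategoryTheory.Abelian

namespace Groth.Agent.SiteCoh.Totally

variable {C : Type u} [SmallCategory C] {J : GrothendieckTopology C}

/-- The Čech complex of an epimorphism is `Hom` out of the free nerve. -/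
noncomputable def nerveCxIso (F : Sheaf J AddCommGrpCat.{u}) {K' K : Sheaf J (Type u)} (f : K' ⟶ K) :
    CohCx.cechNerveCx F f ≅ (HomRes.homCx ((alternatingFaceMapComplex _).obj
      (((SimplicialObject.Augmented.whiskering _ _).obj (Free.freePre J)).obj
        (Nerve.nerve f)).left)).obj F :=
  Cech.cofaceIso (((SimplicialObject.Augmented.whiskering _ _).obj (Free.freePre J)).obj
    (Nerve.nerve f)).left F

/-- A morphism out of a free abelian sheaf lifts along an epimorphism after an epimorphic base
change. -/
theorem exists_cover {L : Sheaf J (Type u)} {X Z : Sheaf J AddCommGrpCat.{u}} (g : X ⟶ Z) [Epi g]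
    (a : (Free.freePre J).obj L.obj ⟶ Z) :
    ∃ (L' : Sheaf J (Type u)) (f : L' ⟶ L), Epi f ∧
      ∃ x : (Free.freePre J).obj (widePullback L (fun _ : Fin 1 => L') fun _ => f).obj ⟶ X,
        x ≫ g = (Free.freePre J).map (WidePullback.base fun _ : Fin 1 => f).hom ≫ a := by
  let gs : (sheafCompose J (forget AddCommGrpCat.{u})).obj X ⟶
      (sheafCompose J (forget AddCommGrpCat.{u})).obj Z :=
    (sheafCompose J (forget AddCommGrpCat.{u})).map g
  have hg : Sheaf.IsLocallySurjective g := (Sheaf.isLocallySurjective_iff_epi' _ g).2 inferInstance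
  have hgs : Sheaf.IsLocallySurjective gs := by
    dsimp only [gs]
    infer_instance
  let b : L ⟶ (sheafCompose J (forget AddCommGrpCat.{u})).obj Z :=
    ⟨(Free.adj J).homEquiv L.obj Z a⟩
  have h1 := Groth.Agent.Topos.Sheaf.sheaf_isLocallySurjective_of_isPullback J
    (IsPullback.of_hasPullback b gs)
  have hepi : Epi (pullback.fst b gs) := (Sheaf.isLocallySurjective_iff_epi' _ _).1 h1
  let π := WidePullback.π (fun _ : Fin 1 => pullback.fst b gs) 0
  have key : (π ≫ pullback.snd b gs) ≫ gs = WidePullback.base (fun _ : Fin 1 => pullback.fst b gs) ≫ b := by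
    rw [Category.assoc, ← pullback.condition, ← Category.assoc, WidePullback.π_arrow]
  refine ⟨pullback b gs, pullback.fst b gs, hepi,
    ((Free.adj J).homEquiv _ X).symm (π ≫ pullback.snd b gs).hom,
    ((Free.adj J).homEquiv _ Z).injective ?_⟩
  rw [(Free.adj J).homEquiv_naturality_right, Equiv.apply_symm_apply,
    (Free.adj J).homEquiv_naturality_left]
  exact congrArg (fun φ => φ.hom) key

/-- Čech acyclicity for all epimorphisms of sheaves of sets implies total acyclicity. -/
theorem isTotallyAcyclic_of_nerve (F : Sheaf J AddCommGrpCat.{u})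
    (h : ∀ (K' K : Sheaf J (Type u)) (f : K' ⟶ K), Epi f →
      ∀ p : ℕ, IsZero ((CohCx.cechNerveCx F f).homology (p + 1))) :
    CohCx.IsTotallyAcyclic F := by
  intro K q
  let γ := Σ' (L : Sheaf J (Type u)) (L' : Sheaf J (Type u)) (f : L' ⟶ L), Epi f
  refine Cartan.cartan (A := Sheaf J AddCommGrpCat.{u}) (γ := γ)
    (fun L : Sheaf J (Type u) => (Free.freePre J).obj L.obj) (fun c => c.1)
    (fun c => (alternatingFaceMapComplex _).obj
      (((SimplicialObject.Augmented.whiskering _ _).obj (Free.freePre J)).obj
        (Nerve.nerve c.2.2.1)).left)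
    (fun c => AlternatingFaceMapComplex.ε.app
      (((SimplicialObject.Augmented.whiskering _ _).obj (Free.freePre J)).obj (Nerve.nerve c.2.2.1)))
    (fun c => have := c.2.2.2; Nerve.quasiIso_free_nerve c.2.2.1)
    ?_ ?_ q F (fun c p => (h _ _ c.2.2.1 c.2.2.2 p).of_iso
      ((HomologicalComplex.homologyFunctor _ _ (p + 1)).mapIso (nerveCxIso F c.2.2.1)).symm) K
  · intro L X Z g _ a
    obtain ⟨L', f, hf, x, hx⟩ := exists_cover g a
    refine ⟨⟨L, L', f, hf⟩, rfl, x, hx.trans ?_⟩
    rw [eqToHom_refl, Category.id_comp]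
    refine congrArg (· ≫ a) ?_
    rw [HomRes.aug]
    simp [AlternatingFaceMapComplex.ε_app_f_zero, SimplicialObject.Augmented.whiskering,
      SimplicialObject.Augmented.whiskeringObj]
    rfl
  · exact fun c n G hG => hG ((Arrow.mk c.2.2.1).cechNerve.obj (op ⦋n⦌))

theorem isTotallyAcyclic_of_injective (I : Sheaf J AddCommGrpCat.{u}) [Injective I] :
    CohCx.IsTotallyAcyclic I := fun _ _ =>
  subsingleton_of_forall_eq 0 fun x => Ext.eq_zero_of_injective x

section Push

variable {D : Type u} [SmallCategory D] (K : GrothendieckTopology D) (u : D ⥤ C) [u.IsContinuous K J]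

/-- The comparison between free abelian sheaves on a sheaf of sets and on its pullback. -/
noncomputable def freePushUnit (L : Sheaf K (Type u)) :
    (Free.freePre K).obj L.obj ⟶
      (CohSite.push J K u).obj ((Free.freePre J).obj ((u.sheafPullback (Type u) K J).obj L).obj) :=
  ((Free.adj K).homEquiv L.obj _).symm
    (((u.sheafAdjunctionContinuous (Type u) K J).unit.app L).hom ≫
      Functor.whiskerLeft u.op ((Free.adj J).unit.app ((u.sheafPullback (Type u) K J).obj L).obj))

theorem freePushUnit_naturality {L L' : Sheaf K (Type u)} (g : L' ⟶ L) :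
    (Free.freePre K).map g.hom ≫ freePushUnit K u L = freePushUnit K u L' ≫
      (CohSite.push J K u).map ((Free.freePre J).map ((u.sheafPullback (Type u) K J).map g).hom) := by
  refine ((Free.adj K).homEquiv _ _).injective ?_
  rw [(Free.adj K).homEquiv_naturality_left, (Free.adj K).homEquiv_naturality_right, freePushUnit,
    freePushUnit, Equiv.apply_symm_apply, Equiv.apply_symm_apply]
  have h1 := congrArg (fun φ => φ.hom) ((u.sheafAdjunctionContinuous (Type u) K J).unit.naturality g)
  have h2 := (Free.adj J).unit.naturality ((u.sheafPullback (Type u) K J).map g).hom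
  dsimp at h1 h2 ⊢
  rw [← Category.assoc, h1]
  refine (Category.assoc _ _ _).trans (Eq.trans ?_ (Category.assoc _ _ _).symm)
  refine congrArg (((u.sheafAdjunctionContinuous (Type u) K J).unit.app L').hom ≫ ·) ?_
  exact congrArg (Functor.whiskerLeft u.op) h2

/-- `H⁰(L, u_* F) = H⁰(u^* L, F)`. -/
noncomputable def homPush (F : Sheaf J AddCommGrpCat.{u}) (L : Sheaf K (Type u)) :
    ((Free.freePre J).obj ((u.sheafPullback (Type u) K J).obj L).obj ⟶ F) →+
      ((Free.freePre K).obj L.obj ⟶ (CohSite.push J K u).obj F) :=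
  (Preadditive.leftComp _ (freePushUnit K u L)).comp (CohSite.push J K u).mapAddHom

theorem homPush_bijective (F : Sheaf J AddCommGrpCat.{u}) (L : Sheaf K (Type u)) :
    Function.Bijective (homPush K u F L) := by
  let G := (u.sheafPullback (Type u) K J).obj L
  let Fs := (sheafCompose J (forget AddCommGrpCat.{u})).obj F
  let e : ((Free.freePre J).obj G.obj ⟶ F) ≃
      ((Free.freePre K).obj L.obj ⟶ (CohSite.push J K u).obj F) :=
    ((((Free.adj J).homEquiv G.obj F).trans
      ((fullyFaithfulSheafToPresheaf J (Type u)).homEquiv (X := G) (Y := Fs)).symm).trans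
      (((u.sheafAdjunctionContinuous (Type u) K J).homEquiv L Fs).trans
        ((fullyFaithfulSheafToPresheaf K (Type u)).homEquiv (X := L)))).trans
      ((Free.adj K).homEquiv L.obj ((CohSite.push J K u).obj F)).symm
  have he : ⇑(homPush K u F L) = e := by
    funext a
    refine ((Free.adj K).homEquiv _ _).injective ?_
    simp only [e, Equiv.trans_apply, Equiv.apply_symm_apply]
    change (Free.adj K).homEquiv L.obj _ (freePushUnit K u L ≫ (CohSite.push J K u).map a) = _
    rw [(Free.adj K).homEquiv_naturality_right, freePushUnit, Equiv.apply_symm_apply,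
      (u.sheafAdjunctionContinuous (Type u) K J).homEquiv_unit, (Free.adj J).homEquiv_unit]
    erw [Equiv.apply_symm_apply ((Free.adj K).homEquiv L.obj ((CohSite.push J K u).obj F))]
    ext V x
    rfl
  rw [he]
  exact e.bijective

/-- `H⁰(-, u_* F) = H⁰(u^* -, F)`. -/
noncomputable def HK0Iso (F : Sheaf J AddCommGrpCat.{u}) :
    (u.sheafPullback (Type u) K J).op ⋙ CohCx.HK0Functor J F ≅
      CohCx.HK0Functor K ((CohSite.push J K u).obj F) :=
  NatIso.ofComponents
    (fun L => (AddEquiv.ofBijective _ (homPush_bijective K u F L.unop)).toAddCommGrpIso)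
    (fun {L L'} g => by
      ext (a : (Free.freePre J).obj ((u.sheafPullback (Type u) K J).obj L.unop).obj ⟶ F)
      change freePushUnit K u L'.unop ≫ (CohSite.push J K u).map
          ((Free.freePre J).map ((u.sheafPullback (Type u) K J).map g.unop).hom ≫ a) =
        (Free.freePre K).map g.unop.hom ≫ freePushUnit K u L.unop ≫ (CohSite.push J K u).map a
      rw [Functor.map_comp, ← Category.assoc, ← freePushUnit_naturality, Category.assoc])

variable [PreservesFiniteLimits (u.sheafPullback (Type u) K J)]

/-- Direct images of totally acyclic sheaves are totally acyclic. -/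
theorem isTotallyAcyclic_push (F : Sheaf J AddCommGrpCat.{u}) (hF : CohCx.IsTotallyAcyclic F) :
    CohCx.IsTotallyAcyclic ((CohSite.push J K u).obj F) := by
  refine isTotallyAcyclic_of_nerve _ fun L' L f _ p => ?_
  let G := u.sheafPullback (Type u) K J
  have : Epi (G.map f) := by
    have : G.IsLeftAdjoint := (u.sheafAdjunctionContinuous (Type u) K J).isLeftAdjoint
    infer_instance
  have := NerveMap.quasiIso_free_nerveMap G f
  let X := ((SimplicialObject.Augmented.whiskering _ _).obj (Free.freePre J)).obj
    (NerveMap.nerveMap G f)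
  obtain ⟨e⟩ := HomRes.nonempty_homology_addEquiv_ext (AlternatingFaceMapComplex.ε.app X) (p + 1) F
    (fun m k => hF (G.obj ((Arrow.mk f).cechNerve.obj (op ⦋m⦌))) k)
  have := @Equiv.subsingleton _ _ e.toEquiv (hF (G.obj L) p)
  exact (@AddCommGrpCat.isZero_of_subsingleton _ this).of_iso
    ((HomologicalComplex.homologyFunctor _ _ (p + 1)).mapIso
      ((alternatingCofaceMapComplex _).mapIso
          (Functor.isoWhiskerLeft (Arrow.mk f).cechNerve.rightOp (HK0Iso K u F)).symm ≪≫
        Cech.cofaceIso X.left F))

end Push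

end Groth.Agent.SiteCoh.Totally
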