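import Groth.Agent.SiteCoh.AbColim
import Groth.Agent.SiteCoh.Totally
import Groth.Agent.TopFin.Colim
import Mathlib.CategoryTheory.Abelian.GrothendieckAxioms.Sheaf
import Mathlib.CategoryTheory.Sites.PreservesSheafification

/-!
# Cohomology and filtered colimits of abelian sheaves

For a class of quasi-compact sheaves of sets which is stable under fibre products and in which
epimorphisms onto members can be refined, `Ext^q(ℤ[T], -)` commutes with filtered colimits for every
member `T`.
-/

set_option autoImplicit false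
open CategoryTheory CategoryTheory.Limits CategoryTheory.Abelian Opposite AlgebraicTopology
universe w u

namespace Groth.Agent.SiteCoh.SheafColim

open Groth.Agent.TopFin Groth.Agent.TopFin.QC
open ToposFin (IsQC IsQCHom IsQS IsCoherent HasQCGenerators)

variable {C : Type u} [SmallCategory C] {J : GrothendieckTopology C}

variable (J) in
/-- The underlying sheaf of sets. -/
noncomputable abbrev U : Sheaf J AddCommGrpCat.{u} ⥤ ToposFin.Sh J :=
  sheafCompose J (forget AddCommGrpCat.{u})

/-- Morphisms out of free abelian sheaves on sheaves of sets. -/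
noncomputable def hom (T : ToposFin.Sh J) (F : Sheaf J AddCommGrpCat.{u}) :
    ((Free.freePre J).obj T.obj ⟶ F) ≃ (T ⟶ (U J).obj F) :=
  ((Free.adj J).homEquiv T.obj F).trans ⟨fun f => ⟨f⟩, fun f => f.hom, fun _ => rfl, fun _ => rfl⟩

theorem hom_comp {T : ToposFin.Sh J} {F G : Sheaf J AddCommGrpCat.{u}}
    (a : (Free.freePre J).obj T.obj ⟶ F) (φ : F ⟶ G) :
    hom T G (a ≫ φ) = hom T F a ≫ (U J).map φ :=
  Sheaf.hom_ext ((Free.adj J).homEquiv_naturality_right a φ)

variable {I : Type u} [SmallCategory I] [IsFiltered I]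

instance preservesColimitsOfShape_U : PreservesColimitsOfShape I (U J) where
  preservesColimit {D} := by
    let a := presheafToSheaf J AddCommGrpCat.{u}
    let adj := sheafificationAdjunction J AddCommGrpCat.{u}
    let K := D ⋙ sheafToPresheaf J AddCommGrpCat.{u}
    let W := (Functor.whiskeringRight Cᵒᵖ AddCommGrpCat.{u} (Type u)).obj (forget AddCommGrpCat.{u})
    let e : W ⋙ presheafToSheaf J (Type u) ≅ a ⋙ U J :=
      sheafComposeNatIso J (forget AddCommGrpCat.{u}) adj (sheafificationAdjunction J (Type u))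
    have : PreservesColimitsOfShape I (forget AddCommGrpCat.{u}) :=
      PreservesFilteredColimitsOfSize.preserves_filtered_colimits I
    have : PreservesColimitsOfShape I (W ⋙ presheafToSheaf J (Type u)) := inferInstance
    have : PreservesColimitsOfShape I (a ⋙ U J) := preservesColimitsOfShape_of_natIso e
    have : PreservesColimit (K ⋙ a) (U J) :=
      preservesColimit_of_preserves_colimit_cocone
        (isColimitOfPreserves a (colimit.isColimit K)) (isColimitOfPreserves (a ⋙ U J) (colimit.isColimit K))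
    exact preservesColimit_of_iso_diagram (U J)
      (NatIso.ofComponents (fun i => asIso (adj.counit.app (D.obj i)))
        (fun φ => adj.counit.naturality (D.map φ)) : K ⋙ a ≅ D)

theorem ι_post (D : I ⥤ Sheaf J AddCommGrpCat.{u}) (i : I) :
    colimit.ι (D ⋙ U J) i ≫ colimit.post D (U J) = (U J).map (colimit.ι D i) :=
  colimit.ι_post D (U J) i

/-- Quasi-compactness gives eventual vanishing. -/
theorem vanishes {T : ToposFin.Sh J} (hT : IsQC T) (D : I ⥤ Sheaf J AddCommGrpCat.{u}) :
    AbColim.Vanishes ((Free.freePre J).obj T.obj) D := by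
  intro i a ha
  have h : hom T _ a ≫ (U J).map (colimit.ι D i) = hom T (D.obj i) 0 ≫ (U J).map (colimit.ι D i) := by
    rw [← hom_comp, ← hom_comp, ha, zero_comp]
  rw [← ι_post] at h
  obtain ⟨j, φ, hφ⟩ := Colim.exists_eq_stage hT (D ⋙ U J) (hom T _ a) (hom T (D.obj i) 0)
    ((cancel_mono (colimit.post D (U J))).1 (by simpa only [Category.assoc] using h))
  refine ⟨j, φ, (hom T _).injective ?_⟩
  rw [hom_comp]
  refine hφ.trans ?_
  exact (hom_comp _ _).symm.trans (by rw [zero_comp])

/-- Coverings can be refined by finite quasi-compact ones with quasi-compact overlaps. -/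
def Good (T : ToposFin.Sh J) : Prop :=
  ∀ (ι : Type u) (F : ι → ToposFin.Sh J) (π : ∀ i, F i ⟶ T), JE π →
    ∃ (n : ℕ) (K : Fin n → ToposFin.Sh J) (p : ∀ k, K k ⟶ T) (idx : Fin n → ι)
      (l : ∀ k, K k ⟶ F (idx k)), JE p ∧ (∀ k, l k ≫ π (idx k) = p k) ∧ (∀ k, IsQC (K k)) ∧
      ∀ k k', IsQC (pullback (p k) (p k'))

omit [IsFiltered I] in
theorem good_of_coherent (hE : HasQCGenerators J) {T : ToposFin.Sh J} (hT : IsCoherent T) :
    Good T := fun _ _ _ hπ => by
  obtain ⟨n, K, p, idx, l, hK, hp, hl⟩ := exists_lift (gens_qc hE) hT.1 (𝟙 T) hπ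
  exact ⟨n, K, p, idx, l, hp, fun k => (hl k).trans (Category.comp_id _), hK,
    fun k k' => hT.2 _ _ (p k) (p k') (hK k) (hK k')⟩

theorem exists_hom_stage {T : ToposFin.Sh J} (hT : Good T) (D : I ⥤ ToposFin.Sh J)
    (t : T ⟶ colimit D) : ∃ i, ∃ a : T ⟶ D.obj i, a ≫ colimit.ι D i = t := by
  obtain ⟨n, K, p, idx, l₀, hp, hl₀, hK, hKK⟩ := hT I _ _
    ((je_of_covering (Topos.Gen.covering_colimit (colimit.isColimit D))).pullback t)
  let l := fun k => l₀ k ≫ pullback.snd t (colimit.ι D (idx k))
  classical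
  obtain ⟨j₀, hj₀⟩ := IsFiltered.sup_objs_exists (Finset.univ.image idx)
  let u : ∀ k, idx k ⟶ j₀ := fun k => (hj₀ (Finset.mem_image_of_mem _ (Finset.mem_univ k))).some
  let g := fun k => l k ≫ D.map (u k)
  have hg : ∀ k, g k ≫ colimit.ι D j₀ = p k ≫ t := fun k => by
    simp only [g, l, Category.assoc, colimit.w]
    refine (congrArg (l₀ k ≫ ·) (pullback.condition (f := t) (g := colimit.ι D (idx k))).symm).trans ?_
    exact (Category.assoc _ _ _).symm.trans (congrArg (· ≫ t) (hl₀ k))
  have hpair : ∀ q : Fin n × Fin n, ∃ j, ∃ φ : j₀ ⟶ j,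
      (pullback.fst (p q.1) (p q.2) ≫ g q.1) ≫ D.map φ =
        (pullback.snd (p q.1) (p q.2) ≫ g q.2) ≫ D.map φ := fun q =>
    Colim.exists_eq_stage (hKK q.1 q.2) D _ _ (by
      simp only [Category.assoc, hg, pullback.condition_assoc])
  choose j φ hφ using hpair
  obtain ⟨m, ψ, hm⟩ := Colim.exists_bound j φ
  obtain ⟨a, ha⟩ := (Topos.Gen.axioms J).exists_desc (f := fun k : ULift.{u} (Fin n) => p k.down)
    (JE.covering fun Z x y hxy => hp x y fun k => hxy ⟨k⟩) (fun k => g k.down ≫ D.map ψ)
    (fun k k' X x y hxy => by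
      obtain ⟨χ, hχ⟩ := hm (k.down, k'.down)
      have := congrArg (fun s => pullback.lift x y hxy ≫ s ≫ D.map χ) (hφ (k.down, k'.down))
      simp only [Category.assoc, pullback.lift_fst_assoc, pullback.lift_snd_assoc] at this
      rw [← hχ, Functor.map_comp]
      exact this)
  refine ⟨m, a, hp _ _ fun k => ?_⟩
  rw [← Category.assoc]
  exact (congrArg (· ≫ colimit.ι D m) (ha ⟨k⟩)).trans (by rw [Category.assoc, colimit.w, hg])

/-- Morphisms out of good objects into colimits come from a stage. -/
theorem lifts {T : ToposFin.Sh J} (hT : Good T) (D : I ⥤ Sheaf J AddCommGrpCat.{u}) :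
    AbColim.Lifts ((Free.freePre J).obj T.obj) D := by
  intro t
  obtain ⟨i, a, ha⟩ := exists_hom_stage hT (D ⋙ U J) (hom T _ t ≫ inv (colimit.post D (U J)))
  refine ⟨i, (hom T _).symm a, (hom T _).injective ?_⟩
  rw [hom_comp, Equiv.apply_symm_apply, ← ι_post, ← Category.assoc, ha]
  simp

/-! ## Classes stable under fibre products -/

/-- A class of quasi-compact sheaves of sets, stable under fibre products, in which epimorphisms
onto members can be refined. -/
structure Cls (S : Set (ToposFin.Sh J)) : Prop where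
  qc : ∀ K ∈ S, IsQC K
  iso : ∀ ⦃K L : ToposFin.Sh J⦄, (K ≅ L) → K ∈ S → L ∈ S
  pb : ∀ ⦃K L M : ToposFin.Sh J⦄ (f : K ⟶ M) (g : L ⟶ M), K ∈ S → L ∈ S → M ∈ S → pullback f g ∈ S
  refine' : ∀ (F K : ToposFin.Sh J) (g : F ⟶ K), K ∈ S → Epi g →
    ∃ (K' : ToposFin.Sh J) (k : K' ⟶ F), K' ∈ S ∧ Epi (k ≫ g)

variable {S : Set (ToposFin.Sh J)}

omit [IsFiltered I] in
theorem good (hS : Cls S) {T : ToposFin.Sh J} (hT : T ∈ S) : Good T := by
  intro ι F π hπ
  classical
  let c : Cofan F := colimit.cocone (Discrete.functor F)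
  have hc : IsColimit c := colimit.isColimit _
  obtain ⟨K', k, hK', hk⟩ := hS.refine' _ T (Sigma.desc π) hT (epi_desc_iff.2 hπ)
  let r := k ≫ Sigma.desc π
  obtain ⟨hqc, s, hs⟩ := Coprod.pieces hc (hS.qc _ hK') k
  let idx : Fin s.card → ι := fun x => (s.equivFin.symm x).1
  refine ⟨s.card, fun x => pullback k (c.inj (idx x)), fun x => pullback.fst k (c.inj (idx x)) ≫ r, idx,
    fun x => pullback.snd k (c.inj (idx x)), fun Z a b hab => ?_, fun x => ?_, fun x => hqc _,
    fun x y => ?_⟩
  · refine (cancel_epi r).1 (hs _ _ fun i => ?_)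
    obtain ⟨x, rfl⟩ := s.equivFin.symm.surjective i
    simpa [idx] using hab x
  · simp only [r, ← Category.assoc]
    rw [pullback.condition, Category.assoc]
    exact congrArg _ (Sigma.ι_desc π (idx x)).symm
  · have hq : ∀ z : ι, IsQCHom (pullback.fst k (c.inj z)) := fun z =>
      IsQCHom.baseChange (IsPullback.of_hasPullback k (c.inj z)).flip (Coprod.isQCHom_inj hc z)
    exact isQC_of_isQCHom (isQCHom_map r r (hq _) (hq _)) (hS.qc _ (hS.pb r r hK' hK' hT))

omit [IsFiltered I] in
theorem widePullback_mem (hS : Cls S) {L' L : ToposFin.Sh J} (f : L' ⟶ L) (hL' : L' ∈ S) (hL : L ∈ S) :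
    ∀ n : ℕ, widePullback L (fun _ : Fin (n + 1) => L') (fun _ => f) ∈ S
  | 0 => hS.iso (⟨WidePullback.lift f (fun _ => 𝟙 L') (fun _ => Category.id_comp f),
      WidePullback.π (fun _ : Fin 1 => f) 0, WidePullback.lift_π _ _ _ _ _,
      WidePullback.hom_ext _ _ _ (fun j => by rw [Category.assoc, WidePullback.lift_π, Category.comp_id, Category.id_comp, Subsingleton.elim j 0])
        (by rw [Category.assoc, WidePullback.lift_base, Category.id_comp, WidePullback.π_arrow])⟩ :
      L' ≅ widePullback L (fun _ : Fin 1 => L') (fun _ => f)) hL'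
  | n + 1 => by
    let B := WidePullback.base (fun _ : Fin (n + 1) => f)
    have hw : WidePullback.lift (WidePullback.base (fun _ : Fin (n + 2) => f))
        (fun i : Fin (n + 1) => WidePullback.π (fun _ : Fin (n + 2) => f) i.succ)
        (fun i => WidePullback.π_arrow _ _) ≫ B = WidePullback.π (fun _ : Fin (n + 2) => f) 0 ≫ f := by
      rw [WidePullback.lift_base, WidePullback.π_arrow]
    refine hS.iso ?_ (hS.pb B f (widePullback_mem hS f hL' hL n) hL' hL)
    exact
      { hom := WidePullback.lift (pullback.fst B f ≫ B)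
          (Fin.cases (pullback.snd B f) fun i => pullback.fst B f ≫ WidePullback.π _ i)
          (Fin.cases pullback.condition.symm fun i => by
            simp only [Fin.cases_succ, Category.assoc, WidePullback.π_arrow]; rfl)
        inv := pullback.lift _ _ hw
        hom_inv_id := by
          refine pullback.hom_ext (WidePullback.hom_ext _ _ _ (fun i => ?_) ?_) ?_
          · simp [pullback.lift_fst_assoc, B, WidePullback.lift_π, WidePullback.lift_π_assoc, WidePullback.lift_base, WidePullback.lift_base_assoc, pullback.lift_fst, pullback.lift_snd_assoc]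
          · simp [pullback.lift_fst_assoc, B, WidePullback.lift_π, WidePullback.lift_π_assoc, WidePullback.lift_base, WidePullback.lift_base_assoc, pullback.lift_fst, pullback.lift_snd_assoc]
          · simp [pullback.lift_snd, WidePullback.lift_π, WidePullback.lift_π_assoc, WidePullback.lift_base, WidePullback.lift_base_assoc, pullback.lift_fst, pullback.lift_snd_assoc]
        inv_hom_id := by
          refine WidePullback.hom_ext _ _ _ (fun i => ?_) ?_
          · rw [Category.assoc, WidePullback.lift_π, Category.id_comp]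
            cases i using Fin.cases with
            | zero => exact pullback.lift_snd _ _ hw
            | succ i =>
              exact (pullback.lift_fst_assoc _ _ hw _).trans (WidePullback.lift_π _ _ _ _ _)
          · rw [Category.assoc, WidePullback.lift_base, Category.id_comp]
            exact (pullback.lift_fst_assoc _ _ hw _).trans (WidePullback.lift_base _ _ _ _) }

/-- Filtered colimits of injectives are acyclic on the members. -/
theorem subsingleton_ext_colimit (hS : Cls S) (G : I ⥤ Sheaf J AddCommGrpCat.{u})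
    (hG : ∀ i, Injective (G.obj i)) {T : ToposFin.Sh J} (hT : T ∈ S) (q : ℕ) :
    Subsingleton (Ext ((Free.freePre J).obj T.obj) (colimit G) (q + 1)) := by
  let γ := Σ' (L : S) (L' : S) (f : L'.1 ⟶ L.1), Epi f
  refine Cartan.cartan (A := Sheaf J AddCommGrpCat.{u}) (γ := γ)
    (fun L : S => (Free.freePre J).obj L.1.obj) (fun c => c.1)
    (fun c => (alternatingFaceMapComplex _).obj
      (((SimplicialObject.Augmented.whiskering _ _).obj (Free.freePre J)).obj
        (Nerve.nerve c.2.2.1)).left)
    (fun c => AlternatingFaceMapComplex.ε.app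
      (((SimplicialObject.Augmented.whiskering _ _).obj (Free.freePre J)).obj (Nerve.nerve c.2.2.1)))
    (fun c => have := c.2.2.2; Nerve.quasiIso_free_nerve c.2.2.1)
    ?_ ?_ q (colimit G) (fun c p => ?_) ⟨T, hT⟩
  · intro L X Z g _ a
    obtain ⟨F, f₀, hf₀, x, hx⟩ := Totally.exists_cover g a
    obtain ⟨K', k, hK', hk⟩ := hS.refine' F L.1 f₀ L.2 hf₀
    let m : widePullback L.1 (fun _ : Fin 1 => K') (fun _ => k ≫ f₀) ⟶
        widePullback L.1 (fun _ : Fin 1 => F) (fun _ => f₀) :=
      WidePullback.lift (WidePullback.base _) (fun i => WidePullback.π _ i ≫ k)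
        (fun i => by rw [Category.assoc, WidePullback.π_arrow])
    refine ⟨⟨L, ⟨K', hK'⟩, k ≫ f₀, hk⟩, rfl, (Free.freePre J).map m.hom ≫ x, ?_⟩
    rw [eqToHom_refl, Category.id_comp]
    have hm : m.hom ≫ (WidePullback.base fun _ : Fin 1 => f₀).hom =
        (WidePullback.base fun _ : Fin 1 => k ≫ f₀).hom :=
      congrArg InducedCategory.Hom.hom (WidePullback.lift_base _ _ _ _ :
        m ≫ (WidePullback.base fun _ : Fin 1 => f₀) = WidePullback.base fun _ : Fin 1 => k ≫ f₀)
    refine (Category.assoc _ _ _).trans ((congrArg (_ ≫ ·) hx).trans ?_)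
    refine (Category.assoc _ _ _).symm.trans (congrArg (· ≫ a) ?_)
    refine ((Functor.map_comp _ _ _).symm.trans (congrArg _ hm)).trans ?_
    rw [HomRes.aug]
    simp [AlternatingFaceMapComplex.ε_app_f_zero, SimplicialObject.Augmented.whiskering,
      SimplicialObject.Augmented.whiskeringObj]
    rfl
  · exact fun c n F hF => hF ⟨_, widePullback_mem hS c.2.2.1 c.2.1.2 c.1.2 n⟩
  · rw [← HomologicalComplex.exactAt_iff_isZero_homology]
    refine AbColim.exactAt_homCx_colimit _ G p ?_ ?_ fun i => ?_
    · exact lifts (good hS (widePullback_mem hS c.2.2.1 c.2.1.2 c.1.2 (p + 1))) G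
    · exact vanishes (hS.qc _ (widePullback_mem hS c.2.2.1 c.2.1.2 c.1.2 (p + 1 + 1))) G
    · have := c.2.2.2
      have := Nerve.quasiIso_free_nerve c.2.2.1
      have := hG i
      exact (HomologicalComplex.exactAt_iff_isZero_homology _ _).2
        (Cartan.isZero_homology_homCx_of_injective (AlternatingFaceMapComplex.ε.app
          (((SimplicialObject.Augmented.whiskering _ _).obj (Free.freePre J)).obj (Nerve.nerve c.2.2.1))) _ p)

theorem liftsExt_and_vanishesExt (hS : Cls S) {T : ToposFin.Sh J} (hT : T ∈ S) (q : ℕ)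
    (D : I ⥤ Sheaf J AddCommGrpCat.{u}) :
    AbColim.LiftsExt ((Free.freePre J).obj T.obj) q D ∧
      AbColim.VanishesExt ((Free.freePre J).obj T.obj) q D :=
  AbColim.liftsExt_and_vanishesExt _ (lifts (good hS hT)) (vanishes (hS.qc T hT))
    (fun G hG => subsingleton_ext_colimit hS G hG hT) q D

/-- `Ext^q(ℤ[T], -)` preserves filtered colimits. -/
theorem preservesColimitsOfShape (hS : Cls S) {T : ToposFin.Sh J} (hT : T ∈ S) (q : ℕ)
    {M : Sheaf J AddCommGrpCat.{u}} (e : M ≅ (Free.freePre J).obj T.obj) :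
    PreservesColimitsOfShape I ((extFunctor (C := Sheaf J AddCommGrpCat.{u}) q).obj (op M)) := by
  have : PreservesColimitsOfShape I
      ((extFunctor (C := Sheaf J AddCommGrpCat.{u}) q).obj (op ((Free.freePre J).obj T.obj))) :=
    ⟨fun {D} => AbColim.preservesColimit_extFunctor _ q D (liftsExt_and_vanishesExt hS hT q D).1
      (liftsExt_and_vanishesExt hS hT q D).2⟩
  exact preservesColimitsOfShape_of_natIso ((extFunctor (C := Sheaf J AddCommGrpCat.{u}) q).mapIso e.op)

end Groth.Agent.SiteCoh.SheafColim
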