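import Groth.Prelude.Def_CohCx
import Mathlib.Algebra.Category.Grp.Adjunctions
import Mathlib.CategoryTheory.Sites.LocallyBijective

/-!
# The free abelian sheaf on a presheaf of sets, and `H⁰(U, F) = F(U)`
-/

set_option autoImplicit false

universe u

open CategoryTheory CategoryTheory.Limits Opposite

namespace Groth.Agent.SiteCoh.Free

variable {C : Type u} [SmallCategory C] (J : GrothendieckTopology C)

/-- The free abelian sheaf on a presheaf of sets. -/
noncomputable abbrev freePre : (Cᵒᵖ ⥤ Type u) ⥤ Sheaf J AddCommGrpCat.{u} :=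
  (Functor.whiskeringRight _ _ _).obj AddCommGrpCat.free.{u} ⋙ presheafToSheaf J AddCommGrpCat.{u}

/-- Maps out of the free abelian sheaf. -/
noncomputable def adj : freePre J ⊣
    sheafToPresheaf J AddCommGrpCat.{u} ⋙ (Functor.whiskeringRight _ _ _).obj (forget AddCommGrpCat.{u}) :=
  (AddCommGrpCat.adj.whiskerRight Cᵒᵖ).comp (sheafificationAdjunction J AddCommGrpCat.{u})

/-- The free abelian sheaf functor inverts morphisms that become isomorphisms after sheafification. -/
theorem isIso_freePre_map_of_W {P Q : Cᵒᵖ ⥤ Type u} (f : P ⟶ Q) (hf : J.W f) :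
    IsIso ((freePre J).map f) := by
  change IsIso ((presheafToSheaf J AddCommGrpCat.{u}).map (Functor.whiskerRight f AddCommGrpCat.free.{u}))
  rw [← J.W_iff_isIso_map_of_adjunction (sheafificationAdjunction J AddCommGrpCat.{u})]
  intro Z hZ
  have hZ' : Presheaf.IsSheaf J (Z ⋙ forget AddCommGrpCat.{u}) :=
    ((sheafCompose J (forget AddCommGrpCat.{u})).obj ⟨Z, hZ⟩).property
  have h := hf (Z ⋙ forget AddCommGrpCat.{u}) hZ'
  let e := fun R : Cᵒᵖ ⥤ Type u => (AddCommGrpCat.adj.whiskerRight Cᵒᵖ).homEquiv R Z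
  have hfun : (fun g : Q ⋙ AddCommGrpCat.free.{u} ⟶ Z => Functor.whiskerRight f _ ≫ g) =
      (e P).symm ∘ (fun g => f ≫ g) ∘ e Q := by
    funext g
    simp only [Function.comp_apply, e]
    rw [Equiv.eq_symm_apply]
    exact (AddCommGrpCat.adj.whiskerRight Cᵒᵖ).homEquiv_naturality_left f g
  rw [hfun]
  exact (e P).symm.bijective.comp (h.comp (e Q).bijective)

theorem W_toSheafify (P : Cᵒᵖ ⥤ Type u) : J.W (toSheafify J P) :=
  J.W_toSheafify P

/-- Sections as morphisms out of `freeSheaf`. -/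
noncomputable def homEquivSection (U : C) (F : Sheaf J AddCommGrpCat.{u}) :
    (CohCx.freeSheaf J U ⟶ F) ≃ (F.obj.obj (op U) : Type u) :=
  ((adj J).homEquiv (yoneda.obj U) F).trans yonedaEquiv

theorem homEquivSection_naturality_right {U : C} {F G : Sheaf J AddCommGrpCat.{u}}
    (a : CohCx.freeSheaf J U ⟶ F) (φ : F ⟶ G) :
    homEquivSection J U G (a ≫ φ) = φ.hom.app (op U) (homEquivSection J U F a) := by
  simp only [homEquivSection, Equiv.trans_apply]
  rw [(adj J).homEquiv_naturality_right]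
  rfl

theorem homEquivSection_naturality_left {U V : C} (g : V ⟶ U) {F : Sheaf J AddCommGrpCat.{u}}
    (a : CohCx.freeSheaf J U ⟶ F) :
    homEquivSection J V F (CohCx.freeSheafMap J g ≫ a) = F.obj.map g.op (homEquivSection J U F a) := by
  simp only [homEquivSection, Equiv.trans_apply]
  rw [show CohCx.freeSheafMap J g = (freePre J).map (yoneda.map g) from rfl,
    (adj J).homEquiv_naturality_left]
  exact (yonedaEquiv_naturality _ g).symm

theorem homEquivSection_add {U : C} {F : Sheaf J AddCommGrpCat.{u}}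
    (a b : CohCx.freeSheaf J U ⟶ F) :
    homEquivSection J U F (a + b) = homEquivSection J U F a + homEquivSection J U F b := by
  have h : ∀ c : CohCx.freeSheaf J U ⟶ F, homEquivSection J U F c =
      c.hom.app (op U) (((adj J).unit.app (yoneda.obj U)).app (op U) (𝟙 U)) := by
    intro c
    simp only [homEquivSection, Equiv.trans_apply]
    rw [(adj J).homEquiv_unit]
    rfl
  rw [h, h, h]
  rfl

/-- Sections as morphisms out of `freeSheaf`, additively. -/
noncomputable def sectionEquiv (U : C) (F : Sheaf J AddCommGrpCat.{u}) :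
    (CohCx.freeSheaf J U ⟶ F) ≃+ F.obj.obj (op U) :=
  { homEquivSection J U F with map_add' := homEquivSection_add J }

theorem sectionEquiv_comp {U : C} {F G : Sheaf J AddCommGrpCat.{u}}
    (a : CohCx.freeSheaf J U ⟶ F) (φ : F ⟶ G) :
    sectionEquiv J U G (a ≫ φ) = φ.hom.app (op U) (sectionEquiv J U F a) :=
  homEquivSection_naturality_right J a φ

theorem sectionEquiv_map {U V : C} (g : V ⟶ U) {F : Sheaf J AddCommGrpCat.{u}}
    (a : CohCx.freeSheaf J U ⟶ F) :
    sectionEquiv J V F (CohCx.freeSheafMap J g ≫ a) = F.obj.map g.op (sectionEquiv J U F a) :=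
  homEquivSection_naturality_left J g a

theorem addEquiv₀_mk₀ {X Y : Sheaf J AddCommGrpCat.{u}} (a : X ⟶ Y) :
    Abelian.Ext.addEquiv₀ (Abelian.Ext.mk₀ a) = a :=
  (Abelian.Ext.addEquiv₀.apply_eq_iff_symm_apply).2 rfl

variable {J}

/-- `H⁰(U, F) = F(U)`. -/
noncomputable def HU0Equiv (F : Sheaf J AddCommGrpCat.{u}) (U : C) :
    CohSite.HU F 0 U ≃+ F.obj.obj (op U) :=
  Abelian.Ext.addEquiv₀.trans (sectionEquiv J U F)

theorem HU0Equiv_mk₀ (F : Sheaf J AddCommGrpCat.{u}) (U : C) (a : CohCx.freeSheaf J U ⟶ F) :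
    HU0Equiv F U (Abelian.Ext.mk₀ a) = sectionEquiv J U F a :=
  congrArg (sectionEquiv J U F) (addEquiv₀_mk₀ J a)

theorem res_apply (F : Sheaf J AddCommGrpCat.{u}) (n : ℕ) {U V : C} (g : V ⟶ U)
    (x : Abelian.Ext (CohCx.freeSheaf J U) F n) :
    CohSite.res F n g x = (Abelian.Ext.mk₀ (CohCx.freeSheafMap J g)).comp x (zero_add n) := rfl

theorem HU0Equiv_res (F : Sheaf J AddCommGrpCat.{u}) {U V : C} (g : V ⟶ U) (x : CohSite.HU F 0 U) :
    HU0Equiv F V (CohSite.res F 0 g x) = F.obj.map g.op (HU0Equiv F U x) := by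
  obtain ⟨a, rfl⟩ := (Abelian.Ext.mk₀_bijective (CohCx.freeSheaf J U) F).2 x
  rw [res_apply, Abelian.Ext.mk₀_comp_mk₀]
  erw [HU0Equiv_mk₀, HU0Equiv_mk₀]
  exact sectionEquiv_map J g a

theorem HU0Equiv_map {F G : Sheaf J AddCommGrpCat.{u}} (φ : F ⟶ G) (U : C) (x : CohSite.HU F 0 U) :
    HU0Equiv G U (((Sheaf.cohomologyPresheafFunctor J 0).map φ).app (op U) x) =
      φ.hom.app (op U) (HU0Equiv F U x) := by
  obtain ⟨a, rfl⟩ := (Abelian.Ext.mk₀_bijective (CohCx.freeSheaf J U) F).2 x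
  change HU0Equiv G U ((Abelian.Ext.mk₀ a).comp (Abelian.Ext.mk₀ φ) (add_zero 0)) = _
  rw [Abelian.Ext.mk₀_comp_mk₀]
  erw [HU0Equiv_mk₀, HU0Equiv_mk₀]
  exact sectionEquiv_comp J a φ

end Groth.Agent.SiteCoh.Free
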