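import Groth.Prelude.Def_CohCx

/-!
# Morphisms into a derived limit
-/

set_option autoImplicit false

universe w v' u'

open CategoryTheory CategoryTheory.Limits Pretriangulated

namespace Groth.Agent.SiteCoh.RlimSeq

variable {T : Type u'} [Category.{v'} T] [Preadditive T] [HasZeroObject T] [HasShift T ℤ]
  [∀ n : ℤ, (shiftFunctor T n).Additive] [Pretriangulated T]

/-- `Hom(Z⟦-m⟧, X) = Hom(Z, X⟦m⟧)` -/
noncomputable def e (Z : T) (m : ℤ) (X : T) : (((shiftEquiv T m).symm.functor).obj Z ⟶ X) ≃ (Z ⟶ X⟦m⟧) :=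
  (shiftEquiv T m).symm.toAdjunction.homEquiv Z X

theorem e_comp (Z : T) (m : ℤ) {X Y : T} (f : ((shiftEquiv T m).symm.functor).obj Z ⟶ X) (g : X ⟶ Y) :
    e Z m Y (f ≫ g) = e Z m X f ≫ g⟦m⟧' :=
  (shiftEquiv T m).symm.toAdjunction.homEquiv_naturality_right f g

theorem e_zero (Z : T) (m : ℤ) (X : T) : e Z m X 0 = 0 := by
  have h := e_comp Z m (0 : _ ⟶ X) (0 : X ⟶ X)
  rw [comp_zero] at h
  rw [h, Functor.map_zero, comp_zero]

theorem e_sub (Z : T) (m : ℤ) {X : T} (f g : ((shiftEquiv T m).symm.functor).obj Z ⟶ X) :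
    e Z m X (f - g) = e Z m X f - e Z m X g := by
  change (shiftEquiv T m).symm.toAdjunction.homEquiv Z X (f - g) = _
  rw [Adjunction.homEquiv_unit]
  show _ ≫ (shiftFunctor T m).map (f - g) = _
  erw [Functor.map_sub, Preadditive.comp_sub]
  rfl

variable (K : ℕ → T) (t : ∀ n, K (n + 1) ⟶ K n) [HasProduct K] (L : T) (a : ∀ n, L ⟶ K n)

theorem exists_lift (hL : CohCx.IsRlimVia K t L a) (Z : T) (m : ℤ) (x : ∀ n, Z ⟶ (K n)⟦m⟧)
    (hx : ∀ n, x (n + 1) ≫ (t n)⟦m⟧' = x n) : ∃ y : Z ⟶ L⟦m⟧, ∀ n, y ≫ (a n)⟦m⟧' = x n := by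
  obtain ⟨c, hc⟩ := hL
  let x' := fun n => (e Z m (K n)).symm (x n)
  have h0 : Pi.lift x' ≫ Pi.lift (fun n => Pi.π K n - Pi.π K (n + 1) ≫ t n) = 0 := by
    refine Pi.hom_ext _ _ fun n => ?_
    rw [Category.assoc, Pi.lift_π, zero_comp, Preadditive.comp_sub, Pi.lift_π, Pi.lift_π_assoc, sub_eq_zero]
    apply (e Z m (K n)).injective
    rw [e_comp, Equiv.apply_symm_apply, Equiv.apply_symm_apply, hx]
  obtain ⟨g, hg⟩ := Triangle.coyoneda_exact₂ _ hc (Pi.lift x') h0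
  refine ⟨e Z m L g, fun n => ?_⟩
  rw [← e_comp]
  have h : Pi.lift x' ≫ Pi.π K n = (g ≫ Pi.lift a) ≫ Pi.π K n :=
    congrArg (fun f : _ ⟶ ∏ᶜ K => f ≫ Pi.π K n) hg
  rw [Category.assoc, Pi.lift_π] at h
  erw [Pi.lift_π] at h
  exact (congrArg (e Z m (K n)) h).symm.trans ((e Z m (K n)).apply_symm_apply _)

theorem eq_zero (hL : CohCx.IsRlimVia K t L a) (Z : T) (m : ℤ)
    (h1 : Function.Surjective fun (w : ∀ n, Z ⟶ (K n)⟦m - 1⟧) n => w n - w (n + 1) ≫ (t n)⟦m - 1⟧')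
    (y : Z ⟶ L⟦m⟧) (hy : ∀ n, y ≫ (a n)⟦m⟧' = 0) : y = 0 := by
  obtain ⟨c, hc⟩ := hL
  let σ := fun X : T => (shiftFunctorAdd' T (1 : ℤ) (m - 1) m (by ring)).app X
  let y' := (e Z (m - 1) (L⟦(1 : ℤ)⟧)).symm (y ≫ (σ L).hom)
  have h0 : y' ≫ (-(Pi.lift a)⟦(1 : ℤ)⟧') = 0 := by
    rw [Preadditive.comp_neg, neg_eq_zero]
    refine (isLimitOfPreserves (shiftFunctor T (1 : ℤ)) (limit.isLimit (Discrete.functor K))).hom_ext fun ⟨n⟩ => ?_
    show (y' ≫ _) ≫ (Pi.π K n)⟦(1 : ℤ)⟧' = 0 ≫ _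
    rw [zero_comp, Category.assoc, ← Functor.map_comp, Pi.lift_π]
    apply (e Z (m - 1) _).injective
    rw [e_zero, e_comp, Equiv.apply_symm_apply, Category.assoc]
    erw [← (shiftFunctorAdd' T (1 : ℤ) (m - 1) m (by ring)).hom.naturality (a n)]
    rw [← Category.assoc, hy, zero_comp]
  obtain ⟨g, hg⟩ := Triangle.coyoneda_exact₂ _ (rot_of_distTriang _ (rot_of_distTriang _ hc)) y' h0
  obtain ⟨w, hw⟩ := h1 (fun n => e Z (m - 1) (K n) (g ≫ Pi.π K n))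
  let w' := fun n => (e Z (m - 1) (K n)).symm (w n)
  have hd : Pi.lift w' ≫ Pi.lift (fun n => Pi.π K n - Pi.π K (n + 1) ≫ t n) = g := by
    refine Pi.hom_ext _ _ fun n => ?_
    rw [Category.assoc, Pi.lift_π, Preadditive.comp_sub, Pi.lift_π, Pi.lift_π_assoc]
    apply (e Z (m - 1) (K n)).injective
    rw [e_sub, e_comp, Equiv.apply_symm_apply, Equiv.apply_symm_apply]
    exact congrFun hw n
  have hy' : y' = 0 := by
    rw [hg, ← hd]
    refine (Category.assoc _ _ _).trans ?_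
    exact (congrArg (Pi.lift w' ≫ ·) (comp_distTriang_mor_zero₂₃ _ hc)).trans comp_zero
  have : y ≫ (σ L).hom = 0 := by
    rw [← (e Z (m - 1) _).apply_symm_apply (y ≫ (σ L).hom)]
    change e Z (m - 1) _ y' = 0
    rw [hy', e_zero]
  rwa [← cancel_mono (σ L).hom, zero_comp]

end Groth.Agent.SiteCoh.RlimSeq
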