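import Groth.Agent.SiteCoh.Cech
import Groth.Agent.SiteCoh.Cartan

/-!
# The Čech resolution of a covering family and lifting of sections
-/

set_option autoImplicit false

universe v u

open CategoryTheory CategoryTheory.Limits Opposite Simplicial AlgebraicTopology
open CategoryTheory.Abelian

namespace Groth.Agent.SiteCoh.CechCover

section General

variable {A : Type*} [Category.{v} A] [Abelian A]

/-- Morphisms out of a coproduct lift through a map if their restrictions to the summands do. -/
theorem exists_lift_of_bijective {ι : Type*} {Q : ι → A} {P : A} (e : ∀ i, Q i ⟶ P)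
    (he : ∀ F : A, Function.Bijective (fun (φ : P ⟶ F) i => e i ≫ φ)) {X Y : A} (g : X ⟶ Y)
    (h : P ⟶ Y) (hl : ∀ i, ∃ a : Q i ⟶ X, a ≫ g = e i ≫ h) : ∃ a : P ⟶ X, a ≫ g = h := by
  choose a ha using hl
  obtain ⟨b, hb⟩ := (he X).2 a
  refine ⟨b, (he Y).1 (funext fun i => ?_)⟩
  change e i ≫ b ≫ g = e i ≫ h
  rw [← Category.assoc, show e i ≫ b = a i from congrFun hb i, ha]

theorem subsingleton_ext_one_of_bijective [EnoughInjectives A] [HasExt.{v} A] {ι : Type*}
    {Q : ι → A} {P : A} (e : ∀ i, Q i ⟶ P)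
    (he : ∀ F : A, Function.Bijective (fun (φ : P ⟶ F) i => e i ≫ φ)) (F : A)
    (h : ∀ i, Subsingleton (Ext (Q i) F 1)) : Subsingleton (Ext P F 1) :=
  DimShift.subsingleton_one (DimShift.inj_shortExact F) fun g =>
    exists_lift_of_bijective e he _ g fun i =>
      have := h i
      DimShift.exists_lift (DimShift.inj_shortExact F) (e i ≫ g)

end General

variable {C : Type u} [SmallCategory C] [HasPullbacks C] {U : C} {ι : Type u} (Y : ι → Over U)
  (J : GrothendieckTopology C)

/-- The terms of the Čech resolution. -/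
noncomputable abbrev term (n : ℕ) : Sheaf J AddCommGrpCat.{u} :=
  (Free.freePre J).obj (Cech.coprodPsh.{u}.obj ((FormalCoproduct.mk ι Y).cech.obj (op ⦋n⦌)))

/-- A summand of a term. -/
noncomputable abbrev summand (n : ℕ) (k : ((FormalCoproduct.mk ι Y).cech.obj (op ⦋n⦌)).I) :
    CohCx.freeSheaf J (((FormalCoproduct.mk ι Y).cech.obj (op ⦋n⦌)).obj k).left ⟶ term Y J n :=
  (Free.freePre J).map (Cech.pt _ k)

theorem summand_bijective (n : ℕ) (G : Sheaf J AddCommGrpCat.{u}) :
    Function.Bijective (fun (φ : term Y J n ⟶ G) k => summand Y J n k ≫ φ) := by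
  have hb := Cech.ev_bijective J G ((FormalCoproduct.mk ι Y).cech.obj (op ⦋n⦌))
  let E := Equiv.piCongrRight fun k =>
    (Free.sectionEquiv J (((FormalCoproduct.mk ι Y).cech.obj (op ⦋n⦌)).obj k).left G).toEquiv
  exact (Function.Bijective.of_comp_iff' E.bijective _).1 hb

theorem W_functorInclusion (hY : Cech.gen Y ∈ J U) : J.W (Cech.gen Y).functorInclusion := by
  rw [GrothendieckTopology.W_iff_isLocallyBijective]
  exact ⟨Presheaf.isLocallyInjective_of_injective _ _ fun V => fun a b hab => Subtype.ext hab,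
    ⟨fun {V} g => J.superset_covering (fun W k hk => ⟨⟨k ≫ g, hk⟩, rfl⟩)
      (J.pullback_stable g hY)⟩⟩

/-- The Čech complex of free abelian sheaves. -/
noncomputable abbrev cx : ChainComplex (Sheaf J AddCommGrpCat.{u}) ℕ :=
  (alternatingFaceMapComplex _).obj
    (((SimplicialObject.Augmented.whiskering _ _).obj (Free.freePre J)).obj (Cech.cechAug Y)).left

/-- The Čech resolution of the free abelian sheaf on the target. -/
noncomputable def resolution : cx Y J ⟶ (ChainComplex.single₀ _).obj (CohCx.freeSheaf J U) :=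
  AlternatingFaceMapComplex.ε.app
      (((SimplicialObject.Augmented.whiskering _ _).obj (Free.freePre J)).obj (Cech.cechAug Y)) ≫
    (ChainComplex.single₀ _).map ((Free.freePre J).map (Cech.gen Y).functorInclusion)

theorem quasiIso_resolution (hY : Cech.gen Y ∈ J U) : QuasiIso (resolution Y J) := by
  have h1 := CechLike.quasiIso_free_ε J (Cech.cechAug Y) (Cech.isCechLike_cechAug Y)
    (Cech.isLocallySurjective_cechAug Y J)
  have := Free.isIso_freePre_map_of_W J _ (W_functorInclusion Y J hY)
  have h4 : QuasiIso ((ChainComplex.single₀ (Sheaf J AddCommGrpCat.{u})).map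
      ((Free.freePre J).map (Cech.gen Y).functorInclusion)) := inferInstance
  exact quasiIso_comp (hφ := h1) (hφ' := h4) _ _

theorem summand_aug (k : ((FormalCoproduct.mk ι Y).cech.obj (op ⦋0⦌)).I) :
    summand Y J 0 k ≫ HomRes.aug (resolution Y J) =
      CohCx.freeSheafMap J (((FormalCoproduct.mk ι Y).cech.obj (op ⦋0⦌)).obj k).hom := by
  have h1 : HomRes.aug (resolution Y J) =
      (Free.freePre J).map ((Cech.cechAug Y).hom.app (op ⦋0⦌) ≫ (Cech.gen Y).functorInclusion) := by
    rw [HomRes.aug, resolution, Functor.map_comp]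
    simp [AlternatingFaceMapComplex.ε_app_f_zero]
    rfl
  rw [h1]
  refine (Functor.map_comp _ _ _).symm.trans (congrArg (Free.freePre J).map ?_)
  refine yonedaEquiv.injective ?_
  rfl

/-- Sections lift on the members of a covering family inside the image sieve. -/
theorem exists_lift_resolution {X Z : Sheaf J AddCommGrpCat.{u}} (g : X ⟶ Z)
    (h : CohCx.freeSheaf J U ⟶ Z)
    (hT : ∀ i, (Presheaf.imageSieve g.hom (Free.sectionEquiv J U Z h)).arrows (Y i).hom) :
    ∃ a : (cx Y J).X 0 ⟶ X, a ≫ g = HomRes.aug (resolution Y J) ≫ h := by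
  refine exists_lift_of_bijective (summand Y J 0) (summand_bijective Y J 0) g _ fun k => ?_
  have hm : (Presheaf.imageSieve g.hom (Free.sectionEquiv J U Z h)).arrows
      (((FormalCoproduct.mk ι Y).cech.obj (op ⦋0⦌)).obj k).hom := by
    have hw := Over.w (Pi.π ((FormalCoproduct.mk ι Y).obj ∘ k) (0 : Fin 1))
    exact hw ▸ Sieve.downward_closed _ (hT _) _
  obtain ⟨x, hx⟩ := hm
  obtain ⟨a, rfl⟩ := (Free.sectionEquiv J _ X).surjective x
  refine ⟨a, (Free.sectionEquiv J _ Z).injective ?_⟩
  rw [Free.sectionEquiv_comp]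
  refine hx.trans ((Free.sectionEquiv_map J _ h).symm.trans ?_)
  rw [← summand_aug, Category.assoc]
  rfl

/-- The Čech complex computes with the resolution. -/
theorem isZero_homology_homCx (F : Sheaf J AddCommGrpCat.{u}) (p : ℕ)
    (h : IsZero (CohCx.cechH F.obj Y p)) :
    IsZero (((HomRes.homCx (cx Y J)).obj F).homology p) :=
  h.of_iso ((HomologicalComplex.homologyFunctor _ _ p).mapIso (Cech.cechComplexIso Y J F)).symm

end Groth.Agent.SiteCoh.CechCover
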