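import Groth.Agent.SiteCoh.ColimHelp
import Groth.Agent.SiteCoh.CechCover

/-!
# Filtered colimits and cohomology for a collection of finite coverings
-/

set_option autoImplicit false
open CategoryTheory CategoryTheory.Limits CategoryTheory.Abelian Opposite
universe u

namespace Groth.Agent.SiteCoh.CovColim

open Groth.Agent.TopFin Groth.Agent.TopFin.QC
open scoped Simplicial

variable {C : Type u} [SmallCategory C] {J : GrothendieckTopology C}
  {I : Type u} [SmallCategory I] [IsFiltered I]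

variable (J) in
/-- The free sheaf on an object is free on the associated sheaf of sets. -/
noncomputable def freeIso (U : C) : CohCx.freeSheaf J U ≅ (Free.freePre J).obj (ToposFin.eps J U).obj :=
  @asIso _ _ _ _ ((Free.freePre J).map (toSheafify J (yoneda.obj U)))
    (Free.isIso_freePre_map_of_W J _ (J.W_toSheafify _))

omit [IsFiltered I] in
theorem lifts_of_iso {A A' : Sheaf J AddCommGrpCat.{u}} (e : A ≅ A') {D : I ⥤ Sheaf J AddCommGrpCat.{u}}
    (h : AbColim.Lifts A' D) : AbColim.Lifts A D := fun t => by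
  obtain ⟨i, a, ha⟩ := h (e.inv ≫ t)
  exact ⟨i, e.hom ≫ a, by rw [Category.assoc, ha, e.hom_inv_id_assoc]⟩

omit [IsFiltered I] in
theorem vanishes_of_iso {A A' : Sheaf J AddCommGrpCat.{u}} (e : A ≅ A') {D : I ⥤ Sheaf J AddCommGrpCat.{u}}
    (h : AbColim.Vanishes A' D) : AbColim.Vanishes A D := fun i a ha => by
  obtain ⟨j, φ, hφ⟩ := h i (e.inv ≫ a) (by rw [Category.assoc, ha, comp_zero])
  exact ⟨j, φ, by rw [← cancel_epi e.inv, ← Category.assoc, hφ, comp_zero]⟩

variable {κ : Type u} [Finite κ] {Q : κ → Sheaf J AddCommGrpCat.{u}} {P : Sheaf J AddCommGrpCat.{u}}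
  (e : ∀ k, Q k ⟶ P) (he : ∀ F : Sheaf J AddCommGrpCat.{u}, Function.Bijective (fun (φ : P ⟶ F) k => e k ≫ φ))

include he

theorem lifts_of_bijective {D : I ⥤ Sheaf J AddCommGrpCat.{u}} (h : ∀ k, AbColim.Lifts (Q k) D) :
    AbColim.Lifts P D := fun t => by
  classical
  have := Fintype.ofFinite κ
  choose i a ha using fun k => h k (e k ≫ t)
  obtain ⟨m, hm⟩ := IsFiltered.sup_objs_exists (Finset.univ.image i)
  let u : ∀ k, i k ⟶ m := fun k => (hm (Finset.mem_image_of_mem _ (Finset.mem_univ k))).some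
  obtain ⟨b, hb⟩ := (he (D.obj m)).2 fun k => a k ≫ D.map (u k)
  refine ⟨m, b, (he _).1 (funext fun k => ?_)⟩
  have hk : e k ≫ b = a k ≫ D.map (u k) := congrFun hb k
  change e k ≫ b ≫ colimit.ι D m = e k ≫ t
  rw [reassoc_of% hk, colimit.w, ha]

theorem vanishes_of_bijective {D : I ⥤ Sheaf J AddCommGrpCat.{u}} (h : ∀ k, AbColim.Vanishes (Q k) D) :
    AbColim.Vanishes P D := fun i a ha => by
  choose j φ hφ using fun k => h k i (e k ≫ a) (by rw [Category.assoc, ha, comp_zero])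
  obtain ⟨m, ψ, hm⟩ := Colim.exists_bound j φ
  refine ⟨m, ψ, (he _).1 (funext fun k => ?_)⟩
  obtain ⟨χ, hχ⟩ := hm k
  change e k ≫ a ≫ D.map ψ = e k ≫ 0
  rw [← hχ, Functor.map_comp, ← Category.assoc, ← Category.assoc, hφ, zero_comp, comp_zero]

omit he

omit [IsFiltered I] in
theorem left_lift {U : C} {α : Type} (Z : α → Over U) [HasProduct Z] {W : Over U} (f : ∀ l, W ⟶ Z l) (l : α) :
    (Pi.lift f).left ≫ (Pi.π Z l).left = (f l).left :=
  congrArg (fun m : W ⟶ Z l => m.left) (Pi.lift_π f l)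

variable [HasPullbacks C] (B : Set C) (Cov : ∀ (U : C) (ι : Type u), (ι → Over U) → Prop)
  (h1 : ∀ (U : C) (ι : Type u) (Y : ι → Over U), Cov U ι Y → Finite ι ∧ U ∈ B ∧
      Sieve.ofArrows (fun i => (Y i).left) (fun i => (Y i).hom) ∈ J U ∧
      ∀ (p : ℕ) (a : Fin (p + 1) → ι), (∏ᶜ fun k => Y (a k)).left ∈ B)
  (h2 : ∀ U ∈ B, ∀ T ∈ J U, ∃ (ι : Type u) (Y : ι → Over U), Cov U ι Y ∧ ∀ i, T.arrows (Y i).hom)
include h1 h2

omit [HasPullbacks C] h1 h2 in
theorem je_of_gen {U : C} {ι : Type u} (Y : ι → Over U)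
    (h : Sieve.ofArrows (fun i => (Y i).left) (fun i => (Y i).hom) ∈ J U) :
    JE (fun i => Site.epsMap J (Y i).hom) := fun Z a b hab =>
  Site.je_of_mem J h a b fun ⟨W, f, hf⟩ => by
    obtain ⟨_, l, _, ⟨i⟩, rfl⟩ := hf
    simp only [Site.epsMap_comp, Category.assoc, hab i]

theorem isQC_eps {U : C} (hU : U ∈ B) : ToposFin.IsQC (ToposFin.eps J U) := by
  refine (Site.isQC_eps_iff J U).1 fun S hS => ?_
  obtain ⟨ι, Y, hY, hS'⟩ := h2 U hU S hS
  obtain ⟨hf, -, hgen, -⟩ := h1 U ι Y hY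
  obtain ⟨n, ⟨e⟩⟩ := Finite.exists_equiv_fin ι
  refine ⟨n, fun k => (Y (e.symm k)).left, fun k => (Y (e.symm k)).hom, fun k => hS' _,
    J.superset_covering ?_ hgen⟩
  rw [Sieve.ofArrows, Sieve.generate_le_iff]
  rintro W f ⟨i⟩
  obtain ⟨k, rfl⟩ := e.symm.surjective i
  exact Sieve.ofArrows_mk _ _ k

theorem good_eps {U : C} (hU : U ∈ B) : SheafColim.Good (ToposFin.eps J U) := by
  intro κ F π hπ
  let s₀ := Topos.Gen.homEquiv J (𝟙 (ToposFin.eps J U))
  obtain ⟨T, hT, hT'⟩ := ColimHelp.jointlySurjective_of_je hπ U s₀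
  obtain ⟨ι, Y, hY, hTY⟩ := h2 U hU T hT
  obtain ⟨hf, -, hgen, hov⟩ := h1 U ι Y hY
  choose i x hx using fun j => hT' _ (Y j).hom (hTY j)
  obtain ⟨n, ⟨e⟩⟩ := Finite.exists_equiv_fin ι
  refine ⟨n, fun k => ToposFin.eps J (Y (e.symm k)).left, fun k => Site.epsMap J (Y (e.symm k)).hom,
    fun k => i (e.symm k), fun k => (Topos.Gen.homEquiv J).symm (x (e.symm k)),
    fun Z a b hab => je_of_gen Y hgen a b fun j => by
      obtain ⟨k, rfl⟩ := e.symm.surjective j
      exact hab k,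
    fun k => (Topos.Gen.homEquiv J).injective ?_, fun k => ?_, fun k k' => ?_⟩
  · rw [Topos.Gen.homEquiv_comp, Equiv.apply_symm_apply, hx, ← Topos.Gen.homEquiv_map,
      Category.comp_id]
  · have hd := hov 0 ![e.symm k]
    let W := ∏ᶜ fun l => Y (![e.symm k] l)
    refine isQC_of_section (Site.epsMap J (Pi.π (fun l => Y (![e.symm k] l)) 0).left)
      (Site.epsMap J (Pi.lift fun l : Fin 1 => eqToHom (by rw [Subsingleton.elim l 0]; rfl) :
        Y (e.symm k) ⟶ W).left) ?_ (isQC_eps B Cov h1 h2 hd)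
    refine (Site.epsMap_comp J _ _).symm.trans ?_
    refine (congrArg (Site.epsMap J) (left_lift _ _ _)).trans ?_
    simp [Site.epsMap]
  · let a := Y (e.symm k)
    let b := Y (e.symm k')
    have hd := hov 1 ![e.symm k, e.symm k']
    let W := ∏ᶜ fun l => Y (![e.symm k, e.symm k'] l)
    let p₀ : W ⟶ a := Pi.π (fun l => Y (![e.symm k, e.symm k'] l)) 0
    let p₁ : W ⟶ b := Pi.π (fun l => Y (![e.symm k, e.symm k'] l)) 1
    let r : W.left ⟶ pullback a.hom b.hom := pullback.lift p₀.left p₁.left (by rw [Over.w, Over.w])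
    let f₀ : Over.mk (pullback.fst a.hom b.hom ≫ a.hom) ⟶ a := Over.homMk (pullback.fst a.hom b.hom)
    let f₁ : Over.mk (pullback.fst a.hom b.hom ≫ a.hom) ⟶ b :=
      Over.homMk (pullback.snd a.hom b.hom) pullback.condition.symm
    let σ : Over.mk (pullback.fst a.hom b.hom ≫ a.hom) ⟶ W := Pi.lift (Fin.cons f₀ (Fin.cons f₁ finZeroElim))
    have hs : σ.left ≫ r = 𝟙 _ := by
      refine pullback.hom_ext ?_ ?_
      · rw [Category.assoc, pullback.lift_fst, Category.id_comp]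
        exact left_lift _ _ _
      · rw [Category.assoc, pullback.lift_snd, Category.id_comp]
        exact left_lift _ _ _
    refine isQC_of_isPullback_rev a b ?_
    exact isQC_of_section (Site.epsMap J r) (Site.epsMap J σ.left)
      (by rw [← Site.epsMap_comp, hs]; simp [Site.epsMap]) (isQC_eps B Cov h1 h2 hd)
where
  isQC_of_isPullback_rev {U : C} (a b : Over U) (h : ToposFin.IsQC (ToposFin.eps J (pullback a.hom b.hom))) :
      ToposFin.IsQC (pullback (Site.epsMap J a.hom) (Site.epsMap J b.hom)) :=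
    isQC_of_iso (Site.isPullback_eps J (IsPullback.of_hasPullback a.hom b.hom)).isoPullback h

theorem lifts_freeSheaf {U : C} (hU : U ∈ B) (D : I ⥤ Sheaf J AddCommGrpCat.{u}) :
    AbColim.Lifts (CohCx.freeSheaf J U) D :=
  lifts_of_iso (freeIso J U) (SheafColim.lifts (good_eps B Cov h1 h2 hU) D)

theorem vanishes_freeSheaf {U : C} (hU : U ∈ B) (D : I ⥤ Sheaf J AddCommGrpCat.{u}) :
    AbColim.Vanishes (CohCx.freeSheaf J U) D :=
  vanishes_of_iso (freeIso J U) (SheafColim.vanishes (isQC_eps B Cov h1 h2 hU) D)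

theorem subsingleton_ext_colimit (G : I ⥤ Sheaf J AddCommGrpCat.{u}) (hG : ∀ i, Injective (G.obj i))
    (U : C) (hU : U ∈ B) (q : ℕ) :
    Subsingleton (Ext (CohCx.freeSheaf J U) (colimit G) (q + 1)) := by
  let γ := Σ' (V : B) (ι : Type u) (Y : ι → Over V.1), Cov V.1 ι Y
  refine Cartan.cartan (A := Sheaf J AddCommGrpCat.{u}) (γ := γ)
    (fun V : B => CohCx.freeSheaf J V.1) (fun c => c.1)
    (fun c => CechCover.cx c.2.2.1 J) (fun c => CechCover.resolution c.2.2.1 J)
    (fun c => CechCover.quasiIso_resolution c.2.2.1 J (h1 _ _ _ c.2.2.2).2.2.1)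
    ?_ ?_ q (colimit G) (fun c p => ?_) ⟨U, hU⟩
  · intro V X Z g _ a
    have hg : Sheaf.IsLocallySurjective g := (Sheaf.isLocallySurjective_iff_epi' _ g).2 inferInstance
    have hT : Presheaf.imageSieve g.hom (Free.sectionEquiv J V.1 Z a) ∈ J V.1 :=
      Presheaf.imageSieve_mem J g.hom (U := op V.1) _
    obtain ⟨ι, Y, hY, hTY⟩ := h2 V.1 V.2 _ hT
    obtain ⟨x, hx⟩ := CechCover.exists_lift_resolution Y J g a hTY
    exact ⟨⟨V, ι, Y, hY⟩, rfl, x, hx.trans (by rw [eqToHom_refl, Category.id_comp])⟩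
  · exact fun c n G' hG' => CechCover.subsingleton_ext_one_of_bijective _
      (CechCover.summand_bijective c.2.2.1 J n) G'
      fun k => hG' ⟨_, (h1 _ _ _ c.2.2.2).2.2.2 n k⟩
  · have := (h1 _ _ _ c.2.2.2).1
    rw [← HomologicalComplex.exactAt_iff_isZero_homology]
    refine AbColim.exactAt_homCx_colimit _ G p ?_ ?_ fun i => ?_
    · have : Finite ((FormalCoproduct.mk c.2.1 c.2.2.1).cech.obj (op ⦋p + 1⦌)).I :=
        inferInstanceAs (Finite (Fin (p + 1 + 1) → c.2.1))
      exact lifts_of_bijective _ (CechCover.summand_bijective c.2.2.1 J (p + 1)) fun k =>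
        lifts_freeSheaf B Cov h1 h2 ((h1 _ _ _ c.2.2.2).2.2.2 (p + 1) k) G
    · have : Finite ((FormalCoproduct.mk c.2.1 c.2.2.1).cech.obj (op ⦋p + 1 + 1⦌)).I :=
        inferInstanceAs (Finite (Fin (p + 1 + 1 + 1) → c.2.1))
      exact vanishes_of_bijective _ (CechCover.summand_bijective c.2.2.1 J (p + 1 + 1)) fun k =>
        vanishes_freeSheaf B Cov h1 h2 ((h1 _ _ _ c.2.2.2).2.2.2 (p + 1 + 1) k) G
    · have := CechCover.quasiIso_resolution c.2.2.1 J (h1 _ _ _ c.2.2.2).2.2.1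
      have := hG i
      exact (HomologicalComplex.exactAt_iff_isZero_homology _ _).2
        (Cartan.isZero_homology_homCx_of_injective (CechCover.resolution c.2.2.1 J) _ p)

theorem preservesColimit {U : C} (hU : U ∈ B) (q : ℕ) (D : I ⥤ Sheaf J AddCommGrpCat.{u}) :
    PreservesColimit D ((extFunctor (C := Sheaf J AddCommGrpCat.{u}) q).obj (op (CohCx.freeSheaf J U))) := by
  have h := AbColim.liftsExt_and_vanishesExt (CohCx.freeSheaf J U) (fun D => lifts_freeSheaf B Cov h1 h2 hU D)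
    (fun D => vanishes_freeSheaf B Cov h1 h2 hU D)
    (fun G hG => subsingleton_ext_colimit B Cov h1 h2 G hG U hU) q D
  exact AbColim.preservesColimit_extFunctor _ q D h.1 h.2

end Groth.Agent.SiteCoh.CovColim
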