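import Mathlib.CategoryTheory.Abelian.Injective.Ext
import Mathlib.CategoryTheory.Abelian.RightDerived
import Mathlib.CategoryTheory.Preadditive.Yoneda.Basic
import Mathlib.Algebra.Category.Grp.Abelian
import Mathlib.Algebra.Category.Grp.Zero
import Mathlib.Algebra.Homology.ShortComplex.Ab

/-!
# Right derived functors of `Hom(X, -)` are `Ext`
-/

set_option autoImplicit false

universe v u

open CategoryTheory CategoryTheory.Limits CategoryTheory.Abelian

namespace Groth.Agent.SiteCoh.ExtDerived

variable {A : Type u} [Category.{v} A] [Abelian A] [HasExt.{v} A] {X Y : A} (R : InjectiveResolution Y)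

theorem eq_zero_of_extMk_zero (f : X ⟶ R.cocomplex.X 0) (hf : f ≫ R.cocomplex.d 0 1 = 0)
    (h : R.extMk f 1 rfl hf = 0) : f = 0 := by
  rw [← R.extEquivCohomologyClass.apply_eq_iff_eq, InjectiveResolution.extEquivCohomologyClass_extMk,
    InjectiveResolution.extEquivCohomologyClass_zero,
    CochainComplex.HomComplex.CohomologyClass.mk_eq_zero_iff,
    CochainComplex.HomComplex.Cocycle.fromSingleMk_mem_coboundaries_iff _ _ _ _ _ (-1) (by simp)] at h
  obtain ⟨g, hg⟩ := h
  have : g = 0 := (R.cochainComplex.isZero_of_isStrictlyGE 0 (-1) (by lia)).eq_of_tgt _ _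
  rw [this, zero_comp] at hg
  have := congrArg (· ≫ (R.cochainComplexXIso 0 0 rfl).hom) hg.symm
  simpa using this

theorem extMk_congr {n m : ℕ} {hm : n + 1 = m} {f g : X ⟶ R.cocomplex.X n} (h : f = g)
    (hf : f ≫ R.cocomplex.d n m = 0) (hg : g ≫ R.cocomplex.d n m = 0) :
    R.extMk f m hm hf = R.extMk g m hm hg := by
  subst h
  rfl

variable (X)

/-- `Hom(X, I •)`. -/
noncomputable abbrev homCx : CochainComplex AddCommGrpCat.{v} ℕ :=
  ((preadditiveCoyoneda.obj (Opposite.op X)).mapHomologicalComplex _).obj R.cocomplex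

theorem iCycles_comp_d (n : ℕ) (z : (homCx X R).cycles n) :
    (show X ⟶ R.cocomplex.X n from (homCx X R).iCycles n z) ≫ R.cocomplex.d n (n + 1) = 0 :=
  ConcreteCategory.congr_hom ((homCx X R).iCycles_d n (n + 1)) z

/-- The class of a cocycle. -/
noncomputable def cls (n : ℕ) : (homCx X R).cycles n →+ Ext X Y n :=
  AddMonoidHom.mk' (fun z => R.extMk (show X ⟶ R.cocomplex.X n from (homCx X R).iCycles n z)
      (n + 1) rfl (iCycles_comp_d X R n z))
    (fun z w => by
      rw [InjectiveResolution.add_extMk]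
      congr 1
      exact map_add ((homCx X R).iCycles n).hom z w)

theorem cls_surjective (n : ℕ) : Function.Surjective (cls X R n) := fun x => by
  obtain ⟨f, hf, rfl⟩ := R.extMk_surjective x (n + 1) rfl
  have h : (ShortComplex.mk ((homCx X R).iCycles n) ((homCx X R).d n (n + 1))
      ((homCx X R).iCycles_d n (n + 1))).Exact :=
    ShortComplex.exact_of_f_is_kernel _ ((homCx X R).cyclesIsKernel n (n + 1) (by simp))
  rw [ShortComplex.ab_exact_iff] at h
  obtain ⟨z, hz⟩ := h f hf
  refine ⟨z, ?_⟩
  exact extMk_congr R hz (iCycles_comp_d X R n z) hf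

theorem cls_zero_injective : Function.Injective (cls X R 0) := by
  rw [injective_iff_map_eq_zero]
  intro z hz
  have := eq_zero_of_extMk_zero R _ (iCycles_comp_d X R 0 z) hz
  exact (AddCommGrpCat.mono_iff_injective ((homCx X R).iCycles 0)).1 inferInstance
    (this.trans (map_zero ((homCx X R).iCycles 0).hom).symm)

theorem cls_succ_eq_zero_iff (p : ℕ) (z : (homCx X R).cycles (p + 1)) :
    cls X R (p + 1) z = 0 ↔ ∃ g, (homCx X R).toCycles p (p + 1) g = z := by
  change R.extMk _ (p + 1 + 1) rfl (iCycles_comp_d X R (p + 1) z) = 0 ↔ _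
  rw [R.extMk_eq_zero_iff _ _ _ _ p rfl]
  constructor
  · rintro ⟨g, hg⟩
    refine ⟨g, (AddCommGrpCat.mono_iff_injective ((homCx X R).iCycles (p + 1))).1 inferInstance ?_⟩
    exact (ConcreteCategory.congr_hom ((homCx X R).toCycles_i p (p + 1)) g).trans hg
  · rintro ⟨g, rfl⟩
    exact ⟨g, (ConcreteCategory.congr_hom ((homCx X R).toCycles_i p (p + 1)) g).symm⟩

theorem nonempty_homology_addEquiv (n : ℕ) :
    Nonempty ((homCx X R).homology n ≃+ Ext X Y n) := by
  rcases n with _ | p
  · exact ⟨(CochainComplex.isoHomologyπ₀ (homCx X R)).addCommGroupIsoToAddEquiv.symm.trans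
      (AddEquiv.ofBijective (cls X R 0) ⟨cls_zero_injective X R, cls_surjective X R 0⟩)⟩
  · have h : ∀ z, (homCx X R).homologyπ (p + 1) z = 0 ↔ cls X R (p + 1) z = 0 := fun z => by
      rw [cls_succ_eq_zero_iff]
      have hex : (ShortComplex.mk ((homCx X R).toCycles p (p + 1)) ((homCx X R).homologyπ (p + 1))
          (by simp)).Exact :=
        ShortComplex.exact_of_g_is_cokernel _
          ((homCx X R).homologyIsCokernel p (p + 1) (by simp))
      rw [ShortComplex.ab_exact_iff] at hex
      refine ⟨fun hz => hex z hz, ?_⟩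
      rintro ⟨g, rfl⟩
      exact ConcreteCategory.congr_hom ((homCx X R).toCycles_comp_homologyπ p (p + 1)) g
    exact ⟨(QuotientAddGroup.quotientKerEquivOfSurjective ((homCx X R).homologyπ (p + 1)).hom
        ((AddCommGrpCat.epi_iff_surjective _).1 inferInstance)).symm.trans
      ((QuotientAddGroup.quotientAddEquivOfEq (by ext z; exact h z)).trans
        (QuotientAddGroup.quotientKerEquivOfSurjective (cls X R (p + 1)) (cls_surjective X R _)))⟩

/-- `Rⁿ Hom(X, -) = Extⁿ(X, -)`. -/
theorem nonempty_rightDerived_iso [HasInjectiveResolutions A] (Z : A) (n : ℕ) :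
    Nonempty (((preadditiveCoyoneda.obj (Opposite.op X)).rightDerived n).obj Z ≅
      AddCommGrpCat.of (Ext X Z n)) := by
  obtain ⟨e⟩ := nonempty_homology_addEquiv X (injectiveResolution Z) n
  exact ⟨(injectiveResolution Z).isoRightDerivedObj _ n ≪≫ e.toAddCommGrpIso⟩

end Groth.Agent.SiteCoh.ExtDerived
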