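import Groth.Agent.SiteCoh.Free
import Groth.Agent.SiteCoh.ExtDerived
import Mathlib.CategoryTheory.Abelian.FunctorCategory

/-!
# The cohomology presheaves are the right derived functors of the inclusion of sheaves in presheaves
-/

set_option autoImplicit false

universe u

open CategoryTheory CategoryTheory.Limits Opposite CategoryTheory.Abelian

namespace Groth.Agent.SiteCoh.CohPresheaf

variable {C : Type u} [SmallCategory C] {J : GrothendieckTopology C} {M : Sheaf J AddCommGrpCat.{u}}
  (R : InjectiveResolution M)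

/-- The complex of presheaves underlying an injective resolution. -/
noncomputable abbrev cx : CochainComplex (Cᵒᵖ ⥤ AddCommGrpCat.{u}) ℕ :=
  ((sheafToPresheaf J AddCommGrpCat.{u}).mapHomologicalComplex _).obj R.cocomplex

/-- The morphism attached to a cocycle over an object. -/
noncomputable def cocyc (n : ℕ) (V : Cᵒᵖ) (z : ((cx R).cycles n).obj V) :
    CohCx.freeSheaf J V.unop ⟶ R.cocomplex.X n :=
  (Free.sectionEquiv J V.unop (R.cocomplex.X n)).symm (((cx R).iCycles n).app V z)

theorem cocyc_comp_d (n : ℕ) (V : Cᵒᵖ) (z : ((cx R).cycles n).obj V) :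
    cocyc R n V z ≫ R.cocomplex.d n (n + 1) = 0 := by
  refine (Free.sectionEquiv J V.unop (R.cocomplex.X (n + 1))).injective ?_
  rw [Free.sectionEquiv_comp, cocyc, AddEquiv.apply_symm_apply, map_zero]
  exact ConcreteCategory.congr_hom (NatTrans.congr_app ((cx R).iCycles_d n (n + 1)) V) z

/-- The class of a cocycle, as a map of presheaves. -/
noncomputable def cls (n : ℕ) : (cx R).cycles n ⟶ M.cohomologyPresheaf n where
  app V := AddCommGrpCat.ofHom (AddMonoidHom.mk'
    (fun z => (R.extMk (cocyc R n V z) (n + 1) rfl (cocyc_comp_d R n V z) :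
      Ext (CohCx.freeSheaf J V.unop) M n))
    (fun z w => by
      rw [InjectiveResolution.add_extMk]
      refine ExtDerived.extMk_congr R ?_ _ _
      exact ((congrArg (Free.sectionEquiv J V.unop (R.cocomplex.X n)).symm
        (map_add (((cx R).iCycles n).app V).hom z w)).trans (map_add _ _ _))))
  naturality V W g := by
    ext z
    change R.extMk (cocyc R n W (((cx R).cycles n).map g z)) (n + 1) rfl
        (cocyc_comp_d R n W (((cx R).cycles n).map g z)) =
      (Ext.mk₀ (CohCx.freeSheafMap J g.unop)).comp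
        (R.extMk (cocyc R n V z) (n + 1) rfl (cocyc_comp_d R n V z)) (zero_add n)
    rw [InjectiveResolution.mk₀_comp_extMk]
    refine ExtDerived.extMk_congr R ?_ _ _
    refine (Free.sectionEquiv J W.unop (R.cocomplex.X n)).injective ?_
    rw [Free.sectionEquiv_map, cocyc, cocyc, AddEquiv.apply_symm_apply, AddEquiv.apply_symm_apply]
    exact NatTrans.naturality_apply ((cx R).iCycles n) g z

theorem cls_app_surjective (n : ℕ) (V : Cᵒᵖ) : Function.Surjective ((cls R n).app V) := fun x => by
  obtain ⟨f, hf, rfl⟩ := R.extMk_surjective (x : Ext (CohCx.freeSheaf J V.unop) M n) (n + 1) rfl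
  have hex : (ShortComplex.mk ((cx R).iCycles n) ((cx R).d n (n + 1))
      ((cx R).iCycles_d n (n + 1))).Exact :=
    ShortComplex.exact_of_f_is_kernel _ ((cx R).cyclesIsKernel n (n + 1) (by simp))
  have h := hex.map_of_mono_of_preservesKernel ((evaluation Cᵒᵖ AddCommGrpCat.{u}).obj V)
    inferInstance inferInstance
  rw [ShortComplex.ab_exact_iff] at h
  obtain ⟨z, hz⟩ := h (Free.sectionEquiv J V.unop (R.cocomplex.X n) f) (by
    change (R.cocomplex.d n (n + 1)).hom.app V _ = 0
    rw [← Free.sectionEquiv_comp, hf, map_zero])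
  refine ⟨z, ExtDerived.extMk_congr R ?_ (cocyc_comp_d R n V z) hf⟩
  exact (congrArg (Free.sectionEquiv J V.unop (R.cocomplex.X n)).symm hz).trans
    (AddEquiv.symm_apply_apply _ f)

theorem cls_zero_app_injective (V : Cᵒᵖ) : Function.Injective ((cls R 0).app V) := by
  rw [injective_iff_map_eq_zero]
  intro z hz
  have h := ExtDerived.eq_zero_of_extMk_zero R _ (cocyc_comp_d R 0 V z) hz
  rw [cocyc, EmbeddingLike.map_eq_zero_iff] at h
  exact (AddCommGrpCat.mono_iff_injective (((cx R).iCycles 0).app V)).1 inferInstance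
    (h.trans (map_zero _).symm)

theorem cls_succ_app_eq_zero_iff (p : ℕ) (V : Cᵒᵖ) (z : ((cx R).cycles (p + 1)).obj V) :
    (cls R (p + 1)).app V z = 0 ↔ ∃ g, ((cx R).toCycles p (p + 1)).app V g = z := by
  change R.extMk (cocyc R (p + 1) V z) (p + 1 + 1) rfl (cocyc_comp_d R (p + 1) V z) = 0 ↔ _
  rw [R.extMk_eq_zero_iff _ _ _ _ p rfl]
  constructor
  · rintro ⟨g, hg⟩
    refine ⟨Free.sectionEquiv J V.unop (R.cocomplex.X p) g,
      (AddCommGrpCat.mono_iff_injective (((cx R).iCycles (p + 1)).app V)).1 inferInstance ?_⟩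
    refine (ConcreteCategory.congr_hom
      (NatTrans.congr_app ((cx R).toCycles_i p (p + 1)) V) _).trans ?_
    refine (Free.sectionEquiv_comp J g (R.cocomplex.d p (p + 1))).symm.trans ?_
    rw [hg, cocyc, AddEquiv.apply_symm_apply]
  · rintro ⟨g, rfl⟩
    refine ⟨(Free.sectionEquiv J V.unop (R.cocomplex.X p)).symm g,
      (Free.sectionEquiv J V.unop (R.cocomplex.X (p + 1))).injective ?_⟩
    rw [Free.sectionEquiv_comp, cocyc, AddEquiv.apply_symm_apply, AddEquiv.apply_symm_apply]
    exact (ConcreteCategory.congr_hom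
      (NatTrans.congr_app ((cx R).toCycles_i p (p + 1)) V) g).symm

theorem nonempty_homology_iso (n : ℕ) :
    Nonempty ((cx R).homology n ≅ M.cohomologyPresheaf n) := by
  rcases n with _ | p
  · have : ∀ V, IsIso ((cls R 0).app V) := fun V =>
      (ConcreteCategory.isIso_iff_bijective _).2 ⟨cls_zero_app_injective R V, cls_app_surjective R 0 V⟩
    have : IsIso (cls R 0) := NatIso.isIso_of_isIso_app _
    exact ⟨(CochainComplex.isoHomologyπ₀ (cx R)).symm ≪≫ asIso (cls R 0)⟩
  · have hw : (cx R).toCycles p (p + 1) ≫ cls R (p + 1) = 0 := by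
      ext V g
      exact (cls_succ_app_eq_zero_iff R p V _).2 ⟨g, rfl⟩
    let hc := (cx R).homologyIsCokernel p (p + 1) (by simp)
    let ψ : (cx R).homology (p + 1) ⟶ M.cohomologyPresheaf (p + 1) :=
      hc.desc (CokernelCofork.ofπ _ hw)
    have hψ : (cx R).homologyπ (p + 1) ≫ ψ = cls R (p + 1) := hc.fac _ WalkingParallelPair.one
    have : ∀ V, IsIso (ψ.app V) := fun V => by
      have hs : Function.Surjective (((cx R).homologyπ (p + 1)).app V) :=
        (AddCommGrpCat.epi_iff_surjective _).1 inferInstance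
      have hψ' : ∀ z, ψ.app V (((cx R).homologyπ (p + 1)).app V z) = (cls R (p + 1)).app V z :=
        fun z => ConcreteCategory.congr_hom (NatTrans.congr_app hψ V) z
      refine (ConcreteCategory.isIso_iff_bijective _).2 ⟨?_, fun y => ?_⟩
      · rw [injective_iff_map_eq_zero]
        intro h hh
        obtain ⟨z, rfl⟩ := hs h
        rw [hψ'] at hh
        obtain ⟨g, rfl⟩ := (cls_succ_app_eq_zero_iff R p V z).1 hh
        exact ConcreteCategory.congr_hom
          (NatTrans.congr_app ((cx R).toCycles_comp_homologyπ p (p + 1)) V) g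
      · obtain ⟨z, rfl⟩ := cls_app_surjective R (p + 1) V y
        exact ⟨_, hψ' z⟩
    have : IsIso ψ := NatIso.isIso_of_isIso_app _
    exact ⟨asIso ψ⟩

/-- `Hⁿ(-, M)` is the value at `M` of the `n`-th right derived functor of the inclusion. -/
theorem nonempty_rightDerived_iso (M : Sheaf J AddCommGrpCat.{u}) (n : ℕ) :
    Nonempty (((sheafToPresheaf J AddCommGrpCat.{u}).rightDerived n).obj M ≅
      M.cohomologyPresheaf n) := by
  obtain ⟨e⟩ := nonempty_homology_iso (injectiveResolution M) n
  exact ⟨(injectiveResolution M).isoRightDerivedObj _ n ≪≫ e⟩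

end Groth.Agent.SiteCoh.CohPresheaf
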