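import Groth.Agent.SiteCoh.PushDerived
import Mathlib.CategoryTheory.Sites.LocallyBijective

/-!
# Naturality of `R^q u_* = ` sheafified cohomology presheaves, and preservation of colimits
-/

set_option autoImplicit false

universe u

open CategoryTheory CategoryTheory.Limits Opposite CategoryTheory.Abelian

namespace Groth.Agent.SiteCoh.PushNat

variable {C : Type u} [SmallCategory C] {J : GrothendieckTopology C}

open CohPresheaf

theorem exists_cohIso {M : Sheaf J AddCommGrpCat.{u}} (R : InjectiveResolution M) (n : ℕ) :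
    ∃ e : (cx R).homology n ≅ M.cohomologyPresheaf n, (cx R).homologyπ n ≫ e.hom = cls R n := by
  rcases n with _ | p
  · have : ∀ V, IsIso ((cls R 0).app V) := fun V =>
      (ConcreteCategory.isIso_iff_bijective _).2 ⟨cls_zero_app_injective R V, cls_app_surjective R 0 V⟩
    have : IsIso (cls R 0) := NatIso.isIso_of_isIso_app _
    exact ⟨(CochainComplex.isoHomologyπ₀ (cx R)).symm ≪≫ asIso (cls R 0), by simp⟩
  · have hw : (cx R).toCycles p (p + 1) ≫ cls R (p + 1) = 0 := by
      ext V g
      exact (cls_succ_app_eq_zero_iff R p V _).2 ⟨g, rfl⟩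
    let hc := (cx R).homologyIsCokernel p (p + 1) (by simp)
    let ψ : (cx R).homology (p + 1) ⟶ M.cohomologyPresheaf (p + 1) :=
      hc.desc (CokernelCofork.ofπ _ hw)
    have hψ : (cx R).homologyπ (p + 1) ≫ ψ = cls R (p + 1) := hc.fac _ WalkingParallelPair.one
    have : ∀ V, IsIso (ψ.app V) := fun V => by
      have hs : Function.Surjective (((cx R).homologyπ (p + 1)).app V) :=
        (AddCommGrpCat.epi_iff_surjective _).1 inferInstance
      have hψ' : ∀ z, ψ.app V (((cx R).homologyπ (p + 1)).app V z) = (cls R (p + 1)).app V z :=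
        fun z => ConcreteCategory.congr_hom (NatTrans.congr_app hψ V) z
      refine (ConcreteCategory.isIso_iff_bijective _).2 ⟨?_, fun y => ?_⟩
      · rw [injective_iff_map_eq_zero]
        intro h hh
        obtain ⟨z, rfl⟩ := hs h
        rw [hψ'] at hh
        obtain ⟨g, rfl⟩ := (cls_succ_app_eq_zero_iff R p V z).1 hh
        exact ConcreteCategory.congr_hom
          (NatTrans.congr_app ((cx R).toCycles_comp_homologyπ p (p + 1)) V) g
      · obtain ⟨z, rfl⟩ := cls_app_surjective R (p + 1) V y
        exact ⟨_, hψ' z⟩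
    have : IsIso ψ := NatIso.isIso_of_isIso_app _
    exact ⟨asIso ψ, hψ⟩

/-- The isomorphism between the homology presheaf of a resolution and the cohomology presheaf. -/
noncomputable def cohIso {M : Sheaf J AddCommGrpCat.{u}} (R : InjectiveResolution M) (n : ℕ) :
    (cx R).homology n ≅ M.cohomologyPresheaf n :=
  (exists_cohIso R n).choose

theorem π_cohIso {M : Sheaf J AddCommGrpCat.{u}} (R : InjectiveResolution M) (n : ℕ) :
    (cx R).homologyπ n ≫ (cohIso R n).hom = cls R n :=
  (exists_cohIso R n).choose_spec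

theorem cohIso_naturality {M M' : Sheaf J AddCommGrpCat.{u}} {R : InjectiveResolution M}
    {R' : InjectiveResolution M'} {g : M ⟶ M'} (φ : InjectiveResolution.Hom R R' g) (n : ℕ) :
    HomologicalComplex.homologyMap
        (((sheafToPresheaf J AddCommGrpCat.{u}).mapHomologicalComplex _).map φ.hom) n ≫
      (cohIso R' n).hom = (cohIso R n).hom ≫ (Sheaf.cohomologyPresheafFunctor J n).map g := by
  rw [← cancel_epi ((cx R).homologyπ n), HomologicalComplex.homologyπ_naturality_assoc, π_cohIso,
    reassoc_of% (π_cohIso R n)]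
  ext V z
  let Φ := ((sheafToPresheaf J AddCommGrpCat.{u}).mapHomologicalComplex _).map φ.hom
  change R'.extMk (cocyc R' n V ((HomologicalComplex.cyclesMap Φ n).app V z)) (n + 1) rfl
      (cocyc_comp_d R' n V _) =
    (R.extMk (cocyc R n V z) (n + 1) rfl (cocyc_comp_d R n V z)).comp (Ext.mk₀ g) (add_zero n)
  rw [InjectiveResolution.extMk_comp_mk₀ _ _ _ _ φ]
  refine ExtDerived.extMk_congr R' ?_ _ _
  refine (Free.sectionEquiv J V.unop (R'.cocomplex.X n)).injective ?_
  rw [Free.sectionEquiv_comp, cocyc, cocyc, AddEquiv.apply_symm_apply, AddEquiv.apply_symm_apply]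
  exact ConcreteCategory.congr_hom (NatTrans.congr_app (HomologicalComplex.cyclesMap_i Φ n) V) z

variable {D : Type u} [SmallCategory D] (K : GrothendieckTopology D) (u : D ⥤ C)
  [u.IsContinuous K J]

variable (J) in
/-- The presheaves `V ↦ H^q(u V, M)`. -/
noncomputable abbrev cohRestr (q : ℕ) : Sheaf J AddCommGrpCat.{u} ⥤ Dᵒᵖ ⥤ AddCommGrpCat.{u} :=
  Sheaf.cohomologyPresheafFunctor J q ⋙ (Functor.whiskeringLeft _ _ _).obj u.op

open PushDerived in
/-- The value of `R^q u_*` computed on a chosen resolution. -/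
noncomputable def objIso (q : ℕ) (M : Sheaf J AddCommGrpCat.{u}) :
    (CohSite.Rpush J K u q).obj M ≅
      (presheafToSheaf K AddCommGrpCat.{u}).obj ((cohRestr J u q).obj M) :=
  (injectiveResolution M).isoRightDerivedObj (CohSite.push J K u) q ≪≫
    (HomologicalComplex.homologyFunctor _ _ q).mapIso
      ((NatIso.mapHomologicalComplex (pushFactor J K u) _).app (injectiveResolution M).cocomplex) ≪≫
    ((cx (injectiveResolution M)).sc q).mapHomologyIso (restrSheafify K u) ≪≫
    (restrSheafify K u).mapIso (cohIso (injectiveResolution M) q)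

theorem objIso_naturality (q : ℕ) {M M' : Sheaf J AddCommGrpCat.{u}} (g : M ⟶ M') :
    (CohSite.Rpush J K u q).map g ≫ (objIso K u q M').hom =
      (objIso K u q M).hom ≫ (presheafToSheaf K AddCommGrpCat.{u}).map ((cohRestr J u q).map g) := by
  let R := injectiveResolution M
  let R' := injectiveResolution M'
  let φ : InjectiveResolution.Hom R R' g :=
    { hom := InjectiveResolution.desc g R' R
      ι_f_zero_comp_hom_f_zero := by
        have h := congrArg (fun t => t.f 0) (InjectiveResolution.desc_commutes g R' R)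
        simpa only [HomologicalComplex.comp_f] using h }
  have comm : R.ι.f 0 ≫ φ.hom.f 0 = g ≫ R'.ι.f 0 := by
    rw [φ.ι_f_zero_comp_hom_f_zero, CochainComplex.single₀_map_f_zero]
    rfl
  let Φ := ((sheafToPresheaf J AddCommGrpCat.{u}).mapHomologicalComplex _).map φ.hom
  dsimp only [objIso, Iso.trans_hom, Functor.mapIso_hom]
  rw [← Category.assoc, InjectiveResolution.isoRightDerivedObj_hom_naturality g R R' φ.hom comm]
  simp only [Category.assoc]
  refine congrArg (_ ≫ ·) ?_
  have h₁ := congrArg (fun t => HomologicalComplex.homologyMap t q)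
    ((NatIso.mapHomologicalComplex (PushDerived.pushFactor J K u) (ComplexShape.up ℕ)).hom.naturality φ.hom)
  simp only [HomologicalComplex.homologyMap_comp] at h₁
  refine (reassoc_of% h₁) _ |>.trans ?_
  refine congrArg (_ ≫ ·) ?_
  have h₂ := ShortComplex.mapHomologyIso_hom_naturality (S₁ := (cx R).sc q) (S₂ := (cx R').sc q)
    ((HomologicalComplex.shortComplexFunctor _ _ q).map Φ) (PushDerived.restrSheafify K u)
  refine (reassoc_of% h₂) _ |>.trans ?_
  refine congrArg (_ ≫ ·) ?_
  refine ((PushDerived.restrSheafify K u).map_comp _ _).symm.trans ?_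
  refine Eq.trans ?_ ((PushDerived.restrSheafify K u).map_comp _ _)
  exact congrArg _ (cohIso_naturality φ q)

/-- `R^q u_* = ` sheafification of `V ↦ H^q(u V, -)`, as functors. -/
noncomputable def natIso (q : ℕ) :
    CohSite.Rpush J K u q ≅ cohRestr J u q ⋙ presheafToSheaf K AddCommGrpCat.{u} :=
  NatIso.ofComponents (objIso K u q) fun g => objIso_naturality K u q g

omit [u.IsContinuous K J] in
/-- Sheafification turns locally colimiting cocones into colimits. -/
theorem preservesColimit_comp_sheafify {ι : Type u} [SmallCategory ι] {A : Type*} [Category A]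
    (P : A ⥤ Dᵒᵖ ⥤ AddCommGrpCat.{u}) (F : ι ⥤ A) [HasColimit F]
    (h : ∀ V : D, ∃ (κ : Type u) (Y : κ → D) (g : ∀ k, Y k ⟶ V), Sieve.ofArrows Y g ∈ K V ∧
      ∀ k, PreservesColimit F (P ⋙ (evaluation Dᵒᵖ AddCommGrpCat.{u}).obj (op (Y k)))) :
    PreservesColimit F (P ⋙ presheafToSheaf K AddCommGrpCat.{u}) := by
  let c₀ := colimit.cocone F
  let E := colimit.cocone (F ⋙ P)
  let c : E.pt ⟶ P.obj c₀.pt := colimit.desc _ (P.mapCocone c₀)
  have hcι : ∀ i, E.ι.app i ≫ c = P.map (c₀.ι.app i) := fun i => colimit.ι_desc _ _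
  have hbij : ∀ (Y : D), PreservesColimit F (P ⋙ (evaluation Dᵒᵖ AddCommGrpCat.{u}).obj (op Y)) →
      Function.Bijective (c.app (op Y)) := fun Y _ => by
    let ev := (evaluation Dᵒᵖ AddCommGrpCat.{u}).obj (op Y)
    have h₁ : IsColimit (ev.mapCocone E) := isColimitOfPreserves ev (colimit.isColimit _)
    have h₂ : IsColimit ((P ⋙ ev).mapCocone c₀) := isColimitOfPreserves (P ⋙ ev) (colimit.isColimit F)
    have he : c.app (op Y) = (h₁.coconePointUniqueUpToIso h₂).hom := h₁.hom_ext fun i =>
      (NatTrans.congr_app (hcι i) (op Y)).trans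
        (IsColimit.comp_coconePointUniqueUpToIso_hom h₁ h₂ i).symm
    rw [he]
    exact (ConcreteCategory.isIso_iff_bijective _).1 inferInstance
  have : Presheaf.IsLocallyInjective K c := ⟨fun {V} x y hxy => by
    obtain ⟨κ, Y, g, hg, hY⟩ := h V.unop
    refine K.superset_covering ?_ hg
    rw [Sieve.ofArrows, Sieve.generate_le_iff]
    rintro W f ⟨k⟩
    refine (hbij _ (hY k)).1 ?_
    rw [NatTrans.naturality_apply, NatTrans.naturality_apply, hxy]⟩
  have : Presheaf.IsLocallySurjective K c := ⟨fun {V} s => by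
    obtain ⟨κ, Y, g, hg, hY⟩ := h V
    refine K.superset_covering ?_ hg
    rw [Sieve.ofArrows, Sieve.generate_le_iff]
    rintro W f ⟨k⟩
    exact (hbij _ (hY k)).2 _⟩
  have hW : K.W c := (K.W_iff_isLocallyBijective c).2 ⟨inferInstance, inferInstance⟩
  have := (K.W_iff c).1 hW
  exact preservesColimit_of_preserves_colimit_cocone (colimit.isColimit F)
    (IsColimit.ofIsoColimit (isColimitOfPreserves (presheafToSheaf K AddCommGrpCat.{u}) (colimit.isColimit (F ⋙ P)))
      (Cocone.ext (asIso ((presheafToSheaf K AddCommGrpCat.{u}).map c)) fun i =>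
        ((presheafToSheaf K AddCommGrpCat.{u}).map_comp _ _).symm.trans
          (congrArg _ (hcι i))))

/-- `R^q u_*` preserves a colimit if `H^q(u Y, -)` does on a basis of covers. -/
theorem preservesColimit_Rpush {ι : Type u} [SmallCategory ι] (F : ι ⥤ Sheaf J AddCommGrpCat.{u})
    (q : ℕ)
    (h : ∀ V : D, ∃ (κ : Type u) (Y : κ → D) (g : ∀ k, Y k ⟶ V), Sieve.ofArrows Y g ∈ K V ∧
      ∀ k, PreservesColimit F ((Sheaf.cohomologyPresheafFunctor J q).flip.obj (op (u.obj (Y k))))) :
    PreservesColimit F (CohSite.Rpush J K u q) := by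
  have : PreservesColimit F (cohRestr J u q ⋙ presheafToSheaf K AddCommGrpCat.{u}) :=
    preservesColimit_comp_sheafify K (cohRestr J u q) F h
  exact preservesColimit_of_natIso F (natIso K u q).symm

end Groth.Agent.SiteCoh.PushNat
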