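import Groth.Agent.SiteCoh.Free

/-!
# Global cohomology is cohomology at a terminal object
-/

set_option autoImplicit false

universe u

open CategoryTheory CategoryTheory.Limits Opposite CategoryTheory.Abelian

namespace Groth.Agent.SiteCoh.ConstFree

variable {C : Type u} [SmallCategory C] (J : GrothendieckTopology C) {T : C} (hT : IsTerminal T)

/-- Maps out of the constant sheaf `ℤ` are sections at the terminal object. -/
noncomputable def homEquivConst (G : Sheaf J AddCommGrpCat.{u}) :
    ((constantSheaf J AddCommGrpCat.{u}).obj (AddCommGrpCat.of (ULift.{u} ℤ)) ⟶ G) ≃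
      (CohCx.freeSheaf J T ⟶ G) :=
  (((constantSheafAdj J AddCommGrpCat.{u} hT).homEquiv (AddCommGrpCat.of (ULift.{u} ℤ)) G).trans
    (AddCommGrpCat.uliftZMultiplesAddEquiv _).toEquiv).trans (Free.sectionEquiv J T G).symm.toEquiv

theorem homEquivConst_comp {G G' : Sheaf J AddCommGrpCat.{u}}
    (a : (constantSheaf J AddCommGrpCat.{u}).obj (AddCommGrpCat.of (ULift.{u} ℤ)) ⟶ G) (φ : G ⟶ G') :
    homEquivConst J hT G' (a ≫ φ) = homEquivConst J hT G a ≫ φ := by
  refine (Free.sectionEquiv J T G').injective ?_
  refine ((Free.sectionEquiv J T G').apply_symm_apply _).trans ?_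
  refine Eq.trans ?_ (Free.sectionEquiv_comp J (homEquivConst J hT G a) φ).symm
  refine Eq.trans ?_ (congrArg (φ.hom.app (op T)) ((Free.sectionEquiv J T G).apply_symm_apply _)).symm
  simp only [Equiv.trans_apply]
  rw [(constantSheafAdj J AddCommGrpCat.{u} hT).homEquiv_naturality_right a φ]
  rfl

include hT in
theorem nonempty_const_iso_freeSheaf :
    Nonempty ((constantSheaf J AddCommGrpCat.{u}).obj (AddCommGrpCat.of (ULift.{u} ℤ)) ≅
      CohCx.freeSheaf J T) := by
  let c := (constantSheaf J AddCommGrpCat.{u}).obj (AddCommGrpCat.of (ULift.{u} ℤ))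
  refine ⟨{ hom := (homEquivConst J hT (CohCx.freeSheaf J T)).symm (𝟙 _)
            inv := homEquivConst J hT c (𝟙 _)
            hom_inv_id := ?_
            inv_hom_id := ?_ }⟩
  · refine (homEquivConst J hT c).injective ?_
    rw [homEquivConst_comp, Equiv.apply_symm_apply, Category.id_comp]
  · rw [← homEquivConst_comp, Category.id_comp, Equiv.apply_symm_apply]

include hT in
/-- Global cohomology as cohomology at a terminal object. -/
theorem nonempty_HU_equiv_H (F : Sheaf J AddCommGrpCat.{u}) (n : ℕ) :
    Nonempty (CohSite.HU F n T ≃+ Sheaf.H.{u} F n) := by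
  obtain ⟨i⟩ := nonempty_const_iso_freeSheaf J hT
  exact ⟨(((extFunctor (C := Sheaf J AddCommGrpCat.{u}) n).flip.obj F).mapIso
    i.op).addCommGroupIsoToAddEquiv⟩

end Groth.Agent.SiteCoh.ConstFree
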