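import Mathlib.CategoryTheory.Sites.EpiMono
import Mathlib.CategoryTheory.Sites.Limits
import Mathlib.CategoryTheory.Limits.Types.Images

/-!
# Sites with enough weakly contractible objects
-/

set_option autoImplicit false

universe w v u w'

open CategoryTheory CategoryTheory.Limits Opposite

namespace Groth.Agent.SiteCoh.WeakContr

variable {C : Type u} [Category.{v} C] {J : GrothendieckTopology C}

/-- `U` is weakly contractible for sheaves of sets in the universe `w`. -/
def IsWC (J : GrothendieckTopology C) (U : C) : Prop :=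
  ∀ (A B : Sheaf J (Type w)) (ψ : A ⟶ B), Epi ψ → Function.Surjective (ψ.hom.app (op U))

/-- Every object is covered by a sieve factoring through objects of `B`. -/
def Covers (J : GrothendieckTopology C) (B : C → Prop) : Prop :=
  ∀ V : C, ∃ S : Sieve V, S ∈ J V ∧ ∀ ⦃W : C⦄ (f : W ⟶ V), S.arrows f →
    ∃ (U : C) (g : W ⟶ U) (h : U ⟶ V), B U ∧ g ≫ h = f

variable {A : Type w'} [Category A] {FA : A → A → Type*} {CA : A → Type w}
  [∀ X Y, FunLike (FA X Y) (CA X) (CA Y)] [ConcreteCategory A FA]

theorem isLocallySurjective_of_covers {B : C → Prop} (hB : Covers J B) {F G : Cᵒᵖ ⥤ A} (φ : F ⟶ G)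
    (h : ∀ U : C, B U → Function.Surjective (φ.app (op U))) :
    Presheaf.IsLocallySurjective J φ where
  imageSieve_mem {V} s := by
    obtain ⟨S, hS, hSf⟩ := hB V
    refine J.superset_covering ?_ hS
    intro W f hf
    obtain ⟨U, g, k, hU, rfl⟩ := hSf f hf
    obtain ⟨t, ht⟩ := h U hU (G.map k.op s)
    exact ⟨F.map g.op t, by rw [NatTrans.naturality_apply φ, ht, op_comp, Functor.map_comp,
      ConcreteCategory.comp_apply]⟩

theorem surjective_of_isLocallySurjective [J.HasSheafCompose (forget A)] {U : C} (hU : IsWC.{w} J U)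
    {F G : Sheaf J A} (φ : F ⟶ G) [Sheaf.IsLocallySurjective φ] :
    Function.Surjective (φ.hom.app (op U)) :=
  hU _ _ ((sheafCompose J (forget A)).map φ) inferInstance

theorem surjective_π_app {F : ℕᵒᵖ ⥤ Type w} {c : Cone F} (hc : IsLimit c)
    (hF : ∀ n, Function.Surjective (F.map (homOfLE (Nat.le_succ n)).op)) (n : ℕ) :
    Function.Surjective (c.π.app (op n)) := by
  intro y
  let z : ∀ k, F.obj (op (n + k)) := fun k => Nat.recOn k y (fun k zk => (hF (n + k) zk).choose)
  have hz : ∀ k, F.map (homOfLE (Nat.le_succ (n + k))).op (z (k + 1)) = z k :=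
    fun k => (hF (n + k) (z k)).choose_spec
  have hstep : ∀ (m k : ℕ) (_ : k ≤ m), F.map (homOfLE (show n + k ≤ n + m by omega)).op (z m) = z k := by
    intro m k hk
    induction hk with
    | refl => exact ConcreteCategory.congr_hom (F.map_id (op (n + k))) (z k)
    | @step p hp ih =>
      rw [← ih, ← hz p]
      rw [← ConcreteCategory.comp_apply, ← F.map_comp]
      congr 1
  let s : F.sections :=
    ⟨fun m => F.map (homOfLE (Nat.le_add_left m.unop n)).op (z m.unop), by
      intro a b f
      dsimp
      have hba : b.unop ≤ a.unop := leOfHom f.unop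
      rw [← ConcreteCategory.comp_apply, ← F.map_comp]
      conv_rhs => rw [← hstep a.unop b.unop hba, ← ConcreteCategory.comp_apply, ← F.map_comp]
      congr 2⟩
  refine ⟨(Types.isLimitEquivSections hc).symm s, ?_⟩
  rw [Types.isLimitEquivSections_symm_apply]
  show F.map _ (z n) = y
  conv_rhs => rw [show y = z 0 from rfl, ← hstep n 0 (Nat.zero_le n)]

end Groth.Agent.SiteCoh.WeakContr
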