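import Groth.Agent.KFlat.TruncHom
import Groth.Agent.SiteCoh.RlimSeq

/-!
# Maps from a single object to shifted truncations
-/

set_option autoImplicit false

universe w w' v u

open CategoryTheory Limits Pretriangulated DerivedCategory

namespace Groth.Agent.SiteCoh.TruncCoh

open Groth.Agent.KFlat.TruncHom

variable {A : Type u} [Category.{v} A] [Abelian A] [HasDerivedCategory.{w} A] [HasExt.{w'} A]

/-- Vanishing of the maps to a shifted single object from vanishing of `Ext`. -/
theorem single_hom_eq_zero (G M : A) (a q : ℤ)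
    (h : ∀ k : ℕ, a + k = q → Subsingleton (Abelian.Ext G M k))
    (f : (singleFunctor A 0).obj G ⟶ ((singleFunctor A a).obj M)⟦q⟧) : f = 0 := by
  let e : ((singleFunctor A a).obj M)⟦q⟧ ≅ (singleFunctor A (a - q)).obj M :=
    ((DerivedCategory.singleFunctors A).shiftIso q (a - q) a (by lia)).app M
  rw [← cancel_mono e.hom, zero_comp]
  rcases lt_or_ge 0 (a - q) with hlt | hge
  · exact TStructure.t.zero_of_isLE_of_isGE _ 0 (a - q) hlt inferInstance inferInstance
  · obtain ⟨k, hk⟩ := Int.le.dest hge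
    let e' : ((singleFunctor A 0).obj M)⟦(k : ℤ)⟧ ≅ (singleFunctor A (a - q)).obj M :=
      ((DerivedCategory.singleFunctors A).shiftIso (k : ℤ) (a - q) 0 (by lia)).app M
    have := h k (by lia)
    have h0 : ((f ≫ e.hom) ≫ e'.inv) = 0 := by
      apply Abelian.Ext.homEquiv.symm.injective
      exact Subsingleton.elim _ _
    rwa [← cancel_mono e'.inv, zero_comp]

theorem e_symm_zero {T : Type*} [Category T] [Preadditive T] [HasZeroObject T] [HasShift T ℤ]
    [∀ n : ℤ, (shiftFunctor T n).Additive] [Pretriangulated T] (Z : T) (m : ℤ) (X : T) :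
    (RlimSeq.e Z m X).symm 0 = 0 :=
  (Equiv.symm_apply_eq _).2 (RlimSeq.e_zero Z m X).symm

variable (G : A)

/-- `truncGE a E ⟶ truncGE (a+1) E` is the truncation of `truncGE a E`. -/
theorem exists_iso_natTrans (E : DerivedCategory A) (a b : ℤ) (hb : a + 1 = b) :
    ∃ φ : (TStructure.t.truncGE b).obj ((TStructure.t.truncGE a).obj E) ≅ (TStructure.t.truncGE b).obj E,
      (TStructure.t.truncGEπ b).app ((TStructure.t.truncGE a).obj E) ≫ φ.hom =
        (TStructure.t.natTransTruncGEOfLE a b (by lia)).app E := by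
  let tr := (TStructure.t.natTransTruncGEOfLE a b (show a ≤ b by lia)).app E
  have : TStructure.t.IsGE ((TStructure.t.truncGE b).obj E) b := inferInstance
  let φ := TStructure.t.descTruncGE tr b
  have hφ : (TStructure.t.truncGEπ b).app ((TStructure.t.truncGE a).obj E) ≫ φ = tr :=
    TStructure.t.π_descTruncGE tr b
  have : IsIso φ := by
    rw [DerivedCategory.isIso_iff]
    intro i
    rcases lt_or_ge i b with hi | hi
    · have h₁ : IsZero ((homologyFunctor A i).obj
          ((TStructure.t.truncGE b).obj ((TStructure.t.truncGE a).obj E))) :=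
        (isGE_iff _ b).1 inferInstance i hi
      have h₂ : IsZero ((homologyFunctor A i).obj ((TStructure.t.truncGE b).obj E)) :=
        (isGE_iff _ b).1 inferInstance i hi
      exact ⟨0, h₁.eq_of_src _ _, h₂.eq_of_src _ _⟩
    · have := isIso_H_truncGEπ ((TStructure.t.truncGE a).obj E) b i hi
      have := isIso_H_truncGEπ E a i (by lia)
      have hE := isIso_H_truncGEπ E b i hi
      rw [← TStructure.t.π_natTransTruncGEOfLE_app a b (by lia) E] at hE
      simp only [Functor.map_comp] at hE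
      have := IsIso.of_isIso_comp_left ((homologyFunctor A i).map ((TStructure.t.truncGEπ a).app E))
        ((homologyFunctor A i).map tr)
      rw [← hφ, Functor.map_comp] at this
      exact IsIso.of_isIso_comp_left ((homologyFunctor A i).map
        ((TStructure.t.truncGEπ b).app ((TStructure.t.truncGE a).obj E))) _
  exact ⟨asIso φ, hφ⟩

/-- The fibre of a truncation step. -/
theorem exists_iso_fibre (E : DerivedCategory A) (a b : ℤ) (hb : a + 1 = b) :
    ∃ (M : A) (_ : M ≅ (homologyFunctor A a).obj E),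
      Nonempty ((TStructure.t.truncLT b).obj ((TStructure.t.truncGE a).obj E) ≅ (singleFunctor A a).obj M) := by
  subst hb
  obtain ⟨M, ⟨e⟩, he⟩ := truncLT_succ_iso_single ((TStructure.t.truncGE a).obj E) a inferInstance
  have := isIso_H_truncGEπ E a a le_rfl
  exact ⟨M, e ≪≫ (asIso ((homologyFunctor A a).map ((TStructure.t.truncGEπ a).app E))).symm, he⟩

theorem subsingleton_of_iso {M N : A} (e : M ≅ N) {k : ℕ} (h : Subsingleton (Abelian.Ext G N k)) :
    Subsingleton (Abelian.Ext G M k) := by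
  refine ⟨fun x y => ?_⟩
  have h' := congrArg (fun z : Abelian.Ext G N k => z.comp (Abelian.Ext.mk₀ e.inv) (add_zero k))
    (h.elim (x.comp (Abelian.Ext.mk₀ e.hom) (add_zero k)) (y.comp (Abelian.Ext.mk₀ e.hom) (add_zero k)))
  simpa using h'

theorem step_injective (E : DerivedCategory A) (a b : ℤ) (hb : a + 1 = b) (q : ℤ)
    (h : ∀ k : ℕ, a + k = q → Subsingleton (Abelian.Ext G ((homologyFunctor A a).obj E) k))
    (x : (singleFunctor A 0).obj G ⟶ ((TStructure.t.truncGE a).obj E)⟦q⟧)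
    (hx : x ≫ ((TStructure.t.natTransTruncGEOfLE a b (by lia)).app E)⟦q⟧' = 0) : x = 0 := by
  obtain ⟨φ, hφ⟩ := exists_iso_natTrans E a b hb
  obtain ⟨M, eM, ⟨e⟩⟩ := exists_iso_fibre E a b hb
  let X := (TStructure.t.truncGE a).obj E
  let ι : (TStructure.t.truncLT b).obj X ⟶ X := (TStructure.t.truncLTι b).app X
  let π : X ⟶ (TStructure.t.truncGE b).obj X := (TStructure.t.truncGEπ b).app X
  have hT := TStructure.t.triangleLTGE_distinguished b X
  let ε := fun Y : DerivedCategory A => RlimSeq.e ((singleFunctor A 0).obj G) q Y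
  have h2 : x ≫ π⟦q⟧' = 0 := by
    rw [← cancel_mono (φ.hom⟦q⟧'), zero_comp, Category.assoc, ← Functor.map_comp]
    exact (congrArg (fun f => x ≫ f⟦q⟧') hφ).trans hx
  obtain ⟨g, hg⟩ := Triangle.coyoneda_exact₂ _ hT ((ε X).symm x) (by
    show (ε X).symm x ≫ π = 0
    apply (ε _).injective
    rw [RlimSeq.e_comp, RlimSeq.e_zero, Equiv.apply_symm_apply, h2])
  have hx' : x = ε _ g ≫ ι⟦q⟧' :=
    ((ε X).apply_symm_apply x).symm.trans ((congrArg (ε X) hg).trans (RlimSeq.e_comp _ q g ι))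
  have hg0 : ε ((TStructure.t.truncLT b).obj X) g ≫ e.hom⟦q⟧' = 0 :=
    single_hom_eq_zero G M a q (fun k hk => subsingleton_of_iso G eM (h k hk)) _
  have : ε _ g = 0 := (cancel_mono (e.hom⟦q⟧')).1 (hg0.trans zero_comp.symm)
  rw [hx', this, zero_comp]

theorem step_surjective (E : DerivedCategory A) (a b : ℤ) (hb : a + 1 = b) (q : ℤ)
    (h : ∀ k : ℕ, a + k = q + 1 → Subsingleton (Abelian.Ext G ((homologyFunctor A a).obj E) k))
    (y : (singleFunctor A 0).obj G ⟶ ((TStructure.t.truncGE b).obj E)⟦q⟧) :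
    ∃ x : (singleFunctor A 0).obj G ⟶ ((TStructure.t.truncGE a).obj E)⟦q⟧,
      x ≫ ((TStructure.t.natTransTruncGEOfLE a b (by lia)).app E)⟦q⟧' = y := by
  obtain ⟨φ, hφ⟩ := exists_iso_natTrans E a b hb
  obtain ⟨M, eM, ⟨e⟩⟩ := exists_iso_fibre E a b hb
  let X := (TStructure.t.truncGE a).obj E
  let π : X ⟶ (TStructure.t.truncGE b).obj X := (TStructure.t.truncGEπ b).app X
  let δ : (TStructure.t.truncGE b).obj X ⟶ ((TStructure.t.truncLT b).obj X)⟦(1 : ℤ)⟧ :=
    (TStructure.t.truncGEδLT b).app X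
  have hT := TStructure.t.triangleLTGE_distinguished b X
  let ε := fun Y : DerivedCategory A => RlimSeq.e ((singleFunctor A 0).obj G) q Y
  let y₀ : (singleFunctor A 0).obj G ⟶ ((TStructure.t.truncGE b).obj X)⟦q⟧ := y ≫ φ.inv⟦q⟧'
  let e' : ((TStructure.t.truncLT b).obj X)⟦(1 : ℤ)⟧ ≅ (singleFunctor A (a - 1)).obj M :=
    (shiftFunctor (DerivedCategory A) (1 : ℤ)).mapIso e ≪≫
      ((DerivedCategory.singleFunctors A).shiftIso 1 (a - 1) a (by lia)).app M
  have h0 : (y₀ ≫ δ⟦q⟧') ≫ e'.hom⟦q⟧' = 0 :=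
    single_hom_eq_zero G M (a - 1) q (fun k hk => subsingleton_of_iso G eM (h k (by lia))) _
  have h1 : y₀ ≫ δ⟦q⟧' = 0 := (cancel_mono (e'.hom⟦q⟧')).1 (h0.trans zero_comp.symm)
  obtain ⟨g, hg⟩ := Triangle.coyoneda_exact₃ _ hT ((ε _).symm y₀) (by
    show (ε _).symm y₀ ≫ δ = 0
    apply (ε _).injective
    rw [RlimSeq.e_comp, RlimSeq.e_zero, Equiv.apply_symm_apply, h1])
  have hy : y₀ = ε X g ≫ π⟦q⟧' :=
    ((ε _).apply_symm_apply y₀).symm.trans ((congrArg (ε _) hg).trans (RlimSeq.e_comp _ q g π))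
  refine ⟨ε X g, ?_⟩
  rw [← hφ, Functor.map_comp, ← Category.assoc]
  refine (congrArg (· ≫ φ.hom⟦q⟧') hy.symm).trans ?_
  simp only [y₀, Category.assoc, ← Functor.map_comp, φ.inv_hom_id, CategoryTheory.Functor.map_id, Category.comp_id]

end Groth.Agent.SiteCoh.TruncCoh
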