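import Groth.Agent.SiteCoh.Free
import Mathlib.AlgebraicTopology.ExtraDegeneracy
import Mathlib.Algebra.Homology.QuasiIso
import Mathlib.CategoryTheory.Subfunctor.Image

/-!
# Free resolutions from Čech-like simplicial presheaves of sets

An augmented simplicial presheaf of sets `X → B` is Čech-like when its `n`-simplices over each object
are the `(n+1)`-tuples of vertices with the same image in `B`.  If moreover `X₀ → B` is locally
surjective, the free abelian sheaves on `X` form a resolution of the free abelian sheaf on `B`.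
-/

set_option autoImplicit false

universe u v w

open CategoryTheory CategoryTheory.Limits Opposite Simplicial AlgebraicTopology

namespace Groth.Agent.SiteCoh.CechLike

section Sets

/-- The `n`-simplices are the tuples of vertices with the same augmentation. -/
structure IsCechLike (X : SimplicialObject.Augmented (Type u)) : Prop where
  inj : ∀ (n : ℕ) (x y : X.left.obj (op ⦋n⦌)),
    (∀ j : Fin (n + 1), X.left.map (SimplexCategory.const ⦋0⦌ ⦋n⦌ j).op x =
      X.left.map (SimplexCategory.const ⦋0⦌ ⦋n⦌ j).op y) → x = y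
  surj : ∀ (n : ℕ) (v : Fin (n + 1) → X.left.obj (op ⦋0⦌)),
    (∀ j, X.hom.app (op ⦋0⦌) (v j) = X.hom.app (op ⦋0⦌) (v 0)) →
    ∃ x : X.left.obj (op ⦋n⦌), ∀ j : Fin (n + 1),
      X.left.map (SimplexCategory.const ⦋0⦌ ⦋n⦌ j).op x = v j

variable {X : SimplicialObject.Augmented (Type u)}

/-- The vertices of a simplex. -/
noncomputable def vert {n : ℕ} (x : X.left.obj (op ⦋n⦌)) (j : Fin (n + 1)) : X.left.obj (op ⦋0⦌) :=
  X.left.map (SimplexCategory.const ⦋0⦌ ⦋n⦌ j).op x

theorem vert_map {n m : ℕ} (θ : ⦋m⦌ ⟶ ⦋n⦌) (x : X.left.obj (op ⦋n⦌)) (j : Fin (m + 1)) :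
    vert (X.left.map θ.op x) j = vert x (θ.toOrderHom j) := by
  have h : SimplexCategory.const ⦋0⦌ ⦋m⦌ j ≫ θ = SimplexCategory.const ⦋0⦌ ⦋n⦌ (θ.toOrderHom j) :=
    SimplexCategory.const_comp _ _ _
  rw [vert, vert, ← h, op_comp, Functor.map_comp_apply]

theorem aug_vert {n : ℕ} (x : X.left.obj (op ⦋n⦌)) (j : Fin (n + 1)) :
    X.hom.app (op ⦋0⦌) (vert x j) = X.hom.app (op ⦋n⦌) x :=
  NatTrans.naturality_apply X.hom (SimplexCategory.const ⦋0⦌ ⦋n⦌ j).op x

theorem vert_zero (x : X.left.obj (op ⦋0⦌)) (j : Fin 1) : vert x j = x := by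
  have : SimplexCategory.const ⦋0⦌ ⦋0⦌ j = 𝟙 _ := by ext i; fin_cases i; fin_cases j; rfl
  rw [vert, this, op_id, Functor.map_id_apply]

theorem vert_δ {n : ℕ} (i : Fin (n + 2)) (x : X.left.obj (op ⦋n + 1⦌)) (j : Fin (n + 1)) :
    vert (X.left.δ i x) j = vert x (i.succAbove j) :=
  vert_map (SimplexCategory.δ i) x j

theorem vert_σ {n : ℕ} (i : Fin (n + 1)) (x : X.left.obj (op ⦋n⦌)) (j : Fin (n + 2)) :
    vert (X.left.σ i x) j = vert x (i.predAbove j) :=
  vert_map (SimplexCategory.σ i) x j

/-- A Čech-like simplicial set with surjective augmentation has an extra degeneracy. -/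
theorem IsCechLike.nonempty_extraDegeneracy (h : IsCechLike X)
    (hsurj : Function.Surjective (X.hom.app (op ⦋0⦌))) :
    Nonempty (SimplicialObject.Augmented.ExtraDegeneracy X) := by
  classical
  choose s' hs' using hsurj
  have ex : ∀ (n : ℕ) (x : X.left.obj (op ⦋n⦌)), ∃ y : X.left.obj (op ⦋n + 1⦌),
      vert y 0 = s' (X.hom.app (op ⦋n⦌) x) ∧ ∀ j : Fin (n + 1), vert y j.succ = vert x j := by
    intro n x
    obtain ⟨y, hy⟩ := h.surj (n + 1) (Fin.cons (s' (X.hom.app (op ⦋n⦌) x)) (vert x)) (fun j => by
      induction j using Fin.cases with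
      | zero => rfl
      | succ j =>
        rw [Fin.cons_succ, Fin.cons_zero, aug_vert]
        exact (hs' _).symm)
    exact ⟨y, by simpa [vert] using hy 0, fun j => by simpa [vert] using hy j.succ⟩
  choose s hs0 hss using ex
  have aug_δ : ∀ {n : ℕ} (i : Fin (n + 2)) (x : X.left.obj (op ⦋n + 1⦌)),
      X.hom.app (op ⦋n⦌) (X.left.δ i x) = X.hom.app (op ⦋n + 1⦌) x :=
    fun i x => NatTrans.naturality_apply X.hom (SimplexCategory.δ i).op x
  have aug_σ : ∀ {n : ℕ} (i : Fin (n + 1)) (x : X.left.obj (op ⦋n⦌)),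
      X.hom.app (op ⦋n + 1⦌) (X.left.σ i x) = X.hom.app (op ⦋n⦌) x :=
    fun i x => NatTrans.naturality_apply X.hom (SimplexCategory.σ i).op x
  refine ⟨{ s' := ↾s', s := fun n => ↾(s n), s'_comp_ε := ?_, s₀_comp_δ₁ := ?_, s_comp_δ₀ := ?_,
            s_comp_δ := ?_, s_comp_σ := ?_ }⟩
  · ext b
    exact hs' b
  · ext x
    refine h.inj 0 _ _ fun j => ?_
    change vert (X.left.δ 1 (s 0 x)) j = vert (s' (X.hom.app (op ⦋0⦌) x)) j
    rw [vert_δ, vert_zero (s' _), show (1 : Fin 2).succAbove j = 0 by fin_cases j; rfl, hs0]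
  · intro n
    ext x
    refine h.inj n _ _ fun j => ?_
    change vert (X.left.δ 0 (s n x)) j = vert x j
    rw [vert_δ, Fin.succAbove_zero, hss]
  · intro n i
    ext x
    refine h.inj (n + 1) _ _ fun j => ?_
    change vert (X.left.δ i.succ (s (n + 1) x)) j = vert (s n (X.left.δ i x)) j
    rw [vert_δ]
    induction j using Fin.cases with
    | zero =>
      rw [hs0, aug_δ, Fin.succ_succAbove_zero, hs0]
    | succ j =>
      rw [hss, vert_δ, Fin.succ_succAbove_succ, hss]
  · intro n i
    ext x
    refine h.inj (n + 2) _ _ fun j => ?_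
    change vert (X.left.σ i.succ (s n x)) j = vert (s (n + 1) (X.left.σ i x)) j
    rw [vert_σ]
    induction j using Fin.cases with
    | zero =>
      rw [hs0, aug_σ, show i.succ.predAbove (0 : Fin (n + 3)) = 0 by simp [Fin.predAbove], hs0]
    | succ j =>
      rw [hss, vert_σ, Fin.succ_predAbove_succ, hss]

end Sets

section Map

variable {D : Type w} [Category.{v} D] [Preadditive D] [HasZeroObject D]
variable {E : Type*} [Category E] [Preadditive E] [HasZeroObject E]
variable (F : D ⥤ E) [F.Additive]

/-- An additive functor commutes with the alternating face map complex. -/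
noncomputable def mapIso (Y : SimplicialObject D) :
    (F.mapHomologicalComplex _).obj ((alternatingFaceMapComplex D).obj Y) ≅
      (alternatingFaceMapComplex E).obj (((SimplicialObject.whiskering D E).obj F).obj Y) :=
  eqToIso (Functor.congr_obj (map_alternatingFaceMapComplex F) Y)

theorem mapIso_hom_f (Y : SimplicialObject D) (n : ℕ) : (mapIso F Y).hom.f n = 𝟙 _ := by
  simp [mapIso, eqToIso, HomologicalComplex.eqToHom_f]
  rfl

/-- The image of the augmentation of the alternating face map complex. -/
theorem quasiIso_map_ε_iff [CategoryWithHomology D] [CategoryWithHomology E]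
    (X : SimplicialObject.Augmented D) :
    QuasiIso ((F.mapHomologicalComplex _).map (AlternatingFaceMapComplex.ε.app X)) ↔
      QuasiIso (AlternatingFaceMapComplex.ε.app
        (((SimplicialObject.Augmented.whiskering D E).obj F).obj X)) := by
  refine quasiIso_iff_of_arrow_mk_iso _ _ (Arrow.isoMk (mapIso F X.left)
    ((HomologicalComplex.singleMapHomologicalComplex F (ComplexShape.down ℕ) 0).app X.right) ?_)
  refine HomologicalComplex.to_single_hom_ext ?_
  simp [mapIso_hom_f, HomologicalComplex.singleMapHomologicalComplex_hom_app_self,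
    AlternatingFaceMapComplex.ε_app_f_zero, ChainComplex.single₀ObjXSelf]
  erw [Category.id_comp, Category.comp_id]
  simp [SimplicialObject.Augmented.whiskering, SimplicialObject.Augmented.whiskeringObj]

end Map

section Presheaves

variable {C : Type u} [SmallCategory C] (J : GrothendieckTopology C)

/-- The sets over `V`. -/
noncomputable abbrev at' (X : SimplicialObject.Augmented (Cᵒᵖ ⥤ Type u)) (V : Cᵒᵖ) :
    SimplicialObject.Augmented (Type u) :=
  ((SimplicialObject.Augmented.whiskering _ _).obj ((evaluation Cᵒᵖ (Type u)).obj V)).obj X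

/-- A quasi-isomorphism of complexes of presheaves may be detected on each object. -/
theorem quasiIso_of_eval {K L : ChainComplex (Cᵒᵖ ⥤ AddCommGrpCat.{u}) ℕ} (φ : K ⟶ L)
    (h : ∀ V : Cᵒᵖ, QuasiIso
      ((((evaluation Cᵒᵖ AddCommGrpCat.{u}).obj V).mapHomologicalComplex _).map φ)) :
    QuasiIso φ := by
  refine ⟨fun n => ?_⟩
  rw [quasiIsoAt_iff_isIso_homologyMap, NatTrans.isIso_iff_isIso_app]
  intro V
  have h1 := (h V).quasiIsoAt n
  rw [quasiIsoAt_iff, ShortComplex.quasiIso_iff] at h1
  let ev := (evaluation Cᵒᵖ AddCommGrpCat.{u}).obj V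
  let ψ := (HomologicalComplex.shortComplexFunctor _ _ n).map φ
  change IsIso (ev.map (ShortComplex.homologyMap ψ))
  have h2 : IsIso (ShortComplex.homologyMap (ev.mapShortComplex.map ψ)) := h1
  have h3 := ShortComplex.mapHomologyIso_hom_naturality ψ ev
  have h4 : IsIso (((HomologicalComplex.sc K n).mapHomologyIso ev).hom ≫ ev.map (ShortComplex.homologyMap ψ)) := by
    rw [← h3]
    exact IsIso.comp_isIso' h2 inferInstance
  exact IsIso.of_isIso_comp_left ((HomologicalComplex.sc K n).mapHomologyIso ev).hom _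

/-- The range of the augmentation, as a new augmentation. -/
noncomputable def toRange (X : SimplicialObject.Augmented (Cᵒᵖ ⥤ Type u)) :
    SimplicialObject.Augmented (Cᵒᵖ ⥤ Type u) :=
  { left := X.left
    right := (Subfunctor.range (X.hom.app (op ⦋0⦌))).toFunctor
    hom :=
      { app := fun n => Subfunctor.lift (X.hom.app n) (by
          have h : X.left.map (SimplexCategory.const ⦋0⦌ n.unop 0).op ≫ X.hom.app (op ⦋0⦌) =
              X.hom.app n := (X.hom.naturality _).trans (Category.comp_id _)
          rw [← h]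
          exact Subfunctor.range_comp_le _ _)
        naturality := fun n m g => by
          ext V x
          refine Subtype.ext ?_
          exact ConcreteCategory.congr_hom (NatTrans.congr_app (X.hom.naturality g) V) x } }

/-- The morphism from the corestriction to the original augmentation. -/
noncomputable def fromRange (X : SimplicialObject.Augmented (Cᵒᵖ ⥤ Type u)) : toRange X ⟶ X where
  left := 𝟙 _
  right := (Subfunctor.range (X.hom.app (op ⦋0⦌))).ι
  w := by ext n V x; rfl

theorem quasiIso_free_ε (X : SimplicialObject.Augmented (Cᵒᵖ ⥤ Type u))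
    (h : ∀ V, IsCechLike (at' X V))
    (hs : Presheaf.IsLocallySurjective J (X.hom.app (op ⦋0⦌))) :
    QuasiIso (AlternatingFaceMapComplex.ε.app
      (((SimplicialObject.Augmented.whiskering _ _).obj (Free.freePre J)).obj X)) := by
  let G : (Cᵒᵖ ⥤ Type u) ⥤ (Cᵒᵖ ⥤ AddCommGrpCat.{u}) :=
    (Functor.whiskeringRight _ _ _).obj AddCommGrpCat.free.{u}
  let Y := ((SimplicialObject.Augmented.whiskering _ _).obj G).obj (toRange X)
  have h1 : QuasiIso (AlternatingFaceMapComplex.ε.app Y) := by
    refine quasiIso_of_eval _ fun V => ?_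
    rw [quasiIso_map_ε_iff]
    have hX : IsCechLike (at' (toRange X) V) :=
      { inj := (h V).inj
        surj := fun n v hv => (h V).surj n v fun j => congrArg Subtype.val (hv j) }
    have hsurj : Function.Surjective ((at' (toRange X) V).hom.app (op ⦋0⦌)) := by
      rintro ⟨b, x, rfl⟩
      exact ⟨x, rfl⟩
    obtain ⟨ed⟩ := hX.nonempty_extraDegeneracy hsurj
    have := (ed.map AddCommGrpCat.free.{u}).homotopyEquiv.quasiIso_hom
    exact this
  have h2 : QuasiIso (AlternatingFaceMapComplex.ε.app
      (((SimplicialObject.Augmented.whiskering _ _).obj (Free.freePre J)).obj (toRange X))) :=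
    (quasiIso_map_ε_iff (presheafToSheaf J AddCommGrpCat.{u}) Y).1
      (HomologicalComplex.quasiIso_map_of_preservesHomology _ _)
  let φ := ((SimplicialObject.Augmented.whiskering _ _).obj (Free.freePre J)).map (fromRange X)
  have hφ : IsIso φ.right := by
    refine Free.isIso_freePre_map_of_W J _ ?_
    rw [GrothendieckTopology.W_iff_isLocallyBijective]
    exact ⟨inferInstanceAs (Presheaf.IsLocallyInjective J
        (Subfunctor.range (X.hom.app (op ⦋0⦌))).ι),
      Presheaf.isLocallySurjective_of_isLocallySurjective_fac J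
        (show Subfunctor.toRange (X.hom.app (op ⦋0⦌)) ≫ _ = X.hom.app (op ⦋0⦌) from
          Subfunctor.toRange_ι _)⟩
  have hl : φ.left = 𝟙 _ := by
    apply NatTrans.ext
    funext n
    exact (Free.freePre J).map_id _
  have hsq := AlternatingFaceMapComplex.ε.naturality φ
  have h3 : QuasiIso (AlternatingFaceMapComplex.ε.app
      (((SimplicialObject.Augmented.whiskering _ _).obj (Free.freePre J)).obj (toRange X)) ≫
      (ChainComplex.single₀ (Sheaf J AddCommGrpCat.{u})).map φ.right) :=
    inferInstance
  rw [show (SimplicialObject.Augmented.point ⋙ ChainComplex.single₀ _).map φ =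
    (ChainComplex.single₀ _).map φ.right from rfl] at hsq
  rw [← hsq] at h3
  rw [show (SimplicialObject.Augmented.drop ⋙ alternatingFaceMapComplex _).map φ = 𝟙 _ by
    change (alternatingFaceMapComplex _).map φ.left = _
    rw [hl]
    exact (alternatingFaceMapComplex _).map_id _] at h3
  erw [Category.id_comp] at h3
  exact h3

end Presheaves

end Groth.Agent.SiteCoh.CechLike
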