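import Groth.Agent.SiteCoh.Totally
import Groth.Agent.SiteCoh.DimShift

/-!
# Sheaves acyclic on every object of a site
-/

set_option autoImplicit false

universe u

open CategoryTheory CategoryTheory.Limits Opposite CategoryTheory.Abelian

namespace Groth.Agent.SiteCoh.Acyclic

variable {C : Type u} [SmallCategory C] {J : GrothendieckTopology C}

/-- Totally acyclic sheaves are acyclic on objects. -/
theorem subsingleton_HU_of_totally (F : Sheaf J AddCommGrpCat.{u}) (hF : CohCx.IsTotallyAcyclic F)
    (U : C) (p : ℕ) : Subsingleton (CohSite.HU F (p + 1) U) := by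
  let K : Sheaf J (Type u) := (presheafToSheaf J (Type u)).obj (yoneda.obj U)
  have := Free.isIso_freePre_map_of_W J (toSheafify J (yoneda.obj U)) (J.W_toSheafify _)
  have e := (((extFunctor (C := Sheaf J AddCommGrpCat.{u}) (p + 1)).flip.obj F).mapIso
    (asIso ((Free.freePre J).map (toSheafify J (yoneda.obj U)))).op).addCommGroupIsoToAddEquiv
  exact @Equiv.subsingleton _ _ e.symm.toEquiv (hF K p)

variable {S : ShortComplex (Sheaf J AddCommGrpCat.{u})} (hS : S.ShortExact)

include hS

/-- Sections over `U` of an epimorphism with acyclic kernel are surjective. -/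
theorem surjective_sections (U : C) [Subsingleton (CohSite.HU S.X₁ 1 U)] :
    Function.Surjective (S.g.hom.app (op U)) := by
  intro b
  obtain ⟨g, rfl⟩ := (Free.sectionEquiv J U S.X₃).surjective b
  have : Subsingleton (Ext (CohCx.freeSheaf J U) S.X₁ 1) := ‹_›
  obtain ⟨a, rfl⟩ := DimShift.exists_lift hS g
  exact ⟨Free.sectionEquiv J U S.X₂ a, (Free.sectionEquiv_comp J a S.g).symm⟩

/-- An exact sequence with acyclic first term stays exact under direct image. -/
theorem shortExact_map_push (h : ∀ U : C, Subsingleton (CohSite.HU S.X₁ 1 U)) {D : Type u}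
    [SmallCategory D] (K : GrothendieckTopology D) (u : D ⥤ C) [u.IsContinuous K J] :
    (S.map (CohSite.push J K u)).ShortExact := by
  have := hS.mono_f
  have : PreservesFiniteLimits (CohSite.push J K u) :=
    have : (CohSite.push J K u).IsRightAdjoint :=
      ((u.sheafAdjunctionContinuous AddCommGrpCat.{u} K J)).isRightAdjoint
    inferInstance
  have : Mono ((CohSite.push J K u).map S.f) := inferInstance
  refine { exact := hS.exact.map_of_mono_of_preservesKernel _ inferInstance inferInstance
           mono_f := this
           epi_g := ?_ }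
  have hloc : Sheaf.IsLocallySurjective ((CohSite.push J K u).map S.g) :=
    Presheaf.isLocallySurjective_of_surjective K _ fun V =>
      have := h (u.obj V.unop)
      surjective_sections hS (u.obj V.unop)
  exact (Sheaf.isLocallySurjective_iff_epi' _ _).1 hloc

end Groth.Agent.SiteCoh.Acyclic
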