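import Mathlib.CategoryTheory.Abelian.GrothendieckCategory.EnoughInjectives

/-!
# Baer's criterion in a Grothendieck abelian category, for a detecting family
-/

set_option autoImplicit false

universe w v u

open CategoryTheory CategoryTheory.Limits

namespace Groth.Agent.SiteCoh.Baer

variable {C : Type u} [Category.{v} C] [Abelian C] [IsGrothendieckAbelian.{w} C]

/-- A partial extension of a morphism to a subobject of `B`. -/
structure Part (B I : C) where
  L : Subobject B
  ψ : (L : C) ⟶ I

variable {B I : C}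

/-- A small model of a set, as an index type. -/
def SJ {α : Type*} (c : Set α) [Small.{w} c] : Type w := Shrink.{w} c

instance : Preorder (Part B I) where
  le a b := ∃ h : a.L ≤ b.L, Subobject.ofLE a.L b.L h ≫ b.ψ = a.ψ
  le_refl a := ⟨le_refl _, by simp⟩
  le_trans a b c := by
    rintro ⟨h, e⟩ ⟨h', e'⟩
    refine ⟨h.trans h', ?_⟩
    rw [← Subobject.ofLE_comp_ofLE _ _ _ h h', Category.assoc, e', e]

omit [Abelian C] [IsGrothendieckAbelian.{w} C] in
theorem eq_of_le_of_L_eq {a b : Part B I} (h : a ≤ b) (hL : a.L = b.L) : a = b := by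
  obtain ⟨L, ψ⟩ := a
  obtain ⟨L', ψ'⟩ := b
  obtain ⟨hle, e⟩ := h
  dsimp at hL
  subst hL
  simp at e
  subst e
  rfl

/-- Chains of partial extensions are bounded above. -/
theorem exists_upper_bound (c : Set (Part B I)) (hchain : IsChain (· ≤ ·) c) (y : Part B I) (hy : y ∈ c) :
    ∃ ub, ∀ z ∈ c, z ≤ ub := by
  have : Small.{w} c := small_of_injective (f := fun z : c => z.1.L) (fun z z' h => by
    rcases hchain.total z.2 z'.2 with hle | hle
    · exact Subtype.ext (eq_of_le_of_L_eq hle h)
    · exact Subtype.ext (eq_of_le_of_L_eq hle h.symm).symm)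
  let J : Type w := SJ.{w} c
  let _ : Preorder (SJ.{w} c) :=
    Preorder.lift (fun j : Shrink.{w} c => ((equivShrink c).symm j : Part B I))
  have : Nonempty J := ⟨equivShrink c ⟨y, hy⟩⟩
  have : IsDirectedOrder J := ⟨fun a b => by
    rcases hchain.total ((equivShrink c).symm a).2 ((equivShrink c).symm b).2 with h | h
    · exact ⟨b, h, le_refl _⟩
    · exact ⟨a, le_refl _, h⟩⟩
  let el : J → Part B I := fun j => ((equivShrink c).symm j : Part B I)
  let F : J ⥤ MonoOver B :=
    { obj := fun j => MonoOver.mk (el j).L.arrow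
      map := fun {j j'} h => MonoOver.homMk (Subobject.ofLE _ _ (leOfHom (X := J) h).1)
        (Subobject.ofLE_arrow _)
      map_id := fun _ => Subsingleton.elim _ _
      map_comp := fun _ _ => Subsingleton.elim _ _ }
  have : IsFiltered J := isFiltered_of_directed_le_nonempty _
  have : HasColimitsOfShape J C := HasFilteredColimitsOfSize.HasColimitsOfShape _
  let K := F ⋙ MonoOver.forget _ ⋙ Over.forget _
  let f : colimit K ⟶ B := colimit.desc K (Cocone.mk B
    { app := fun j => (F.obj j).obj.hom
      naturality := fun {j j'} g => (MonoOver.w (F.map g)).trans (Category.comp_id _).symm })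
  have hf : ∀ j, colimit.ι K j ≫ f = (el j).L.arrow := fun j => colimit.ι_desc _ j
  have : Mono f := IsGrothendieckAbelian.mono_of_isColimit_monoOver F (colimit.isColimit K) f hf
  let g : colimit K ⟶ I := colimit.desc K (Cocone.mk I
    { app := fun j => (el j).ψ
      naturality := fun {j j'} h => (leOfHom (X := J) h).2.trans (Category.comp_id _).symm })
  have hg : ∀ j, colimit.ι K j ≫ g = (el j).ψ := fun j => colimit.ι_desc _ j
  have key : ∀ j, el j ≤ ⟨Subobject.mk f, (Subobject.underlyingIso f).hom ≫ g⟩ := fun j => by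
    refine ⟨Subobject.le_mk_of_comm (colimit.ι K j) (hf j), ?_⟩
    dsimp only
    refine Eq.trans ?_ (hg j)
    rw [← Category.assoc]
    congr 1
    rw [← cancel_mono f, Category.assoc, Subobject.underlyingIso_hom_comp_eq_mk,
      Subobject.ofLE_arrow]
    exact (hf j).symm
  refine ⟨⟨Subobject.mk f, (Subobject.underlyingIso f).hom ≫ g⟩, fun z hz => ?_⟩
  simpa only [el, Equiv.symm_apply_apply] using key (equivShrink c ⟨z, hz⟩)

/-- **Baer's criterion** for a detecting family `G`. -/
theorem injective_of_family {ι : Type*} (G : ι → C)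
    (hdet : ∀ {X Y : C} (p : X ⟶ Y) [Mono p], ¬ IsIso p →
      ∃ (i : ι) (f : G i ⟶ Y), ∀ a : G i ⟶ X, a ≫ p ≠ f)
    (I : C) (h : ∀ (i : ι) (S : C) (s : S ⟶ G i) [Mono s] (φ : S ⟶ I), ∃ ψ : G i ⟶ I, s ≫ ψ = φ) :
    Injective I := by
  refine ⟨fun {A B} φ m _ => ?_⟩
  let x₀ : Part B I := ⟨Subobject.mk m, (Subobject.underlyingIso m).hom ≫ φ⟩
  obtain ⟨M, hx₀, hM⟩ := zorn_le_nonempty_Ici₀ x₀
    (fun c _ hc y hy => exists_upper_bound c hc y hy) x₀ (le_refl _)
  by_cases hiso : IsIso M.L.arrow
  · obtain ⟨hle, e⟩ := hx₀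
    refine ⟨inv M.L.arrow ≫ M.ψ, ?_⟩
    have hm : m ≫ inv M.L.arrow = (Subobject.underlyingIso m).inv ≫ Subobject.ofLE _ _ hle := by
      rw [IsIso.comp_inv_eq]
      exact (by simp [x₀])
    rw [← Category.assoc, hm, Category.assoc, e]
    simp [x₀]
  · exfalso
    obtain ⟨i, f, hf⟩ := hdet M.L.arrow hiso
    obtain ⟨χ, hχ⟩ := h i _ (pullback.snd M.L.arrow f) (pullback.fst M.L.arrow f ≫ M.ψ)
    let a := pullback.fst M.L.arrow f
    let b := pullback.snd M.L.arrow f
    let p' : pushout a b ⟶ B := pushout.desc M.L.arrow f pullback.condition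
    have : Mono p' := (IsPushout.of_hasPushout a b).mono_of_isPullback_of_mono
      (IsPullback.of_hasPullback M.L.arrow f) _ (pushout.inl_desc _ _ _) (pushout.inr_desc _ _ _)
    let g : pushout a b ⟶ I := pushout.desc M.ψ χ hχ.symm
    let M' : Part B I := ⟨Subobject.mk p', (Subobject.underlyingIso p').hom ≫ g⟩
    have hle : M ≤ M' := by
      refine ⟨Subobject.le_mk_of_comm (pushout.inl a b) (pushout.inl_desc _ _ _), ?_⟩
      show _ ≫ (Subobject.underlyingIso p').hom ≫ g = M.ψ
      rw [← Category.assoc, show Subobject.ofLE M.L M'.L _ ≫ (Subobject.underlyingIso p').hom =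
        pushout.inl a b from ?_]
      · exact pushout.inl_desc _ _ _
      · rw [← cancel_mono p', Category.assoc, Subobject.underlyingIso_hom_comp_eq_mk,
          Subobject.ofLE_arrow]
        exact (pushout.inl_desc _ _ _).symm
    obtain ⟨hle', -⟩ := hM hle
    refine hf (pushout.inr a b ≫ (Subobject.underlyingIso p').inv ≫ Subobject.ofLE _ _ hle') ?_
    rw [Category.assoc, Category.assoc, Subobject.ofLE_arrow,
      Subobject.underlyingIso_arrow]
    exact pushout.inr_desc _ _ _

end Groth.Agent.SiteCoh.Baer
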