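import Groth.Agent.SiteCoh.Free
import Groth.Agent.SiteCoh.DimShift
import Groth.Agent.SiteCoh.HomRes
import Mathlib.CategoryTheory.Sites.Pullback

/-!
# Cohomology of a direct image when the direct image is exact and kills the cohomology of injectives
-/

set_option autoImplicit false

universe u

open CategoryTheory CategoryTheory.Limits Opposite CategoryTheory.Abelian

namespace Groth.Agent.SiteCoh.PushHU

variable {C D : Type u} [SmallCategory C] [SmallCategory D] {J : GrothendieckTopology C}
  (K : GrothendieckTopology D) (u : D ⥤ C) [u.IsContinuous K J]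

/-- `Hom(h_V, u_* F) = Hom(h_{uV}, F)`. -/
noncomputable def homEquiv (F : Sheaf J AddCommGrpCat.{u}) (V : D) :
    (CohCx.freeSheaf J (u.obj V) ⟶ F) ≃+ (CohCx.freeSheaf K V ⟶ (CohSite.push J K u).obj F) :=
  (Free.sectionEquiv J (u.obj V) F).trans
    (Free.sectionEquiv K V ((CohSite.push J K u).obj F)).symm

theorem homEquiv_comp {F G : Sheaf J AddCommGrpCat.{u}} (φ : F ⟶ G) (V : D)
    (a : CohCx.freeSheaf J (u.obj V) ⟶ F) :
    homEquiv K u G V (a ≫ φ) = homEquiv K u F V a ≫ (CohSite.push J K u).map φ := by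
  refine (Free.sectionEquiv K V _).injective ?_
  refine ((Free.sectionEquiv K V _).apply_symm_apply _).trans ?_
  refine (Free.sectionEquiv_comp J a φ).trans ?_
  refine Eq.trans ?_ (Free.sectionEquiv_comp K (homEquiv K u F V a) ((CohSite.push J K u).map φ)).symm
  exact congrArg (φ.hom.app (op (u.obj V)))
    ((Free.sectionEquiv K V ((CohSite.push J K u).obj F)).apply_symm_apply _).symm

/-- An exact sequence stays exact if epimorphisms are preserved. -/
theorem shortExact_map [(CohSite.push J K u).PreservesEpimorphisms]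
    {S : ShortComplex (Sheaf J AddCommGrpCat.{u})} (hS : S.ShortExact) :
    (S.map (CohSite.push J K u)).ShortExact := by
  have := hS.mono_f
  have := hS.epi_g
  have : (CohSite.push J K u).IsRightAdjoint :=
    (u.sheafAdjunctionContinuous AddCommGrpCat.{u} K J).isRightAdjoint
  exact { exact := hS.exact.map_of_mono_of_preservesKernel _ inferInstance inferInstance
          mono_f := inferInstanceAs (Mono ((CohSite.push J K u).map S.f))
          epi_g := inferInstanceAs (Epi ((CohSite.push J K u).map S.g)) }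

/-- The criterion for `H^n(V, u_* F) = H^n(u V, F)`. -/
theorem nonempty_HU_push_equiv [(CohSite.push J K u).PreservesEpimorphisms] (V : D)
    (hI : ∀ (I : Sheaf J AddCommGrpCat.{u}), Injective I → ∀ q : ℕ,
      Subsingleton (CohSite.HU ((CohSite.push J K u).obj I) (q + 1) V)) (n : ℕ) :
    ∀ F : Sheaf J AddCommGrpCat.{u},
      Nonempty (CohSite.HU ((CohSite.push J K u).obj F) n V ≃+ CohSite.HU F n (u.obj V)) := by
  induction n with
  | zero =>
    exact fun F => ⟨(Free.HU0Equiv ((CohSite.push J K u).obj F) V).trans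
      (Free.HU0Equiv F (u.obj V)).symm⟩
  | succ n ih =>
    intro F
    let S := DimShift.inj F
    have hS : S.ShortExact := DimShift.inj_shortExact F
    have hS' := shortExact_map K u hS
    have E₁ : Function.Surjective (hS.extClass.postcomp (CohCx.freeSheaf J (u.obj V))
        (rfl : n + 1 = n + 1)) := fun y => by
      obtain ⟨x, hx⟩ := Ext.covariant_sequence_exact₁ _ hS y (Ext.eq_zero_of_injective _) rfl
      exact ⟨x, hx⟩
    have E₂ : Function.Surjective (hS'.extClass.postcomp (CohCx.freeSheaf K V)
        (rfl : n + 1 = n + 1)) := fun y => by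
      obtain ⟨x, hx⟩ := Ext.covariant_sequence_exact₁ _ hS' y
        ((hI S.X₂ inferInstance n).elim _ _) rfl
      exact ⟨x, hx⟩
    rcases n with _ | n
    · let a : (CohCx.freeSheaf J (u.obj V) ⟶ S.X₃) →+ CohSite.HU F 1 (u.obj V) :=
        (hS.extClass.postcomp (CohCx.freeSheaf J (u.obj V)) (rfl : 0 + 1 = 1)).comp
          Ext.addEquiv₀.symm.toAddMonoidHom
      let b : (CohCx.freeSheaf J (u.obj V) ⟶ S.X₃) →+
          CohSite.HU ((CohSite.push J K u).obj F) 1 V :=
        (hS'.extClass.postcomp (CohCx.freeSheaf K V) (rfl : 0 + 1 = 1)).comp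
          (Ext.addEquiv₀.symm.toAddMonoidHom.comp (homEquiv K u S.X₃ V).toAddMonoidHom)
      refine HomRes.nonempty_addEquiv_of_same_ker b a
        (E₂.comp (Ext.addEquiv₀.symm.surjective.comp (homEquiv K u S.X₃ V).surjective))
        (E₁.comp Ext.addEquiv₀.symm.surjective) fun g => ?_
      change (Ext.mk₀ (homEquiv K u S.X₃ V g)).comp hS'.extClass (zero_add 1) = 0 ↔
        (Ext.mk₀ g).comp hS.extClass (zero_add 1) = 0
      constructor
      · intro hg
        obtain ⟨x, hx⟩ := Ext.covariant_sequence_exact₃ _ hS' _ rfl hg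
        obtain ⟨f', rfl⟩ := (Ext.mk₀_bijective _ _).2 x
        rw [Ext.mk₀_comp_mk₀] at hx
        obtain ⟨f, rfl⟩ := (homEquiv K u S.X₂ V).surjective f'
        have h := (Ext.mk₀_bijective _ _).1 hx
        change homEquiv K u S.X₂ V f ≫ (CohSite.push J K u).map S.g = _ at h
        rw [← homEquiv_comp] at h
        rw [← (homEquiv K u S.X₃ V).injective h]
        exact DimShift.delta_comp_eq_zero hS f _
      · intro hg
        obtain ⟨x, hx⟩ := Ext.covariant_sequence_exact₃ _ hS _ rfl hg
        obtain ⟨f, rfl⟩ := (Ext.mk₀_bijective _ _).2 x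
        rw [Ext.mk₀_comp_mk₀] at hx
        rw [← (Ext.mk₀_bijective _ _).1 hx, homEquiv_comp]
        exact DimShift.delta_comp_eq_zero hS' _ _
    · obtain ⟨e⟩ := ih S.X₃
      have i₁ : Function.Injective (hS.extClass.postcomp (CohCx.freeSheaf J (u.obj V))
          (rfl : n + 1 + 1 = n + 1 + 1)) := by
        rw [injective_iff_map_eq_zero]
        intro y hy
        obtain ⟨x, rfl⟩ := Ext.covariant_sequence_exact₃ _ hS y rfl hy
        rw [Ext.eq_zero_of_injective x, Ext.zero_comp]
      have i₂ : Function.Injective (hS'.extClass.postcomp (CohCx.freeSheaf K V)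
          (rfl : n + 1 + 1 = n + 1 + 1)) := by
        rw [injective_iff_map_eq_zero]
        intro y hy
        obtain ⟨x, rfl⟩ := Ext.covariant_sequence_exact₃ _ hS' y rfl hy
        erw [(hI S.X₂ inferInstance n).elim x 0]
        exact Ext.zero_comp ..
      exact ⟨((AddEquiv.ofBijective _ ⟨i₂, E₂⟩).symm.trans e).trans
        (AddEquiv.ofBijective _ ⟨i₁, E₁⟩)⟩

end Groth.Agent.SiteCoh.PushHU
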