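import Groth.Agent.SiteCoh.Totally
import Groth.Agent.SiteCoh.PushHU
import Groth.Agent.SiteCoh.Acyclic
import Mathlib.CategoryTheory.Sites.Over

/-!
# Restriction to a slice site
-/

set_option autoImplicit false

universe u

open CategoryTheory CategoryTheory.Limits Opposite Simplicial AlgebraicTopology
open CategoryTheory.Abelian

namespace Groth.Agent.SiteCoh.OverSite

variable {C : Type u} [SmallCategory C] {U : C}

theorem sigma_ext {P : (Over U)ᵒᵖ ⥤ Type u} {V : C} {φ φ' : V ⟶ U} {x : P.obj (op (Over.mk φ))}
    {x' : P.obj (op (Over.mk φ'))} (h : φ = φ')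
    (hx : x' = P.map (Over.homMk (𝟙 V) (by simp [h]) : Over.mk φ' ⟶ Over.mk φ).op x) :
    (⟨φ, x⟩ : Σ ψ : V ⟶ U, P.obj (op (Over.mk ψ))) = ⟨φ', x'⟩ := by
  subst h
  have : (Over.homMk (𝟙 V) (by simp) : Over.mk φ ⟶ Over.mk φ) = 𝟙 _ :=
    Over.OverMorphism.ext rfl
  rw [this, op_id, Functor.map_id_apply] at hx
  rw [hx]

theorem map_congr {P : (Over U)ᵒᵖ ⥤ Type u} {W W' : Over U} {f g : W' ⟶ W} (h : f.left = g.left)
    (x : P.obj (op W)) : P.map f.op x = P.map g.op x := by
  rw [Over.OverMorphism.ext h]

/-- Extension by the empty set, on presheaves. -/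
def extend : ((Over U)ᵒᵖ ⥤ Type u) ⥤ (Cᵒᵖ ⥤ Type u) where
  obj P :=
    { obj := fun V => Σ φ : V.unop ⟶ U, P.obj (op (Over.mk φ))
      map := fun g => ↾fun p =>
        ⟨g.unop ≫ p.1, P.map (Over.homMk g.unop rfl : Over.mk (g.unop ≫ p.1) ⟶ Over.mk p.1).op p.2⟩
      map_id := fun V => by
        refine ConcreteCategory.hom_ext _ _ fun ⟨φ, x⟩ => ?_
        refine sigma_ext (Category.id_comp φ) ?_
        change x = _
        rw [← Functor.map_comp_apply, ← op_comp]
        refine ((map_congr ?_ x).trans (by rw [op_id, Functor.map_id_apply])).symm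
        change _ = 𝟙 _
        simp
      map_comp := fun g g' => by
        refine ConcreteCategory.hom_ext _ _ fun ⟨φ, x⟩ => ?_
        refine sigma_ext (Category.assoc _ _ _) ?_
        change P.map _ (P.map _ x) = P.map _ (P.map _ x)
        rw [← Functor.map_comp_apply, ← Functor.map_comp_apply, ← op_comp, ← op_comp]
        refine map_congr ?_ x
        simp }
  map {P Q} τ :=
    { app := fun V => ↾fun p => ⟨p.1, τ.app _ p.2⟩
      naturality := fun V W g => by
        refine ConcreteCategory.hom_ext _ _ fun ⟨φ, x⟩ => ?_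
        refine Sigma.ext rfl (heq_of_eq ?_)
        change τ.app _ (P.map _ x) = Q.map _ (τ.app _ x)
        exact NatTrans.naturality_apply τ _ x }
  map_id P := by
    refine NatTrans.ext (funext fun V => ConcreteCategory.hom_ext _ _ fun ⟨φ, x⟩ => ?_)
    rfl
  map_comp f g := by
    refine NatTrans.ext (funext fun V => ConcreteCategory.hom_ext _ _ fun ⟨φ, x⟩ => ?_)
    rfl

theorem extend_obj_map (P : (Over U)ᵒᵖ ⥤ Type u) {V W : Cᵒᵖ} (g : V ⟶ W)
    (p : Σ φ : V.unop ⟶ U, P.obj (op (Over.mk φ))) :
    (extend.{u}.obj P).map g p = (⟨g.unop ≫ p.1,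
      P.map (Over.homMk g.unop rfl : Over.mk (g.unop ≫ p.1) ⟶ Over.mk p.1).op p.2⟩ :
        Σ φ : W.unop ⟶ U, P.obj (op (Over.mk φ))) := rfl

/-- Extension is left adjoint to restriction. -/
noncomputable def extendAdj : extend.{u} (U := U) ⊣ (Functor.whiskeringLeft _ _ _).obj (Over.forget U).op :=
  Adjunction.mkOfHomEquiv
    { homEquiv := fun P G =>
        { toFun := fun ψ =>
            { app := fun W => ↾fun x => ψ.app (op W.unop.left)
                (⟨W.unop.hom, P.map (Over.homMk (𝟙 _) (by simp) : Over.mk W.unop.hom ⟶ W.unop).op x⟩ :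
                  Σ φ : W.unop.left ⟶ U, P.obj (op (Over.mk φ)))
              naturality := fun W W' g => by
                ext x
                refine Eq.trans ?_ (NatTrans.naturality_apply ψ g.unop.left.op _)
                refine congrArg (ψ.app (op W'.unop.left)) (sigma_ext (Over.w g.unop).symm ?_)
                change P.map _ (P.map _ x) = P.map _ (P.map _ (P.map g x))
                rw [← Functor.map_comp_apply, ← Functor.map_comp_apply, ← Functor.map_comp_apply]
                exact map_congr (f := _ ≫ _) (g := _ ≫ _) (by simp) x }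
          invFun := fun t =>
            { app := fun V => ↾fun p => t.app (op (Over.mk p.1)) p.2
              naturality := fun V W g => by
                ext ⟨φ, x⟩
                exact NatTrans.naturality_apply t _ x }
          left_inv := fun ψ => by
            ext V ⟨φ, x⟩
            refine congrArg (ψ.app V) (sigma_ext rfl ?_)
            change x = P.map _ (P.map _ x)
            rw [← Functor.map_comp_apply, ← op_comp]
            refine ((map_congr ?_ x).trans (by rw [op_id, Functor.map_id_apply])).symm
            change _ = 𝟙 _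
            simp
          right_inv := fun t => by
            ext W x
            change t.app _ (P.map _ x) = _
            rw [NatTrans.naturality_apply]
            change G.map (𝟙 _).op _ = _
            rw [op_id, Functor.map_id_apply]
            rfl }
      homEquiv_naturality_left_symm := fun f g => by ext V ⟨φ, x⟩; rfl
      homEquiv_naturality_right := fun f g => by ext W x; rfl }

theorem isCechLike_extend (X : SimplicialObject.Augmented ((Over U)ᵒᵖ ⥤ Type u))
    (h : ∀ W, CechLike.IsCechLike (CechLike.at' X W)) (V : Cᵒᵖ) :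
    CechLike.IsCechLike
      (CechLike.at' (((SimplicialObject.Augmented.whiskering _ _).obj extend).obj X) V) := by
  refine ⟨fun n p p' hp => ?_, fun n w hw => ?_⟩
  · obtain ⟨φ, x⟩ := p
    obtain ⟨φ', x'⟩ := p'
    obtain rfl : φ = φ' := congrArg Sigma.fst (hp 0)
    refine Sigma.ext rfl (heq_of_eq ((h (op (Over.mk φ))).inj n x x' fun j => ?_))
    exact eq_of_heq (Sigma.mk.inj_iff.1 (hp j)).2
  · choose φ x hx using fun j => (⟨(w j).1, (w j).2, rfl⟩ : ∃ φ x, w j = ⟨φ, x⟩)
    obtain ⟨φ₀, rfl⟩ : ∃ φ₀, φ = fun _ => φ₀ := ⟨φ 0, funext fun j => by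
      have := congrArg Sigma.fst (hw j)
      rw [hx j, hx 0] at this
      exact this⟩
    obtain ⟨y, hy⟩ := (h (op (Over.mk φ₀))).surj n x fun j => by
      have := hw j
      rw [hx j, hx 0] at this
      exact eq_of_heq (Sigma.mk.inj_iff.1 this).2
    refine ⟨⟨φ₀, y⟩, fun j => ?_⟩
    rw [hx j]
    exact Sigma.ext rfl (heq_of_eq (hy j))

variable (J : GrothendieckTopology C)

theorem isLocallySurjective_extend {P Q : (Over U)ᵒᵖ ⥤ Type u} (f : P ⟶ Q)
    [Presheaf.IsLocallySurjective (J.over U) f] :
    Presheaf.IsLocallySurjective J (extend.map f) where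
  imageSieve_mem {V} p := by
    obtain ⟨φ, b⟩ := p
    have hT := Presheaf.imageSieve_mem (J.over U) f b
    rw [GrothendieckTopology.mem_over_iff] at hT
    refine J.superset_covering (fun W g hg => ?_) hT
    rw [Sieve.overEquiv_iff] at hg
    obtain ⟨a, ha⟩ := hg
    exact ⟨(⟨g ≫ φ, a⟩ : Σ ψ : W ⟶ U, P.obj (op (Over.mk ψ))), Sigma.ext rfl (heq_of_eq ha)⟩

instance : (CohSite.push J (J.over U) (Over.forget U)).PreservesEpimorphisms where
  preserves {F G} g _ := by
    have hg : Sheaf.IsLocallySurjective g := (Sheaf.isLocallySurjective_iff_epi' _ g).2 inferInstance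
    have h : Sheaf.IsLocallySurjective ((CohSite.push J (J.over U) (Over.forget U)).map g) :=
      ⟨fun {W} s => by
        rw [GrothendieckTopology.mem_over_iff]
        refine J.superset_covering (fun V h hh => ?_)
          (Presheaf.imageSieve_mem J g.hom (U := op W.left) s)
        rw [Sieve.overEquiv_iff]
        exact hh⟩
    exact (Sheaf.isLocallySurjective_iff_epi' _ _).1 h

/-- Comparison of free abelian sheaves under extension. -/
noncomputable def freeUnit (P : (Over U)ᵒᵖ ⥤ Type u) :
    (Free.freePre (J.over U)).obj P ⟶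
      (CohSite.push J (J.over U) (Over.forget U)).obj ((Free.freePre J).obj (extend.{u}.obj P)) :=
  ((Free.adj (J.over U)).homEquiv P _).symm
    (extendAdj.unit.app P ≫
      Functor.whiskerLeft (Over.forget U).op ((Free.adj J).unit.app (extend.{u}.obj P)))

theorem freeUnit_naturality {P Q : (Over U)ᵒᵖ ⥤ Type u} (g : P ⟶ Q) :
    (Free.freePre (J.over U)).map g ≫ freeUnit J Q = freeUnit J P ≫
      (CohSite.push J (J.over U) (Over.forget U)).map ((Free.freePre J).map (extend.map g)) := by
  refine ((Free.adj (J.over U)).homEquiv _ _).injective ?_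
  rw [(Free.adj (J.over U)).homEquiv_naturality_left, (Free.adj (J.over U)).homEquiv_naturality_right,
    freeUnit, freeUnit, Equiv.apply_symm_apply, Equiv.apply_symm_apply]
  have h1 := extendAdj.unit.naturality g
  have h2 := (Free.adj J).unit.naturality (extend.map g)
  dsimp at h1 h2 ⊢
  rw [← Category.assoc, h1]
  refine (Category.assoc _ _ _).trans (Eq.trans ?_ (Category.assoc _ _ _).symm)
  exact congrArg (extendAdj.unit.app P ≫ ·) (congrArg (Functor.whiskerLeft (Over.forget U).op) h2)

/-- `Hom(P, F|_U) = Hom(extend P, F)`. -/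
noncomputable def homExtend (F : Sheaf J AddCommGrpCat.{u}) (P : (Over U)ᵒᵖ ⥤ Type u) :
    ((Free.freePre J).obj (extend.{u}.obj P) ⟶ F) →+
      ((Free.freePre (J.over U)).obj P ⟶ (CohSite.push J (J.over U) (Over.forget U)).obj F) :=
  (Preadditive.leftComp _ (freeUnit J P)).comp
    (CohSite.push J (J.over U) (Over.forget U)).mapAddHom

theorem homExtend_bijective (F : Sheaf J AddCommGrpCat.{u}) (P : (Over U)ᵒᵖ ⥤ Type u) :
    Function.Bijective (homExtend J F P) := by
  let e : ((Free.freePre J).obj (extend.{u}.obj P) ⟶ F) ≃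
      ((Free.freePre (J.over U)).obj P ⟶ (CohSite.push J (J.over U) (Over.forget U)).obj F) :=
    (((Free.adj J).homEquiv (extend.{u}.obj P) F).trans
      (extendAdj.homEquiv P (F.obj ⋙ forget AddCommGrpCat.{u}))).trans
      ((Free.adj (J.over U)).homEquiv P
        ((CohSite.push J (J.over U) (Over.forget U)).obj F)).symm
  have he : ⇑(homExtend J F P) = e := by
    funext a
    refine ((Free.adj (J.over U)).homEquiv _ _).injective ?_
    simp only [e, Equiv.trans_apply]
    change (Free.adj (J.over U)).homEquiv P _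
      (freeUnit J P ≫ (CohSite.push J (J.over U) (Over.forget U)).map a) = _
    rw [(Free.adj (J.over U)).homEquiv_naturality_right, freeUnit, Equiv.apply_symm_apply,
      extendAdj.homEquiv_unit, (Free.adj J).homEquiv_unit]
    erw [Equiv.apply_symm_apply ((Free.adj (J.over U)).homEquiv P
      ((CohSite.push J (J.over U) (Over.forget U)).obj F))]
    ext W x
    rfl
  rw [he]
  exact e.bijective

/-- `H⁰(-, F|_U) = H⁰(extend -, F)`. -/
noncomputable def homExtendIso (F : Sheaf J AddCommGrpCat.{u}) :
    (extend.{u} (U := U) ⋙ Free.freePre J).op ⋙ preadditiveYoneda.obj F ≅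
      (Free.freePre (J.over U)).op ⋙
        preadditiveYoneda.obj ((CohSite.push J (J.over U) (Over.forget U)).obj F) :=
  NatIso.ofComponents
    (fun P => (AddEquiv.ofBijective _ (homExtend_bijective J F P.unop)).toAddCommGrpIso)
    (fun {P Q} g => by
      ext (a : (Free.freePre J).obj (extend.{u}.obj P.unop) ⟶ F)
      change freeUnit J Q.unop ≫ (CohSite.push J (J.over U) (Over.forget U)).map
          ((Free.freePre J).map (extend.map g.unop) ≫ a) =
        (Free.freePre (J.over U)).map g.unop ≫ freeUnit J P.unop ≫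
          (CohSite.push J (J.over U) (Over.forget U)).map a
      rw [Functor.map_comp, ← Category.assoc, ← freeUnit_naturality, Category.assoc])

/-- Restriction to a slice site preserves total acyclicity. -/
theorem isTotallyAcyclic_over (F : Sheaf J AddCommGrpCat.{u}) (hF : CohCx.IsTotallyAcyclic F) :
    CohCx.IsTotallyAcyclic ((CohSite.push J (J.over U) (Over.forget U)).obj F) := by
  refine Totally.isTotallyAcyclic_of_nerve _ fun L' L f _ p => ?_
  let Z := ((SimplicialObject.Augmented.whiskering _ _).obj extend).obj (Nerve.nerve f)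
  let X := ((SimplicialObject.Augmented.whiskering _ _).obj (Free.freePre J)).obj Z
  have : Presheaf.IsLocallySurjective (J.over U) ((Nerve.nerve f).hom.app (op ⦋0⦌)) :=
    Nerve.isLocallySurjective_nerve_hom f
  have hs : Presheaf.IsLocallySurjective J (Z.hom.app (op ⦋0⦌)) := by
    have h := isLocallySurjective_extend J ((Nerve.nerve f).hom.app (op ⦋0⦌))
    have hz : Z.hom.app (op ⦋0⦌) = extend.map ((Nerve.nerve f).hom.app (op ⦋0⦌)) := by
      simp [Z, SimplicialObject.Augmented.whiskering, SimplicialObject.Augmented.whiskeringObj]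
    rw [hz]
    exact h
  have := CechLike.quasiIso_free_ε J Z
    (isCechLike_extend _ (Nerve.isCechLike_nerve f)) hs
  have hF' : ∀ (P : Cᵒᵖ ⥤ Type u) (k : ℕ),
      Subsingleton (Ext ((Free.freePre J).obj P) F (k + 1)) := fun P k => by
    have := Free.isIso_freePre_map_of_W J (toSheafify J P) (J.W_toSheafify _)
    have e := (((extFunctor (C := Sheaf J AddCommGrpCat.{u}) (k + 1)).flip.obj F).mapIso
      (asIso ((Free.freePre J).map (toSheafify J P))).op).addCommGroupIsoToAddEquiv
    exact @Equiv.subsingleton _ _ e.symm.toEquiv (hF ((presheafToSheaf J (Type u)).obj P) k)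
  obtain ⟨e⟩ := HomRes.nonempty_homology_addEquiv_ext (AlternatingFaceMapComplex.ε.app X) (p + 1) F
    (fun m k => hF' _ k)
  have := @Equiv.subsingleton _ _ e.toEquiv (hF' _ p)
  exact (@AddCommGrpCat.isZero_of_subsingleton _ this).of_iso
    ((HomologicalComplex.homologyFunctor _ _ (p + 1)).mapIso
      ((alternatingCofaceMapComplex _).mapIso
          (Functor.isoWhiskerLeft (Nerve.nerve f).left.rightOp (homExtendIso J F)).symm ≪≫
        Cech.cofaceIso X.left F))

/-- `H^n(U, F)` is the cohomology of the restriction at the terminal object. -/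
theorem nonempty_HU_over (F : Sheaf J AddCommGrpCat.{u}) (W : Over U) (n : ℕ) :
    Nonempty (CohSite.HU ((CohSite.push J (J.over U) (Over.forget U)).obj F) n W ≃+
      CohSite.HU F n W.left) :=
  PushHU.nonempty_HU_push_equiv (J.over U) (Over.forget U) W
    (fun I hI q => Acyclic.subsingleton_HU_of_totally _
      (isTotallyAcyclic_over J I (Totally.isTotallyAcyclic_of_injective I)) W q) n F

end Groth.Agent.SiteCoh.OverSite
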