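import Groth.Agent.SiteCoh.PushCech
import Groth.Agent.SiteCoh.PushHU
import Groth.Agent.S0861
import Mathlib.CategoryTheory.Sites.CoverLifting
import Mathlib.CategoryTheory.Sites.Abelian
import Mathlib.Algebra.Category.Grp.Limits

/-!
# Restriction along a continuous cocontinuous functor commuting with fibre products
-/

set_option autoImplicit false

universe u

open CategoryTheory CategoryTheory.Limits Opposite

namespace Groth.Agent.SiteCoh.PushAcyclic

variable {C D : Type u} [SmallCategory C] [SmallCategory D] [HasPullbacks C]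
  (J : GrothendieckTopology C) (K : GrothendieckTopology D) (u : C ⥤ D)
  [PreservesLimitsOfShape WalkingCospan u] [u.IsContinuous J K]

theorem subsingleton_HU (hu : CoverPreserving J K u) (I : Sheaf K AddCommGrpCat.{u}) [Injective I]
    (U : C) (p : ℕ) : Subsingleton (CohSite.HU ((CohSite.push K J u).obj I) (p + 1) U) := by
  refine Groth.Agent.S0861.result J Set.univ
    (fun V ι Y => Sieve.ofArrows (fun i => (Y i).left) (fun i => (Y i).hom) ∈ J V)
    (fun V ι Y hY => ⟨trivial, hY, fun _ _ => trivial⟩)
    (fun V _ T hT => ⟨T.arrows.category, fun f => f.obj, ?_, fun f => f.property⟩)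
    ((CohSite.push K J u).obj I)
    (fun V ι Y hY q => PushCech.isZero_cechH u Y J K hu hY I q) U trivial p
  refine J.superset_covering ?_ hT
  intro W f hf
  exact Sieve.ofArrows_mk _ _ (Presieve.categoryMk _ _ hf)

theorem preservesEpimorphisms_push [u.IsCocontinuous J K] :
    (CohSite.push K J u).PreservesEpimorphisms :=
  have : (u.sheafPushforwardContinuous AddCommGrpCat.{u} J K).IsLeftAdjoint :=
    (u.sheafAdjunctionCocontinuous AddCommGrpCat.{u} J K).isLeftAdjoint
  inferInstanceAs (u.sheafPushforwardContinuous AddCommGrpCat.{u} J K).PreservesEpimorphisms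

theorem nonempty_HU_equiv (hu : CoverPreserving J K u) [u.IsCocontinuous J K]
    (F : Sheaf K AddCommGrpCat.{u}) (U : C) (p : ℕ) :
    Nonempty (CohSite.HU ((CohSite.push K J u).obj F) p U ≃+ CohSite.HU F p (u.obj U)) := by
  have := preservesEpimorphisms_push J K u
  exact PushHU.nonempty_HU_push_equiv J u U (fun I hI q => subsingleton_HU J K u hu I U q) p F

end Groth.Agent.SiteCoh.PushAcyclic
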