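import Groth.Prelude.Def_CohCx
import Mathlib.CategoryTheory.Sites.MayerVietorisSquare
import Mathlib.Algebra.Homology.DerivedCategory.SingleTriangle

/-!
# Long exact sequence of morphisms out of a short exact sequence with a biproduct in the middle
-/

set_option autoImplicit false

universe w v u

open CategoryTheory CategoryTheory.Limits Pretriangulated

namespace Groth.Agent.SiteCoh.MVTriangle

variable {A : Type u} [Category.{v} A] [Abelian A] [HasDerivedCategory.{w} A]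

local notation "Q₀" => DerivedCategory.singleFunctor A 0

/-- The Mayer–Vietoris sequence. -/
theorem exists_seq {Z₁ Z₂ Z₃ Z₄ : A} (f₁₂ : Z₁ ⟶ Z₂) (f₁₃ : Z₁ ⟶ Z₃) (f₂₄ : Z₂ ⟶ Z₄) (f₃₄ : Z₃ ⟶ Z₄)
    (w₀ : biprod.lift f₁₂ (-f₁₃) ≫ biprod.desc f₂₄ f₃₄ = 0)
    (hS : (ShortComplex.mk _ _ w₀).ShortExact) (K : DerivedCategory A) :
    ∃ δ : ∀ n : ℤ, ((Q₀).obj Z₁ ⟶ K⟦n⟧) →+ ((Q₀).obj Z₄ ⟶ K⟦n + 1⟧),
      ∀ n : ℤ,
        (∀ (x₂ : (Q₀).obj Z₂ ⟶ K⟦n⟧) (x₃ : (Q₀).obj Z₃ ⟶ K⟦n⟧),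
          (Q₀).map f₁₂ ≫ x₂ + -((Q₀).map f₁₃ ≫ x₃) = 0 ↔
            ∃ x₄ : (Q₀).obj Z₄ ⟶ K⟦n⟧, (Q₀).map f₂₄ ≫ x₄ = x₂ ∧ (Q₀).map f₃₄ ≫ x₄ = x₃) ∧
        (∀ x₁, δ n x₁ = 0 ↔ ∃ (x₂ : (Q₀).obj Z₂ ⟶ K⟦n⟧) (x₃ : (Q₀).obj Z₃ ⟶ K⟦n⟧),
            (Q₀).map f₁₂ ≫ x₂ + -((Q₀).map f₁₃ ≫ x₃) = x₁) ∧
        (∀ x₄, ((Q₀).map f₂₄ ≫ x₄ = 0 ∧ (Q₀).map f₃₄ ≫ x₄ = 0) ↔ ∃ x₁, δ n x₁ = x₄) := by
  let T := hS.singleTriangle
  have hT : T ∈ distinguishedTriangles := hS.singleTriangle_distinguished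
  let σ := fun n : ℤ => ((shiftFunctorAdd' (DerivedCategory A) n 1 (n + 1) rfl).app K)
  let δ : ∀ n : ℤ, ((Q₀).obj Z₁ ⟶ K⟦n⟧) →+ ((Q₀).obj Z₄ ⟶ K⟦n + 1⟧) := fun n =>
    AddMonoidHom.mk' (fun x => T.mor₃ ≫ x⟦(1 : ℤ)⟧' ≫ (σ n).inv)
      (fun x y => by
        erw [Functor.map_add, Preadditive.add_comp, Preadditive.comp_add])
  have hm₁ : T.mor₁ = (Q₀).map (biprod.lift f₁₂ (-f₁₃)) := rfl
  have hm₂ : T.mor₂ = (Q₀).map (biprod.desc f₂₄ f₃₄) := rfl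
  refine ⟨δ, fun n => ?_⟩
  let pair := fun (x₂ : (Q₀).obj Z₂ ⟶ K⟦n⟧) (x₃ : (Q₀).obj Z₃ ⟶ K⟦n⟧) =>
    (Q₀).map biprod.fst ≫ x₂ + (Q₀).map biprod.snd ≫ x₃
  have h1 : ∀ x₂ x₃, T.mor₁ ≫ pair x₂ x₃ = (Q₀).map f₁₂ ≫ x₂ + -((Q₀).map f₁₃ ≫ x₃) := fun x₂ x₃ => by
    change (Q₀).map (biprod.lift f₁₂ (-f₁₃)) ≫ pair x₂ x₃ = _
    simp only [pair, Preadditive.comp_add, ← Functor.map_comp_assoc, biprod.lift_fst, biprod.lift_snd,
      Functor.map_neg, Preadditive.neg_comp]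
  have hext : ∀ {Y : DerivedCategory A} (g g' : (Q₀).obj (Z₂ ⊞ Z₃) ⟶ Y),
      (Q₀).map biprod.inl ≫ g = (Q₀).map biprod.inl ≫ g' →
      (Q₀).map biprod.inr ≫ g = (Q₀).map biprod.inr ≫ g' → g = g' := fun g g' a b => by
    rw [← Category.id_comp g, ← Category.id_comp g', ← CategoryTheory.Functor.map_id, ← biprod.total,
      Functor.map_add, Preadditive.add_comp, Preadditive.add_comp, Functor.map_comp, Functor.map_comp,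
      Category.assoc, Category.assoc, Category.assoc, Category.assoc, a, b]
  have hinl : ∀ x₂ x₃, (Q₀).map biprod.inl ≫ pair x₂ x₃ = x₂ := fun x₂ x₃ => by
    simp only [pair, Preadditive.comp_add, ← Functor.map_comp_assoc, biprod.inl_fst, biprod.inl_snd]
    simp
  have hinr : ∀ x₂ x₃, (Q₀).map biprod.inr ≫ pair x₂ x₃ = x₃ := fun x₂ x₃ => by
    simp only [pair, Preadditive.comp_add, ← Functor.map_comp_assoc, biprod.inr_fst, biprod.inr_snd]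
    simp
  have h2l : ∀ {Y : DerivedCategory A} (x₄ : (Q₀).obj Z₄ ⟶ Y),
      (Q₀).map biprod.inl ≫ T.mor₂ ≫ x₄ = (Q₀).map f₂₄ ≫ x₄ := fun x₄ => by
    change (Q₀).map biprod.inl ≫ (Q₀).map (biprod.desc f₂₄ f₃₄) ≫ x₄ = _
    rw [← Functor.map_comp_assoc, biprod.inl_desc]
  have h2r : ∀ {Y : DerivedCategory A} (x₄ : (Q₀).obj Z₄ ⟶ Y),
      (Q₀).map biprod.inr ≫ T.mor₂ ≫ x₄ = (Q₀).map f₃₄ ≫ x₄ := fun x₄ => by
    change (Q₀).map biprod.inr ≫ (Q₀).map (biprod.desc f₂₄ f₃₄) ≫ x₄ = _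
    rw [← Functor.map_comp_assoc, biprod.inr_desc]
  refine ⟨fun x₂ x₃ => ?_, fun x₁ => ?_, fun x₄ => ?_⟩
  · constructor
    · intro h
      obtain ⟨x₄, hx₄⟩ := Triangle.yoneda_exact₂ T hT (pair x₂ x₃) ((h1 x₂ x₃).trans h)
      exact ⟨x₄, (h2l x₄).symm.trans ((congrArg (_ ≫ ·) hx₄.symm).trans (hinl _ _)),
        (h2r x₄).symm.trans ((congrArg (_ ≫ ·) hx₄.symm).trans (hinr _ _))⟩
    · rintro ⟨x₄, rfl, rfl⟩
      have : pair ((Q₀).map f₂₄ ≫ x₄) ((Q₀).map f₃₄ ≫ x₄) = T.mor₂ ≫ x₄ :=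
        hext _ _ ((hinl _ _).trans (h2l x₄).symm) ((hinr _ _).trans (h2r x₄).symm)
      rw [← h1, this]
      exact (Category.assoc _ _ _).symm.trans ((congrArg (· ≫ x₄) (comp_distTriang_mor_zero₁₂ T hT)).trans zero_comp)
  · constructor
    · intro h
      have h' : T.mor₃ ≫ x₁⟦(1 : ℤ)⟧' = 0 := by
        rw [← cancel_mono (σ n).inv, Category.assoc, zero_comp]
        exact h
      obtain ⟨g, hg⟩ := Triangle.yoneda_exact₂ _ (rot_of_distTriang _ (rot_of_distTriang T hT)) (x₁⟦(1 : ℤ)⟧') h'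
      obtain ⟨g', hg'⟩ := (shiftFunctor (DerivedCategory A) (1 : ℤ)).map_surjective g
      have hx : x₁ = T.mor₁ ≫ (-g') := by
        apply (shiftFunctor (DerivedCategory A) (1 : ℤ)).map_injective
        refine hg.trans ?_
        erw [← hg', Preadditive.comp_neg, Functor.map_neg, Functor.map_comp]
        exact Preadditive.neg_comp _ _
      refine ⟨(Q₀).map biprod.inl ≫ (-g'), (Q₀).map biprod.inr ≫ (-g'), ?_⟩
      rw [← h1, hx]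
      exact congrArg (T.mor₁ ≫ ·) (hext _ _ (hinl _ _) (hinr _ _))
    · rintro ⟨x₂, x₃, rfl⟩
      rw [← h1]
      show T.mor₃ ≫ (T.mor₁ ≫ pair x₂ x₃)⟦(1 : ℤ)⟧' ≫ (σ n).inv = 0
      rw [Functor.map_comp, Category.assoc, ← Category.assoc T.mor₃, comp_distTriang_mor_zero₃₁ T hT, zero_comp]
  · constructor
    · rintro ⟨ha, hb⟩
      have h0 : T.mor₂ ≫ x₄ = 0 := hext _ _ ((h2l x₄).trans (ha.trans comp_zero.symm))
        ((h2r x₄).trans (hb.trans comp_zero.symm))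
      obtain ⟨g, hg⟩ := Triangle.yoneda_exact₃ T hT x₄ h0
      obtain ⟨x₁, hx₁⟩ := (shiftFunctor (DerivedCategory A) (1 : ℤ)).map_surjective (g ≫ (σ n).hom)
      refine ⟨x₁, ?_⟩
      show T.mor₃ ≫ x₁⟦(1 : ℤ)⟧' ≫ (σ n).inv = x₄
      rw [hx₁, Category.assoc, Iso.hom_inv_id, Category.comp_id, hg]
    · rintro ⟨x₁, rfl⟩
      have h0 : T.mor₂ ≫ T.mor₃ ≫ x₁⟦(1 : ℤ)⟧' ≫ (σ n).inv = 0 := by
        rw [← Category.assoc T.mor₂, comp_distTriang_mor_zero₂₃ T hT, zero_comp]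
      exact ⟨(h2l _).symm.trans ((congrArg (_ ≫ ·) h0).trans comp_zero),
        (h2r _).symm.trans ((congrArg (_ ≫ ·) h0).trans comp_zero)⟩

end Groth.Agent.SiteCoh.MVTriangle
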