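import Groth.Agent.SiteCoh.Psi

/-!
# Cohomology sheaves of a derived limit of a system with acyclic cohomology sheaves
-/

set_option autoImplicit false

universe u

open CategoryTheory CategoryTheory.Limits Opposite DerivedCategory

namespace Groth.Agent.SiteCoh.RlimHomology

theorem limOne_of_addEquiv {A A' : ℕ → Type u} [∀ n, AddCommGroup (A n)] [∀ n, AddCommGroup (A' n)]
    {t : ∀ n, A (n + 1) →+ A n} {t' : ∀ n, A' (n + 1) →+ A' n} (f : ∀ n, A n →+ A' n)
    (hf : ∀ n, Function.Bijective (f n)) (hc : ∀ n x, f n (t n x) = t' n (f (n + 1) x))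
    (h : CohCx.LimOneIsZero A' t') : CohCx.LimOneIsZero A t := fun b => by
  obtain ⟨a', ha'⟩ := h fun n => f n (b n)
  choose a ha using fun n => (hf n).2 (a' n)
  refine ⟨a, funext fun n => (hf n).1 ?_⟩
  show f n (a n - t n (a (n + 1))) = f n (b n)
  rw [map_sub, ha, hc, ha]
  exact congrFun ha' n

theorem limOne_of_subsingleton {A : ℕ → Type u} [∀ n, AddCommGroup (A n)] (t : ∀ n, A (n + 1) →+ A n)
    (h : ∀ n, Subsingleton (A n)) : CohCx.LimOneIsZero A t := fun b =>
  ⟨0, funext fun n => (h n).elim _ _⟩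

variable {C : Type u} [SmallCategory C] {J : GrothendieckTopology C}
  [HasDerivedCategory.{u} (Sheaf J AddCommGrpCat.{u})]
  (K : ℕ → DerivedCategory (Sheaf J AddCommGrpCat.{u})) (t : ∀ n, K (n + 1) ⟶ K n) [HasProduct K]
  (L : DerivedCategory (Sheaf J AddCommGrpCat.{u})) (a : ∀ n, L ⟶ K n)

theorem nonempty_iso (hL : CohCx.IsRlimVia K t L a) (B : Set C)
    (hB : ∀ U : C, ∃ (ι : Type u) (Y : ι → C) (f : ∀ i, Y i ⟶ U), Sieve.ofArrows Y f ∈ J U ∧ ∀ i, Y i ∈ B)
    (q : ℤ) (hΨ : ∀ (n : ℕ), ∀ U ∈ B, ∀ j : ℤ, (j = q ∨ j = q - 1) → Function.Bijective (Psi.Ψ (K n) j U))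
    (h2 : ∀ U ∈ B, CohCx.LimOneIsZero (fun n => (CohCx.HD (K n) (q - 1)).obj.obj (op U))
      (fun n => (((DerivedCategory.homologyFunctor _ (q - 1)).map (t n)).hom.app (op U)).hom)) :
    Nonempty (CohCx.HD L q ≅ limit (CohCx.opSequence (fun n => CohCx.HD (K n) q)
      (fun n => (DerivedCategory.homologyFunctor _ q).map (t n)))) := by
  let H := DerivedCategory.homologyFunctor (Sheaf J AddCommGrpCat.{u}) q
  let F := CohCx.opSequence (fun n => CohCx.HD (K n) q) (fun n => H.map (t n))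
  have hF : ∀ n, F.map (homOfLE (Nat.le_add_right n 1)).op = H.map (t n) := fun n =>
    Functor.ofOpSequence_map_homOfLE_succ _ n
  let c : Cone F := ⟨H.obj L, NatTrans.ofOpSequence (fun n => H.map (a n)) fun n => by
    exact ((Category.id_comp _).trans ((congrArg H.map (RlimSections.comp_t K t L a hL n).symm).trans
      (H.map_comp _ _))).trans (congrArg (H.map (a (n + 1)) ≫ ·) (hF n).symm)⟩
  let γ : CohCx.HD L q ⟶ limit F := limit.lift F c
  have hγ : ∀ n, γ ≫ limit.π F ⟨n⟩ = H.map (a n) := fun n => limit.lift_π c ⟨n⟩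
  have : IsIso γ := by
    refine TruncLim.isIso_of_bijective_on γ B hB fun U hU => ?_
    let Ev := sheafToPresheaf J AddCommGrpCat.{u} ⋙ (evaluation Cᵒᵖ AddCommGrpCat.{u}).obj (op U)
    have hcomp : ∀ n x, Ev.map (limit.π F ⟨n⟩) (Ev.map γ x) = Ev.map (H.map (a n)) x := fun n x => by
      rw [← ConcreteCategory.comp_apply, ← Functor.map_comp, hγ]; rfl
    constructor
    · refine (injective_iff_map_eq_zero _).2 fun e he => ?_
      have he' : ∀ n, Ev.map (H.map (a n)) e = 0 := fun n => by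
        rw [← hcomp n e]
        exact (congrArg (Ev.map (limit.π F ⟨n⟩)) he).trans (map_zero _)
      obtain ⟨T, hT, hTs⟩ := Psi.locally_surjective L q U e
      have hsep : ∀ {V : C} (S : Sieve V), S ∈ J V → Presieve.IsSeparatedFor
          ((CohCx.HD L q).obj ⋙ forget AddCommGrpCat.{u}) S.arrows := fun S hS =>
        (((isSheaf_iff_isSheaf_of_type J _).1
          ((sheafCompose J (forget AddCommGrpCat.{u})).obj (CohCx.HD L q)).property) _ hS).isSeparatedFor
      refine (hsep T hT).ext fun W g hg => ?_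
      obtain ⟨ι, Ys, f, hf, hY⟩ := hB W
      refine (hsep _ hf).ext fun W' g' hg' => ?_
      obtain ⟨W₂, k, g₀, hg₀, rfl⟩ := hg'
      obtain ⟨i⟩ := hg₀
      suffices (CohCx.HD L q).obj.map (f i ≫ g).op e = 0 by
        show (CohCx.HD L q).obj.map (k ≫ f i).op ((CohCx.HD L q).obj.map g.op e) =
          (CohCx.HD L q).obj.map (k ≫ f i).op ((CohCx.HD L q).obj.map g.op 0)
        rw [map_zero, map_zero, ← ConcreteCategory.comp_apply, ← Functor.map_comp, ← op_comp, Category.assoc,
          op_comp, Functor.map_comp, ConcreteCategory.comp_apply, this, map_zero]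
      obtain ⟨y, hy⟩ := hTs (f i ≫ g) (T.downward_closed hg (f i))
      rw [← hy]
      suffices y = 0 by rw [this, map_zero]
      refine RlimSeq.eq_zero K t L a hL _ q
        (limOne_of_addEquiv (A := fun n => CohCx.HDU (K n) (q - 1) (Ys i)) (fun n => Psi.Ψ (K n) (q - 1) (Ys i)) (fun n => hΨ n _ (hY i) _ (Or.inr rfl))
          (t := fun n => Preadditive.rightComp _ ((shiftFunctor _ (q - 1)).map (t n)))
          (fun n x => Psi.Ψ_comp (t n) (q - 1) (Ys i) x) (h2 _ (hY i))) y fun n => ?_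
      refine (hΨ n _ (hY i) q (Or.inl rfl)).1 ?_
      rw [Psi.Ψ_comp, hy, map_zero, NatTrans.naturality_apply (H.map (a n)).hom]
      exact (congrArg _ (he' n)).trans (map_zero _)
    · intro s
      choose x hx using fun n => (hΨ n U hU q (Or.inl rfl)).2 (Ev.map (limit.π F ⟨n⟩) s)
      obtain ⟨y, hy⟩ := RlimSeq.exists_lift K t L a hL _ q x fun n => (hΨ n U hU q (Or.inl rfl)).1 (by
        rw [Psi.Ψ_comp, hx, hx]
        refine ((congrArg (fun φ => Ev.map φ (Ev.map (limit.π F ⟨n + 1⟩) s)) (hF n)).symm).trans ?_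
        exact ((ConcreteCategory.comp_apply _ _ s).symm.trans
          (ConcreteCategory.congr_hom ((Ev.map_comp _ _).symm.trans (congrArg Ev.map (limit.w F _))) s)))
      refine ⟨Psi.Ψ L q U y, Concrete.isLimit_ext _ (isLimitOfPreserves Ev (limit.isLimit F)) _ _ fun n => ?_⟩
      obtain ⟨n⟩ := n
      refine (hcomp n _).trans ?_
      show ((DerivedCategory.homologyFunctor _ q).map (a n)).hom.app (op U) (Psi.Ψ L q U y) = _
      rw [← Psi.Ψ_comp, hy, hx]
      rfl
  exact ⟨asIso γ⟩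

end Groth.Agent.SiteCoh.RlimHomology
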