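import Groth.Agent.SiteCoh.RlimHomology

/-!
# The limit of an acyclic system of sheaves is a derived limit
-/

set_option autoImplicit false

universe u

open CategoryTheory CategoryTheory.Limits Opposite Pretriangulated DerivedCategory

namespace Groth.Agent.SiteCoh.RlimSingle

theorem isZero_limit {T : Type*} [Category T] [HasZeroMorphisms T] {I : Type*} [Category I] (F : I ⥤ T) [HasLimit F]
    (h : ∀ i, IsZero (F.obj i)) : IsZero (limit F) :=
  (IsZero.iff_id_eq_zero _).2 (limit.hom_ext fun i => (h i).eq_of_tgt _ _)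

variable {C : Type u} [SmallCategory C] {J : GrothendieckTopology C}
  [HasDerivedCategory.{u} (Sheaf J AddCommGrpCat.{u})]
  [HasLimitsOfShape (Discrete ℕ) (DerivedCategory (Sheaf J AddCommGrpCat.{u}))]

theorem isZero_homology_single (F : Sheaf J AddCommGrpCat.{u}) (q : ℤ) (hq : q ≠ 0) :
    IsZero (CohCx.HD ((singleFunctor _ 0).obj F) q) := by
  rcases lt_or_gt_of_ne hq with h | h
  · exact isZero_of_isGE _ 0 q h
  · exact isZero_of_isLE _ 0 q h

theorem subsingleton_HU_of_isZero {M : Sheaf J AddCommGrpCat.{u}} (hM : IsZero M) (k : ℕ) (U : C) :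
    Subsingleton (CohSite.HU M k U) :=
  ⟨fun (x y : Abelian.Ext (CohCx.freeSheaf J U) M k) => by
    rw [← Abelian.Ext.comp_mk₀_id x, ← Abelian.Ext.comp_mk₀_id y, hM.eq_of_tgt (𝟙 M) 0,
      Abelian.Ext.mk₀_zero, Abelian.Ext.comp_zero, Abelian.Ext.comp_zero]⟩

theorem main (F : ℕ → Sheaf J AddCommGrpCat.{u}) (t : ∀ n, F (n + 1) ⟶ F n)
    [HasProduct fun n => (DerivedCategory.singleFunctor (Sheaf J AddCommGrpCat.{u}) 0).obj (F n)]
    (B : Set C)
    (hB : ∀ U : C, ∃ (ι : Type u) (Y : ι → C) (f : ∀ i, Y i ⟶ U), Sieve.ofArrows Y f ∈ J U ∧ ∀ i, Y i ∈ B)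
    (h1 : ∀ U ∈ B, ∀ (p n : ℕ), Subsingleton (CohSite.HU (F n) (p + 1) U))
    (h2 : ∀ U ∈ B, CohCx.LimOneIsZero (fun n => (F n).obj.obj (op U)) (fun n => ((t n).hom.app (op U)).hom)) :
    DCoh.IsRlim (fun n => (DerivedCategory.singleFunctor _ 0).obj (F n))
      (fun n => (DerivedCategory.singleFunctor _ 0).map (t n))
      ((DerivedCategory.singleFunctor _ 0).obj (limit (CohCx.opSequence F t))) ∧
    ∀ U ∈ B, ∀ p : ℕ, Subsingleton (CohSite.HU (limit (CohCx.opSequence F t)) (p + 1) U) := by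
  let S := DerivedCategory.singleFunctor (Sheaf J AddCommGrpCat.{u}) 0
  let K := fun n => S.obj (F n)
  let d : ∏ᶜ K ⟶ ∏ᶜ K := Pi.lift fun n => Pi.π K n - Pi.π K (n + 1) ≫ S.map (t n)
  obtain ⟨L, f, g, hT⟩ := distinguished_cocone_triangle₁ d
  let aL : ∀ n, L ⟶ K n := fun n => f ≫ Pi.π K n
  have hf : Pi.lift aL = f := Pi.hom_ext _ _ fun n => by rw [Pi.lift_π]
  have hL : CohCx.IsRlimVia K (fun n => S.map (t n)) L aL := ⟨g, by rw [hf]; exact hT⟩
  let i₀ := fun n => (singleFunctorCompHomologyFunctorIso (Sheaf J AddCommGrpCat.{u}) 0).app (F n)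
  have hΨ : ∀ (n : ℕ), ∀ U ∈ B, ∀ j : ℤ, Function.Bijective (Psi.Ψ (K n) j U) := fun n U hU j => by
    refine Psi.bijective (K n) B hB (fun V hV p q => ?_) U hU j
    rcases eq_or_ne q 0 with rfl | hq
    · exact TruncCoh.subsingleton_of_iso _ (i₀ n) (h1 V hV p n)
    · exact subsingleton_HU_of_isZero (isZero_homology_single (F n) q hq) _ V
  have h2' : ∀ U ∈ B, ∀ j : ℤ, CohCx.LimOneIsZero (fun n => (CohCx.HD (K n) j).obj.obj (op U))
      (fun n => (((DerivedCategory.homologyFunctor _ j).map (S.map (t n))).hom.app (op U)).hom) := fun U hU j => by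
    let Ev := sheafToPresheaf J AddCommGrpCat.{u} ⋙ (evaluation Cᵒᵖ AddCommGrpCat.{u}).obj (op U)
    rcases eq_or_ne j 0 with rfl | hj
    · refine RlimHomology.limOne_of_addEquiv (fun n => (Ev.map (i₀ n).hom).hom)
        (fun n => ConcreteCategory.bijective_of_isIso (Ev.map (i₀ n).hom)) (fun n x => ?_) (h2 U hU)
      have hn : (homologyFunctor (Sheaf J AddCommGrpCat.{u}) 0).map (S.map (t n)) ≫ (i₀ n).hom =
          (i₀ (n + 1)).hom ≫ t n :=
        (singleFunctorCompHomologyFunctorIso (Sheaf J AddCommGrpCat.{u}) 0).hom.naturality (t n)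
      exact ConcreteCategory.congr_hom
        (((Ev.map_comp _ _).symm.trans (congrArg Ev.map hn)).trans (Ev.map_comp _ _)) x
    · exact RlimHomology.limOne_of_subsingleton _ fun n =>
        AddCommGrpCat.subsingleton_of_isZero (Ev.map_isZero (isZero_homology_single (F n) j hj))
  have hiso : ∀ q : ℤ, Nonempty (CohCx.HD L q ≅ limit (CohCx.opSequence (fun n => CohCx.HD (K n) q)
      (fun n => (DerivedCategory.homologyFunctor _ q).map (S.map (t n))))) := fun q =>
    RlimHomology.nonempty_iso K _ L aL hL B hB q (fun n U hU j _ => hΨ n U hU j) (fun U hU => h2' U hU (q - 1))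
  have hz : ∀ q : ℤ, q ≠ 0 → IsZero (CohCx.HD L q) := fun q hq => by
    obtain ⟨e⟩ := hiso q
    exact (isZero_limit _ fun i => isZero_homology_single (F i.unop) q hq).of_iso e
  have : L.IsGE 0 := (isGE_iff L 0).2 fun i hi => hz i (by omega)
  have : L.IsLE 0 := (isLE_iff L 0).2 fun i hi => hz i (by omega)
  obtain ⟨Y, ⟨eY⟩⟩ := exists_iso_singleFunctor_obj_of_isGE_of_isLE L 0
  obtain ⟨e₀⟩ := hiso 0
  let G := CohCx.opSequence (fun n => CohCx.HD (K n) 0)
    (fun n => (DerivedCategory.homologyFunctor _ 0).map (S.map (t n)))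
  let η : G ⟶ CohCx.opSequence F t := NatTrans.ofOpSequence (fun n => (i₀ n).hom) fun n => by
    refine (congrArg (· ≫ (i₀ n).hom) (Functor.ofOpSequence_map_homOfLE_succ _ n)).trans ?_
    refine Eq.trans ?_ (congrArg ((i₀ (n + 1)).hom ≫ ·) (Functor.ofOpSequence_map_homOfLE_succ t n).symm)
    exact (singleFunctorCompHomologyFunctorIso (Sheaf J AddCommGrpCat.{u}) 0).hom.naturality (t n)
  have : ∀ i, IsIso (η.app i) := fun i => by
    show IsIso (i₀ i.unop).hom
    infer_instance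
  have : IsIso η := NatIso.isIso_of_isIso_app η
  let eL : L ≅ S.obj (limit (CohCx.opSequence F t)) := eY ≪≫ S.mapIso
    (((singleFunctorCompHomologyFunctorIso (Sheaf J AddCommGrpCat.{u}) 0).app Y).symm ≪≫
      (DerivedCategory.homologyFunctor _ 0).mapIso eY.symm ≪≫ e₀ ≪≫ HasLimit.isoOfNatIso (asIso η))
  refine ⟨⟨eL.inv ≫ f, g ≫ eL.hom⟦(1 : ℤ)⟧', ?_⟩, fun U hU p => ?_⟩
  · refine isomorphic_distinguished _ hT _ (Triangle.isoMk _ _ eL.symm (Iso.refl _) (Iso.refl _) ?_ ?_ ?_)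
    · exact Category.comp_id _
    · exact (Category.comp_id _).trans (Category.id_comp d).symm
    · show (g ≫ eL.hom⟦(1 : ℤ)⟧') ≫ eL.inv⟦(1 : ℤ)⟧' = 𝟙 _ ≫ g
      rw [Category.assoc, ← Functor.map_comp, Iso.hom_inv_id, CategoryTheory.Functor.map_id, Category.comp_id,
        Category.id_comp]
  · have hzero : ∀ z : CohCx.HDU L ((p + 1 : ℕ) : ℤ) U, z = 0 := fun z => by
      refine RlimSeq.eq_zero K _ L aL hL _ _
        (RlimHomology.limOne_of_addEquiv (A := fun n => CohCx.HDU (K n) (((p + 1 : ℕ) : ℤ) - 1) U)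
          (t := fun n => Preadditive.rightComp _ ((shiftFunctor _ (((p + 1 : ℕ) : ℤ) - 1)).map (S.map (t n))))
          (fun n => Psi.Ψ (K n) _ U) (fun n => hΨ n U hU _) (fun n x => Psi.Ψ_comp _ _ U x) (h2' U hU _)) z
        fun n => ?_
      apply Abelian.Ext.homEquiv.symm.injective
      exact (h1 U hU p n).elim _ _
    have h' : ∀ x : Abelian.Ext (CohCx.freeSheaf J U) (limit (CohCx.opSequence F t)) (p + 1), x.hom = 0 :=
      fun x => (cancel_mono (eL.inv⟦((p + 1 : ℕ) : ℤ)⟧')).1 ((hzero _).trans zero_comp.symm)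
    exact ⟨fun x y => Abelian.Ext.homEquiv.injective ((h' x).trans (h' y).symm)⟩

end Groth.Agent.SiteCoh.RlimSingle
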