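import Groth.Agent.SiteCoh.EtaPostcomp
import Groth.Agent.SiteCoh.RlimSeq
import Mathlib.CategoryTheory.Sites.EpiMono

/-!
# Injectivity for sections of cohomology sheaves of a derived limit
-/

set_option autoImplicit false

universe u

open CategoryTheory CategoryTheory.Limits Opposite

namespace Groth.Agent.SiteCoh.RlimSections

variable {C : Type u} [SmallCategory C] {J : GrothendieckTopology C}
  [HasDerivedCategory.{u} (Sheaf J AddCommGrpCat.{u})]

/-- A morphism of derived objects is the image of a morphism between K-injective complexes. -/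
theorem exists_rep {X Y : DerivedCategory (Sheaf J AddCommGrpCat.{u})} (g : X ⟶ Y) :
    ∃ (I I' : CochainComplex (Sheaf J AddCommGrpCat.{u}) ℤ) (_ : I.IsKInjective) (_ : I'.IsKInjective)
      (e : DerivedCategory.Q.obj I ≅ X) (e' : DerivedCategory.Q.obj I' ≅ Y) (g' : I ⟶ I'),
      DerivedCategory.Q.map g' = e.hom ≫ g ≫ e'.inv := by
  let R := DHA.KInj.resolution (Sheaf J AddCommGrpCat.{u})
  let rep : ∀ Z : DerivedCategory (Sheaf J AddCommGrpCat.{u}),
      DerivedCategory.Q.obj (R.obj ((DerivedCategory.Q (C := Sheaf J AddCommGrpCat.{u})).objPreimage Z)) ≅ Z := fun Z =>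
    have : QuasiIso ((DHA.KInj.resolutionι (Sheaf J AddCommGrpCat.{u})).app (DerivedCategory.Q.objPreimage Z)) :=
      (DHA.KInj.resolutionι_monoQis _).2
    (asIso (DerivedCategory.Q.map ((DHA.KInj.resolutionι (Sheaf J AddCommGrpCat.{u})).app (DerivedCategory.Q.objPreimage Z)))).symm ≪≫
      DerivedCategory.Q.objObjPreimageIso Z
  refine ⟨_, _, inferInstance, inferInstance, rep X, rep Y, ?_⟩
  let A := Sheaf J AddCommGrpCat.{u}
  let q := DerivedCategory.quotientCompQhIso A
  obtain ⟨h, hh⟩ := (CochainComplex.IsKInjective.Qh_map_bijective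
    ((HomotopyCategory.quotient A (ComplexShape.up ℤ)).obj (R.obj (DerivedCategory.Q.objPreimage X)))
    (R.obj (DerivedCategory.Q.objPreimage Y))).2
      (q.hom.app _ ≫ ((rep X).hom ≫ g ≫ (rep Y).inv) ≫ q.inv.app _)
  obtain ⟨g', rfl⟩ := (HomotopyCategory.quotient A (ComplexShape.up ℤ)).map_surjective h
  refine ⟨g', ?_⟩
  have hn := q.hom.naturality g'
  rw [← cancel_epi (q.hom.app _)]
  refine hn.symm.trans ?_
  rw [Functor.comp_map, hh]
  simp only [Category.assoc, Iso.inv_hom_id_app]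
  erw [Category.comp_id]

theorem shift_map_comp_eq {X Y : DerivedCategory (Sheaf J AddCommGrpCat.{u})} {m : ℤ}
    {P P' : DerivedCategory (Sheaf J AddCommGrpCat.{u})} (e : P ≅ X) (e' : P' ≅ Y) {g : X ⟶ Y} {g' : P ⟶ P'}
    (h : g' = e.hom ≫ g ≫ e'.inv) {Z : DerivedCategory (Sheaf J AddCommGrpCat.{u})} (x : Z ⟶ P⟦m⟧) :
    (x ≫ e.hom⟦m⟧') ≫ g⟦m⟧' = (x ≫ g'⟦m⟧') ≫ e'.hom⟦m⟧' := by
  rw [Category.assoc, Category.assoc, ← Functor.map_comp, ← Functor.map_comp, h]
  simp

/-- Locally, an element of a stage with zero image comes from cycles killed into boundaries. -/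
theorem sieve_mem {I I' : CochainComplex (Sheaf J AddCommGrpCat.{u}) ℤ} (g : I ⟶ I') (m : ℤ) (V : C)
    (s : (I.homology m).obj.obj (op V)) (hs : (HomologicalComplex.homologyMap g m).hom.app (op V) s = 0) :
    ∃ T ∈ J V, ∀ ⦃W : C⦄ (f : W ⟶ V), T.arrows f → ∃ (z : (I.cycles m).obj.obj (op W))
      (b : (I'.X (m - 1)).obj.obj (op W)),
      (I.homologyπ m).hom.app (op W) z = (I.homology m).obj.map f.op s ∧
      (I'.toCycles (m - 1) m).hom.app (op W) b = (HomologicalComplex.cyclesMap g m).hom.app (op W) z := by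
  have hπ : Sheaf.IsLocallySurjective (I.homologyπ m) := (Sheaf.isLocallySurjective_iff_epi' _ _).2 inferInstance
  let S := ShortComplex.mk (I'.toCycles (m - 1) m) (I'.homologyπ m) (by simp)
  have hS : S.Exact := ShortComplex.exact_of_g_is_cokernel S (I'.homologyIsCokernel (m - 1) m (by simp))
  have hl : Sheaf.IsLocallySurjective (kernel.lift S.g S.f S.zero) :=
    (Sheaf.isLocallySurjective_iff_epi' _ _).2 (S.exact_iff_epi_kernel_lift.1 hS)
  have h₁ := Presheaf.imageSieve_mem J (I.homologyπ m).hom s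
  refine ⟨Sieve.bind (Presheaf.imageSieve (I.homologyπ m).hom s).arrows (fun W f hf =>
    Sieve.generate (fun W' => {h : W' ⟶ W | ∃ b : (I'.X (m - 1)).obj.obj (op W'),
      (I'.toCycles (m - 1) m).hom.app (op W') b =
        (HomologicalComplex.cyclesMap g m).hom.app (op W') ((I.cycles m).obj.map h.op hf.choose)})),
    J.bind_covering h₁ (fun W f hf => ?_), ?_⟩
  · let Ev := sheafToPresheaf J AddCommGrpCat.{u} ⋙ (evaluation Cᵒᵖ AddCommGrpCat.{u}).obj (op W)
    have hz : Ev.map (I.homologyπ m) hf.choose = (I.homology m).obj.map f.op s := hf.choose_spec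
    have hk : Ev.map (I'.homologyπ m) (Ev.map (HomologicalComplex.cyclesMap g m) hf.choose) = 0 := by
      rw [← ConcreteCategory.comp_apply, ← Functor.map_comp, ← HomologicalComplex.homologyπ_naturality,
        Functor.map_comp, ConcreteCategory.comp_apply, hz]
      exact (NatTrans.naturality_apply (HomologicalComplex.homologyMap g m).hom f.op s).trans
        ((congrArg _ hs).trans (map_zero _))
    have e : (ShortComplex.mk (Ev.map (kernel.ι S.g)) (Ev.map S.g)
        (by rw [← Functor.map_comp, kernel.condition, Functor.map_zero])).Exact :=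
      ShortComplex.exact_of_f_is_kernel _ (KernelFork.mapIsLimit _ (kernelIsKernel S.g) Ev)
    obtain ⟨k, hk'⟩ := (ShortComplex.ab_exact_iff _).1 e _ hk
    refine J.superset_covering (le_trans ?_ (le_refl _))
      (Presheaf.imageSieve_mem J (kernel.lift S.g S.f S.zero).hom k)
    rintro W' h ⟨b, hb⟩
    refine ⟨W', 𝟙 _, h, ⟨b, ?_⟩, Category.id_comp h⟩
    have h2 := congrArg ((kernel.ι S.g).hom.app (op W')) hb
    rw [NatTrans.naturality_apply (kernel.ι S.g).hom] at h2
    refine Eq.trans ?_ (h2.trans ((congrArg _ hk').trans (NatTrans.naturality_apply (HomologicalComplex.cyclesMap g m).hom h.op hf.choose).symm))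
    exact ConcreteCategory.congr_hom (congr_app (congrArg (fun φ : S.X₁ ⟶ S.X₂ => φ.hom) (kernel.lift_ι S.g S.f S.zero).symm) (op W')) b
  · rintro W' f' ⟨W, h₀, f, hf, ⟨W'', k, h, ⟨b, hb⟩, rfl⟩, rfl⟩
    refine ⟨(I.cycles m).obj.map (k ≫ h).op hf.choose, (I'.X (m - 1)).obj.map k.op b, ?_, ?_⟩
    · rw [NatTrans.naturality_apply (I.homologyπ m).hom, hf.choose_spec, ← ConcreteCategory.comp_apply,
        ← Functor.map_comp]
      rfl
    · rw [NatTrans.naturality_apply (I'.toCycles (m - 1) m).hom, hb,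
        NatTrans.naturality_apply (HomologicalComplex.cyclesMap g m).hom,
        NatTrans.naturality_apply (HomologicalComplex.cyclesMap g m).hom, ← ConcreteCategory.comp_apply,
        ← Functor.map_comp]
      rfl

variable (K : ℕ → DerivedCategory (Sheaf J AddCommGrpCat.{u})) (t : ∀ n, K (n + 1) ⟶ K n) [HasProduct K]
  (L : DerivedCategory (Sheaf J AddCommGrpCat.{u})) (a : ∀ n, L ⟶ K n)

theorem comp_t (hL : CohCx.IsRlimVia K t L a) (n : ℕ) : a (n + 1) ≫ t n = a n := by
  obtain ⟨c, hc⟩ := hL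
  have h : Pi.lift a ≫ Pi.lift (fun n => Pi.π K n - Pi.π K (n + 1) ≫ t n) = 0 :=
    Pretriangulated.comp_distTriang_mor_zero₁₂ _ hc
  have h' := congrArg (fun f => f ≫ Pi.π K n) h
  simp only [Category.assoc, Pi.lift_π, Preadditive.comp_sub, zero_comp, Pi.lift_π_assoc, sub_eq_zero] at h'
  exact h'.symm

theorem comp_transition (hL : CohCx.IsRlimVia K t L a) (n : ℕ) :
    ∀ k : ℕ, a (n + k) ≫ CohCx.transition K t n k = a n
  | 0 => by simp [CohCx.transition]
  | k + 1 => by
    have h := comp_transition hL n k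
    show a (n + k + 1) ≫ t (n + k) ≫ CohCx.transition K t n k = a n
    rw [← Category.assoc, comp_t K t L a hL, h]

theorem eq_zero_of_stage (hL : CohCx.IsRlimVia K t L a) (m : ℤ) (nV : ℕ) (Y : C)
    (h1 : CohCx.LimOneIsZero (fun n => CohCx.HDU (K n) (m - 1) Y)
      (fun n => Preadditive.rightComp _ ((shiftFunctor _ (m - 1)).map (t n))))
    (h2 : ∀ k : ℕ, Function.Injective
      (Preadditive.rightComp _ ((shiftFunctor _ m).map (CohCx.transition K t nV k)) :
        CohCx.HDU (K (nV + k)) m Y → CohCx.HDU (K nV) m Y))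
    (y : CohCx.HDU L m Y) (hy : y ≫ (a nV)⟦m⟧' = 0) : y = 0 := by
  have hge : ∀ k, y ≫ (a (nV + k))⟦m⟧' = 0 := fun k => h2 k (by
    show (y ≫ (a (nV + k))⟦m⟧') ≫ (CohCx.transition K t nV k)⟦m⟧' =
      (Preadditive.rightComp _ ((shiftFunctor _ m).map (CohCx.transition K t nV k))) 0
    rw [map_zero, Category.assoc, ← Functor.map_comp, comp_transition K t L a hL, hy])
  refine RlimSeq.eq_zero K t L a hL _ m h1 y fun n => ?_
  rw [← comp_transition K t L a hL n nV, Functor.map_comp, ← Category.assoc]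
  have : y ≫ (a (n + nV))⟦m⟧' = 0 := by
    have h := hge n
    rwa [show nV + n = n + nV from Nat.add_comm _ _] at h
  rw [this, zero_comp]

theorem injective_sections (hL : CohCx.IsRlimVia K t L a)
    (V : C) (m : ℤ) (nV : ℕ)
    (h : ∀ T ∈ J V, ∃ (ι : Type u) (Y : ι → C) (f : ∀ i, Y i ⟶ V), (∀ i, T.arrows (f i)) ∧
      Sieve.ofArrows Y f ∈ J V ∧ ∀ i,
        CohCx.LimOneIsZero (fun n => CohCx.HDU (K n) (m - 1) (Y i))
          (fun n => Preadditive.rightComp _ ((shiftFunctor _ (m - 1)).map (t n))) ∧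
        ∀ k : ℕ, Function.Injective
          (Preadditive.rightComp _ ((shiftFunctor _ m).map (CohCx.transition K t nV k)) :
            CohCx.HDU (K (nV + k)) m (Y i) → CohCx.HDU (K nV) m (Y i))) :
    Function.Injective (((DerivedCategory.homologyFunctor _ m).map (a nV)).hom.app (op V)) := by
  obtain ⟨I, I', hI, hI', e, e', g, hg⟩ := exists_rep (a nV)
  let H := DerivedCategory.homologyFunctor (Sheaf J AddCommGrpCat.{u}) m
  let F := DerivedCategory.homologyFunctorFactors (Sheaf J AddCommGrpCat.{u}) m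
  let i₁ : H.obj L ≅ I.homology m := (H.mapIso e).symm ≪≫ F.app I
  let i₂ : H.obj (K nV) ≅ I'.homology m := (H.mapIso e').symm ≪≫ F.app I'
  have hsq : H.map (a nV) ≫ i₂.hom = i₁.hom ≫ HomologicalComplex.homologyMap g m := by
    have hn := F.hom.naturality g
    simp only [i₁, i₂, Iso.trans_hom, Iso.symm_hom, Functor.mapIso_inv, Iso.app_hom, Category.assoc]
    refine Eq.trans ?_ (congrArg (H.map e.inv ≫ ·) hn)
    refine ((Category.assoc _ _ _).symm.trans ?_).trans (Category.assoc _ _ _)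
    refine congrArg (· ≫ F.hom.app I') ?_
    show H.map (a nV) ≫ H.map e'.inv = H.map e.inv ≫ H.map (DerivedCategory.Q.map g)
    rw [← Functor.map_comp, ← Functor.map_comp, hg, Iso.inv_hom_id_assoc]
  refine (injective_iff_map_eq_zero _).2 fun s₀ hs₀ => ?_
  let Ev := sheafToPresheaf J AddCommGrpCat.{u} ⋙ (evaluation Cᵒᵖ AddCommGrpCat.{u}).obj (op V)
  let s : (I.homology m).obj.obj (op V) := Ev.map i₁.hom s₀
  have hs : (HomologicalComplex.homologyMap g m).hom.app (op V) s = 0 := by
    show Ev.map (HomologicalComplex.homologyMap g m) (Ev.map i₁.hom s₀) = 0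
    rw [← ConcreteCategory.comp_apply, ← Functor.map_comp, ← hsq, Functor.map_comp, ConcreteCategory.comp_apply]
    exact (congrArg (Ev.map i₂.hom) hs₀).trans (map_zero _)
  suffices s = 0 by
    have hinj : Function.Injective (Ev.map i₁.hom) := (AddCommGrpCat.mono_iff_injective _).1 inferInstance
    exact hinj (this.trans (map_zero _).symm)
  obtain ⟨T, hT, hTs⟩ := sieve_mem g m V s hs
  obtain ⟨ι, Ys, f, hfT, hY, hh⟩ := h T hT
  have hsep := (((isSheaf_iff_isSheaf_of_type J _).1
    ((sheafCompose J (forget AddCommGrpCat.{u})).obj (I.homology m)).property) _ hY).isSeparatedFor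
  refine hsep.ext fun W f' hf' => ?_
  obtain ⟨W', k, g₀, hg₀, rfl⟩ := hf'
  obtain ⟨i⟩ := hg₀
  suffices (I.homology m).obj.map (f i).op s = 0 by
    show (I.homology m).obj.map (k ≫ f i).op s = (I.homology m).obj.map (k ≫ f i).op 0
    rw [map_zero, op_comp, Functor.map_comp, ConcreteCategory.comp_apply, this, map_zero]
  obtain ⟨z, b, hz, hb⟩ := hTs (f i) (hfT i)
  let η := HDUSheafify.app (𝟙 I) m (Ys i) z
  let y : CohCx.HDU L m (Ys i) := η ≫ e.hom⟦m⟧'
  have hy : y ≫ (a nV)⟦m⟧' = 0 := by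
    rw [shift_map_comp_eq e e' hg]
    have h' : η ≫ (DerivedCategory.Q.map g)⟦m⟧' =
        HDUSheafify.app (𝟙 I') m (Ys i) ((HomologicalComplex.cyclesMap g m).hom.app (op (Ys i)) z) := by
      refine (EtaPostcomp.eta_postcomp g m _ _).symm.trans ?_
      refine congrArg (HyperCech.Rest.eta (𝟙 I') m _) ((AddEquiv.eq_symm_apply _).2 ?_)
      rw [Free.sectionEquiv_comp]
      exact congrArg _ (AddEquiv.apply_symm_apply _ z)
    rw [h', (HDUSheafify.app_eq_zero_iff (𝟙 I') m (Ys i) _).2 ⟨b, hb⟩, zero_comp]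
  have hy0 := eq_zero_of_stage K t L a hL m nV (Ys i) (hh i).1 (hh i).2 y hy
  have hη : η = 0 := by
    rw [← cancel_mono (e.hom⟦m⟧'), zero_comp]
    exact hy0
  obtain ⟨c, rfl⟩ := (HDUSheafify.app_eq_zero_iff (𝟙 I) m (Ys i) z).1 hη
  rw [← hz]
  exact ConcreteCategory.congr_hom (congr_app (congrArg (fun φ : I.X (m - 1) ⟶ I.homology m => φ.hom)
    (I.toCycles_comp_homologyπ (m - 1) m)) (op (Ys i))) c

end Groth.Agent.SiteCoh.RlimSections
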