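import Groth.Agent.SiteCoh.TruncCoh
import Groth.Agent.SiteCoh.RlimSections

/-!
# A derived object as derived limit of its truncations
-/

set_option autoImplicit false

universe u

open CategoryTheory CategoryTheory.Limits Opposite Pretriangulated DerivedCategory

namespace Groth.Agent.SiteCoh.TruncLim

theorem limOne_of_eventually_surjective {A : ℕ → Type u} [∀ n, AddCommGroup (A n)] (t : ∀ n, A (n + 1) →+ A n)
    (n₀ : ℕ) (h : ∀ n, n₀ ≤ n → Function.Surjective (t n)) : CohCx.LimOneIsZero A t := by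
  induction n₀ generalizing A with
  | zero =>
    intro b
    choose s hs using fun n => h n (Nat.zero_le n)
    let a : ∀ n, A n := fun n => Nat.rec (motive := fun n => A n) 0 (fun n an => s n (an - b n)) n
    refine ⟨a, funext fun n => ?_⟩
    show a n - t n (s n (a n - b n)) = b n
    rw [hs, sub_sub_cancel]
  | succ n₀ ih =>
    intro b
    obtain ⟨a, ha⟩ := ih (A := fun n => A (n + 1)) (fun n => t (n + 1)) (fun n hn => h (n + 1) (by omega))
      (fun n => b (n + 1))
    refine ⟨fun n => Nat.casesOn (motive := fun n => A n) n (b 0 + t 0 (a 0)) a, funext fun n => ?_⟩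
    cases n with
    | zero => exact add_sub_cancel_right (b 0) (t 0 (a 0))
    | succ n => exact congrFun ha n

variable {C : Type u} [SmallCategory C] {J : GrothendieckTopology C}

/-- A map of sheaves bijective on sections over members of a covering class is an isomorphism. -/
theorem isIso_of_bijective_on {F F' : Sheaf J AddCommGrpCat.{u}} (φ : F ⟶ F') (B : Set C)
    (hB : ∀ U : C, ∃ (ι : Type u) (Y : ι → C) (f : ∀ i, Y i ⟶ U), Sieve.ofArrows Y f ∈ J U ∧ ∀ i, Y i ∈ B)
    (h : ∀ V ∈ B, Function.Bijective (φ.hom.app (op V))) : IsIso φ := by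
  have : Sheaf.IsLocallySurjective φ := ⟨fun {U} s => by
    obtain ⟨ι, Y, f, hf, hY⟩ := hB U
    refine J.superset_covering ?_ hf
    rintro W g ⟨W', k, g₀, hg₀, rfl⟩
    obtain ⟨i⟩ := hg₀
    obtain ⟨x, hx⟩ := (h _ (hY i)).2 (F'.obj.map (f i).op s)
    refine ⟨F.obj.map k.op x, ?_⟩
    rw [NatTrans.naturality_apply φ.hom, hx, ← ConcreteCategory.comp_apply, ← Functor.map_comp]
    rfl⟩
  have : Sheaf.IsLocallyInjective φ := ⟨fun {U} a b hab => by
    obtain ⟨ι, Y, f, hf, hY⟩ := hB U.unop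
    refine J.superset_covering ?_ hf
    rintro W g ⟨W', k, g₀, hg₀, rfl⟩
    obtain ⟨i⟩ := hg₀
    have h' : F.obj.map (f i).op a = F.obj.map (f i).op b := (h _ (hY i)).1 (by
      rw [NatTrans.naturality_apply φ.hom, NatTrans.naturality_apply φ.hom, hab])
    show F.obj.map (k ≫ f i).op a = F.obj.map (k ≫ f i).op b
    rw [op_comp, Functor.map_comp, ConcreteCategory.comp_apply, ConcreteCategory.comp_apply, h']⟩
  have : Mono φ := Sheaf.mono_of_isLocallyInjective φ
  have : Epi φ := (Sheaf.isLocallySurjective_iff_epi' _ φ).1 inferInstance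
  exact isIso_of_mono_of_epi φ

variable [HasDerivedCategory.{u} (Sheaf J AddCommGrpCat.{u})] (E : DerivedCategory (Sheaf J AddCommGrpCat.{u}))

theorem toTruncTower_map (n : ℕ) :
    CohCx.toTruncTower E (n + 1) ≫ CohCx.truncTowerMap E n = CohCx.toTruncTower E n :=
  TStructure.t.π_natTransTruncGEOfLE_app _ _ _ E

theorem map_injective (U : C) (m : ℤ) (n : ℕ)
    (h : ∀ k : ℕ, (k : ℤ) = m + n + 1 → Subsingleton (CohSite.HU (CohCx.HD E (m - k)) k U)) :
    Function.Injective (Preadditive.rightComp _ ((shiftFunctor _ m).map (CohCx.truncTowerMap E n)) :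
      CohCx.HDU (CohCx.truncTower E (n + 1)) m U → CohCx.HDU (CohCx.truncTower E n) m U) := by
  refine (injective_iff_map_eq_zero _).2 fun x hx => ?_
  refine TruncCoh.step_injective (CohCx.freeSheaf J U) E _ _ (by push_cast; ring) m (fun k hk => ?_) x hx
  have h' := h k (by omega)
  rwa [show m - (k : ℤ) = -((n + 1 : ℕ) : ℤ) by omega] at h'

theorem map_surjective (U : C) (m : ℤ) (n : ℕ)
    (h : ∀ k : ℕ, (k : ℤ) = m + n + 2 → Subsingleton (CohSite.HU (CohCx.HD E (m + 1 - k)) k U)) :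
    Function.Surjective (Preadditive.rightComp _ ((shiftFunctor _ m).map (CohCx.truncTowerMap E n)) :
      CohCx.HDU (CohCx.truncTower E (n + 1)) m U → CohCx.HDU (CohCx.truncTower E n) m U) := fun y => by
  refine TruncCoh.step_surjective (CohCx.freeSheaf J U) E _ _ (by push_cast; ring) m (fun k hk => ?_) y
  have h' := h k (by omega)
  rwa [show m + 1 - (k : ℤ) = -((n + 1 : ℕ) : ℤ) by omega] at h'

theorem limOne (U : C) (m : ℤ) (n₀ : ℕ)
    (h : ∀ k : ℕ, m + n₀ + 2 ≤ (k : ℤ) → Subsingleton (CohSite.HU (CohCx.HD E (m + 1 - k)) k U)) :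
    CohCx.LimOneIsZero (fun n => CohCx.HDU (CohCx.truncTower E n) m U)
      (fun n => Preadditive.rightComp _ ((shiftFunctor _ m).map (CohCx.truncTowerMap E n))) :=
  limOne_of_eventually_surjective _ n₀ fun n hn => map_surjective E U m n fun k hk => h k (by omega)

theorem transition_injective (U : C) (m : ℤ) (n₀ : ℕ)
    (h : ∀ k : ℕ, m + n₀ + 1 ≤ (k : ℤ) → Subsingleton (CohSite.HU (CohCx.HD E (m - k)) k U)) :
    ∀ j : ℕ, Function.Injective
      (Preadditive.rightComp _ ((shiftFunctor _ m).map (CohCx.transition (CohCx.truncTower E) (CohCx.truncTowerMap E) n₀ j)) :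
        CohCx.HDU (CohCx.truncTower E (n₀ + j)) m U → CohCx.HDU (CohCx.truncTower E n₀) m U)
  | 0 => fun a b hab => by
    simpa [Preadditive.rightComp, CohCx.transition] using hab
  | j + 1 => fun a b hab => by
    refine map_injective E U m (n₀ + j) (fun k hk => h k (by omega)) (transition_injective U m n₀ h j ?_)
    refine Eq.trans ?_ (hab.trans ?_)
    · exact (Category.assoc _ _ _).trans (congrArg (a ≫ ·) ((shiftFunctor _ m).map_comp _ _).symm)
    · exact (congrArg (b ≫ ·) ((shiftFunctor _ m).map_comp _ _)).trans (Category.assoc _ _ _).symm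

theorem isIso_homology (n : ℕ) (m : ℤ) (h : -(n : ℤ) ≤ m) :
    IsIso ((DerivedCategory.homologyFunctor _ m).map (CohCx.toTruncTower E n)) :=
  Groth.Agent.KFlat.TruncHom.isIso_H_truncGEπ E _ m h

theorem isRlimVia [HasProduct (CohCx.truncTower E)] (B : Set C)
    (hB : ∀ U : C, ∃ (ι : Type u) (Y : ι → C) (f : ∀ i, Y i ⟶ U), Sieve.ofArrows Y f ∈ J U ∧ ∀ i, Y i ∈ B)
    (h : ∀ V ∈ B, ∃ p : ℤ → ℤ, ∀ T ∈ J V, ∃ (ι : Type u) (Y : ι → C) (f : ∀ i, Y i ⟶ V),
      (∀ i, T.arrows (f i)) ∧ Sieve.ofArrows Y f ∈ J V ∧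
      ∀ (i : ι) (m : ℤ) (k : ℕ), p m < k → Subsingleton (CohSite.HU (CohCx.HD E (m - k)) k (Y i))) :
    CohCx.IsRlimVia (CohCx.truncTower E) (CohCx.truncTowerMap E) E (CohCx.toTruncTower E) := by
  let K := CohCx.truncTower E
  let t := CohCx.truncTowerMap E
  let d : ∏ᶜ K ⟶ ∏ᶜ K := Pi.lift fun n => Pi.π K n - Pi.π K (n + 1) ≫ t n
  obtain ⟨L, f, g, hT⟩ := distinguished_cocone_triangle₁ d
  let aL : ∀ n, L ⟶ K n := fun n => f ≫ Pi.π K n
  have hf : Pi.lift aL = f := Pi.hom_ext _ _ fun n => by rw [Pi.lift_π]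
  have hL : CohCx.IsRlimVia K t L aL := ⟨g, by rw [hf]; exact hT⟩
  have h0 : Pi.lift (CohCx.toTruncTower E) ≫ d = 0 := by
    refine Pi.hom_ext _ _ fun n => ?_
    rw [Category.assoc, Pi.lift_π, zero_comp, Preadditive.comp_sub, Pi.lift_π, Pi.lift_π_assoc, sub_eq_zero]
    exact (toTruncTower_map E n).symm
  obtain ⟨v, hv⟩ : ∃ v : E ⟶ L, Pi.lift (CohCx.toTruncTower E) = v ≫ f :=
    Triangle.coyoneda_exact₂ _ hT (Pi.lift (CohCx.toTruncTower E)) h0
  have hv' : ∀ n, v ≫ aL n = CohCx.toTruncTower E n := fun n =>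
    ((Category.assoc _ _ _).symm.trans (congrArg (· ≫ Pi.π K n) hv.symm)).trans (Pi.lift_π _ n)
  have : IsIso v := by
    rw [DerivedCategory.isIso_iff]
    intro m
    refine isIso_of_bijective_on _ B hB fun V hV => ?_
    obtain ⟨p, hp⟩ := h V hV
    let n₀ : ℕ := (max (p m - m) (-m)).toNat
    have hn₀ : p m ≤ m + n₀ ∧ -(n₀ : ℤ) ≤ m := by
      have := Int.self_le_toNat (max (p m - m) (-m))
      have := le_max_left (p m - m) (-m)
      have := le_max_right (p m - m) (-m)
      omega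
    have hinj : Function.Injective (((DerivedCategory.homologyFunctor _ m).map (aL n₀)).hom.app (op V)) := by
      refine RlimSections.injective_sections K t L aL hL V m n₀ fun T hT' => ?_
      obtain ⟨ι, Y, fY, h₁, h₂, h₃⟩ := hp T hT'
      refine ⟨ι, Y, fY, h₁, h₂, fun i => ⟨limOne E (Y i) (m - 1) n₀ fun k hk => ?_,
        transition_injective E (Y i) m n₀ fun k hk => h₃ i m k (by omega)⟩⟩
      have := h₃ i m k (by omega)
      rwa [show m - 1 + 1 - (k : ℤ) = m - k by ring]
    let Ev := sheafToPresheaf J AddCommGrpCat.{u} ⋙ (evaluation Cᵒᵖ AddCommGrpCat.{u}).obj (op V)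
    let H := DerivedCategory.homologyFunctor (Sheaf J AddCommGrpCat.{u}) m
    have := isIso_homology E n₀ m hn₀.2
    have hb : Function.Bijective (Ev.map (H.map (CohCx.toTruncTower E n₀))) :=
      ConcreteCategory.bijective_of_isIso _
    have hfun : ⇑(Ev.map (H.map (CohCx.toTruncTower E n₀))) = ⇑(Ev.map (H.map (aL n₀))) ∘ ⇑(Ev.map (H.map v)) :=
      funext fun x => by rw [← hv' n₀, Functor.map_comp, Functor.map_comp, Function.comp_apply, ConcreteCategory.comp_apply]
    rw [hfun] at hb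
    exact ⟨Function.Injective.of_comp hb.1, fun s => by
      obtain ⟨e, he⟩ := hb.2 (Ev.map (H.map (aL n₀)) s)
      exact ⟨e, hinj he⟩⟩
  refine ⟨g ≫ (inv v)⟦(1 : ℤ)⟧', ?_⟩
  let ev : E ≅ L := asIso v
  refine isomorphic_distinguished _ hT _ (Triangle.isoMk _ _ ev (Iso.refl _) (Iso.refl _) ?_ ?_ ?_)
  · exact (Category.comp_id _).trans hv
  · exact (Category.comp_id _).trans (Category.id_comp d).symm
  · show (g ≫ (inv v)⟦(1 : ℤ)⟧') ≫ v⟦(1 : ℤ)⟧' = 𝟙 _ ≫ g
    rw [Category.assoc, ← Functor.map_comp, IsIso.inv_hom_id, CategoryTheory.Functor.map_id, Category.comp_id,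
      Category.id_comp]

end Groth.Agent.SiteCoh.TruncLim
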