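import Groth.Agent.SiteCoh.CxLim
import Groth.Agent.SiteCoh.TruncLim
import Mathlib.CategoryTheory.Sites.LocallyBijective
import Mathlib.CategoryTheory.Limits.Preserves.Finite

/-!
# Cohomology sheaves of a termwise limit of complexes of sheaves
-/

set_option autoImplicit false

universe u

open CategoryTheory CategoryTheory.Limits Opposite HomologicalComplex

namespace Groth.Agent.SiteCoh.CxLimSheaf

theorem isIso_homologyMap_map_iff {A A' : Type*} [Category A] [Category A'] [Abelian A] [Abelian A'] (F : A ⥤ A')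
    [F.Additive] [F.PreservesHomology] {ι : Type*} {c : ComplexShape ι} {K K' : HomologicalComplex A c}
    (φ : K ⟶ K') (i : ι) :
    IsIso (homologyMap ((F.mapHomologicalComplex c).map φ) i) ↔ IsIso (F.map (homologyMap φ i)) :=
  NatIso.isIso_map_iff (ShortComplex.homologyFunctorIso F) ((shortComplexFunctor A c i).map φ)

variable {C : Type u} [SmallCategory C] {J : GrothendieckTopology C}

theorem isIso_homologyMap_of_bijective_on {K K' : CochainComplex (Sheaf J AddCommGrpCat.{u}) ℤ} (f : K ⟶ K') (m : ℤ)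
    (B : Set C)
    (hB : ∀ U : C, ∃ (ι : Type u) (Y : ι → C) (g : ∀ i, Y i ⟶ U), Sieve.ofArrows Y g ∈ J U ∧ ∀ i, Y i ∈ B)
    (h : ∀ U ∈ B, IsIso (homologyMap ((CohCx.sectCx J U).map f) m)) : IsIso (homologyMap f m) := by
  let P := sheafToPresheaf J AddCommGrpCat.{u}
  let φ := (P.mapHomologicalComplex (ComplexShape.up ℤ)).map f
  have hφ : ∀ U ∈ B, Function.Bijective ((homologyMap φ m).app (op U)) := fun U hU => by
    have := (isIso_homologyMap_map_iff ((evaluation Cᵒᵖ AddCommGrpCat.{u}).obj (op U)) φ m).1 (h U hU)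
    exact ConcreteCategory.bijective_of_isIso (((evaluation Cᵒᵖ AddCommGrpCat.{u}).obj (op U)).map (homologyMap φ m))
  let g := homologyMap φ m
  have : Presheaf.IsLocallySurjective J g := ⟨fun {U} s => by
    obtain ⟨ι, Y, e, he, hY⟩ := hB U
    refine J.superset_covering ?_ he
    rintro W _ ⟨W', k, g₀, hg₀, rfl⟩
    obtain ⟨i⟩ := hg₀
    obtain ⟨x, hx⟩ := (hφ _ (hY i)).2 (((P.mapHomologicalComplex _).obj K').homology m |>.map (e i).op s)
    refine ⟨(((P.mapHomologicalComplex _).obj K).homology m).map k.op x, ?_⟩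
    rw [NatTrans.naturality_apply, hx, ← ConcreteCategory.comp_apply, ← Functor.map_comp]
    rfl⟩
  have : Presheaf.IsLocallyInjective J g := ⟨fun {U} a b hab => by
    obtain ⟨ι, Y, e, he, hY⟩ := hB U.unop
    refine J.superset_covering ?_ he
    rintro W _ ⟨W', k, g₀, hg₀, rfl⟩
    obtain ⟨i⟩ := hg₀
    let Q := ((P.mapHomologicalComplex (ComplexShape.up ℤ)).obj K).homology m
    have h' : Q.map (e i).op a = Q.map (e i).op b := (hφ _ (hY i)).1 (by
      rw [NatTrans.naturality_apply, NatTrans.naturality_apply, hab])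
    show Q.map (k ≫ e i).op a = Q.map (k ≫ e i).op b
    rw [op_comp, Functor.map_comp, ConcreteCategory.comp_apply, ConcreteCategory.comp_apply, h']⟩
  let a := presheafToSheaf J AddCommGrpCat.{u}
  have hW : J.W g := J.W_of_isLocallyBijective g
  have : IsIso (a.map g) := (J.W_iff g).1 hW
  have := (isIso_homologyMap_map_iff a φ m).2 this
  let ε : ∀ X : CochainComplex (Sheaf J AddCommGrpCat.{u}) ℤ,
      (a.mapHomologicalComplex (ComplexShape.up ℤ)).obj ((P.mapHomologicalComplex (ComplexShape.up ℤ)).obj X) ≅ X :=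
    fun X => HomologicalComplex.Hom.isoOfComponents
      (fun j => (asIso (sheafificationAdjunction J AddCommGrpCat.{u}).counit).app (X.X j))
      (fun i j _ => ((sheafificationAdjunction J AddCommGrpCat.{u}).counit.naturality (X.d i j)).symm)
  have hn : (a.mapHomologicalComplex _).map φ = (ε K).hom ≫ f ≫ (ε K').inv := by
    rw [← Category.assoc, Iso.eq_comp_inv]
    refine HomologicalComplex.hom_ext _ _ fun j => ?_
    rw [HomologicalComplex.comp_f, HomologicalComplex.comp_f]
    exact (sheafificationAdjunction J AddCommGrpCat.{u}).counit.naturality (f.f j)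
  rw [hn, homologyMap_comp, homologyMap_comp] at this
  have := IsIso.of_isIso_comp_left (homologyMap (ε K).hom m) (homologyMap f m ≫ homologyMap (ε K').inv m)
  exact IsIso.of_isIso_comp_right (homologyMap f m) (homologyMap (ε K').inv m)

theorem main (F : ℕ → CochainComplex (Sheaf J AddCommGrpCat.{u}) ℤ) (t : ∀ n, F (n + 1) ⟶ F n) (m : ℤ)
    (B : Set C)
    (hB : ∀ U : C, ∃ (ι : Type u) (Y : ι → C) (f : ∀ i, Y i ⟶ U), Sieve.ofArrows Y f ∈ J U ∧ ∀ i, Y i ∈ B)
    (n₀ : ℕ)
    (ha : ∀ U ∈ B, ∀ j : ℤ, (j = m - 2 ∨ j = m - 1) →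
      CohCx.LimOneIsZero (fun n => ((F n).X j).obj.obj (op U)) (fun n => (((t n).f j).hom.app (op U)).hom))
    (hb : ∀ U ∈ B, CohCx.LimOneIsZero
      (fun n => ((CohCx.sectCx J U).obj (F n)).homology (m - 1))
      (fun n => (homologyMap ((CohCx.sectCx J U).map (t n)) (m - 1)).hom))
    (hc : ∀ U ∈ B, ∀ k : ℕ, IsIso (homologyMap ((CohCx.sectCx J U).map (CohCx.transition F t n₀ k)) m)) :
    IsIso (homologyMap (limit.π (CohCx.opSequence F t) (op n₀)) m) := by
  refine isIso_homologyMap_of_bijective_on _ m B hB fun U hU => ?_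
  let S := CohCx.sectCx J U
  let D := CohCx.opSequence F t
  have hρ : ∀ n, S.map (limit.π D ⟨n + 1⟩) ≫ S.map (t n) = S.map (limit.π D ⟨n⟩) := fun n => by
    rw [← S.map_comp]
    exact congrArg S.map ((congrArg (limit.π D ⟨n + 1⟩ ≫ ·) (Functor.ofOpSequence_map_homOfLE_succ t n).symm).trans
      (limit.w D _))
  let Gj := fun j : ℤ => HomologicalComplex.eval (Sheaf J AddCommGrpCat.{u}) (ComplexShape.up ℤ) j ⋙
    sheafToPresheaf J AddCommGrpCat.{u} ⋙ (evaluation Cᵒᵖ AddCommGrpCat.{u}).obj (op U)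
  have hlim := fun j : ℤ => isLimitOfPreserves (Gj j) (limit.isLimit D)
  have hbij : Function.Bijective (homologyMap (S.map (limit.π D ⟨n₀⟩)) m) := by
    refine CxLim.bijective (fun n => S.obj (F n)) (fun n => S.map (t n)) (S.obj (limit D))
      (fun n => S.map (limit.π D ⟨n⟩)) hρ
      (fun j y y' hy => Concrete.isLimit_ext _ (hlim j) y y' fun ⟨n⟩ => hy n) (fun j y hy => ?_) m n₀
      (ha U hU (m - 1) (Or.inr rfl)) (ha U hU (m - 1 - 1) (Or.inl (by ring))) (hb U hU) fun n hn => ?_
    · let e := fun (X : AddCommGrpCat.{u}) (x : X) =>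
        AddCommGrpCat.ofHom ((zmultiplesHom X x).comp (AddEquiv.ulift : ULift.{u} ℤ ≃+ ℤ).toAddMonoidHom)
      let s : Cone (D ⋙ Gj j) := ⟨AddCommGrpCat.of (ULift.{u} ℤ), NatTrans.ofOpSequence
        (fun n => e ((D ⋙ Gj j).obj ⟨n⟩) (y n)) fun n => by
          refine AddCommGrpCat.ext fun z => ?_
          show z.down • y n = (Gj j).map (D.map _) (z.down • y (n + 1))
          refine Eq.trans ?_ (congrArg (fun φ : F (n + 1) ⟶ F n => (Gj j).map φ (z.down • y (n + 1)))
            (Functor.ofOpSequence_map_homOfLE_succ t n).symm)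
          exact (congrArg (z.down • ·) (hy n)).symm.trans (map_zsmul ((Gj j).map (t n)).hom z.down (y (n + 1))).symm⟩
      refine ⟨(hlim j).lift s ⟨1⟩, fun n => ?_⟩
      exact (ConcreteCategory.congr_hom ((hlim j).fac s ⟨n⟩) ⟨1⟩).trans (one_zsmul (y n))
    · obtain ⟨k, rfl⟩ := Nat.le.dest hn
      have h₁ := hc U hU (k + 1)
      have h₂ := hc U hU k
      rw [CohCx.transition, Functor.map_comp, homologyMap_comp] at h₁
      have := IsIso.of_isIso_comp_right (homologyMap (S.map (t (n₀ + k))) m) (homologyMap (S.map (CohCx.transition F t n₀ k)) m)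
      exact ConcreteCategory.bijective_of_isIso _
  exact (ConcreteCategory.isIso_iff_bijective _).2 hbij

end Groth.Agent.SiteCoh.CxLimSheaf
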