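import Groth.Agent.SiteCoh.Free
import Groth.Agent.HyperCech.Rest
import Groth.Agent.DHA.KInjectiveResolution

/-!
# The presheaves of hypercohomology sheafify to the cohomology sheaves
-/

set_option autoImplicit false

universe u

open CategoryTheory CategoryTheory.Limits Opposite

namespace Groth.Agent.SiteCoh.HDUSheafify

variable {C : Type u} [SmallCategory C] {J : GrothendieckTopology C}
  [HasDerivedCategory.{u} (Sheaf J AddCommGrpCat.{u})]
  {K I : CochainComplex (Sheaf J AddCommGrpCat.{u}) ℤ} (φ : K ⟶ I) [QuasiIso φ] (q : ℤ)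

/-- The class of a cycle section. -/
noncomputable def app (V : C) :
    (I.cycles q).obj.obj (op V) →+ CohCx.HDU ((DerivedCategory.Q (C := Sheaf J AddCommGrpCat.{u})).obj K) q V :=
  (HyperCech.Rest.eta φ q (CohCx.freeSheaf J V)).comp
    (Free.sectionEquiv J V (I.cycles q)).symm.toAddMonoidHom

/-- The comparison of the cycle sheaf with the hypercohomology presheaf. -/
noncomputable def etaNat :
    (I.cycles q).obj ⟶ CohCx.HDUPresheaf ((DerivedCategory.Q (C := Sheaf J AddCommGrpCat.{u})).obj K) q where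
  app V := AddCommGrpCat.ofHom (app φ q V.unop)
  naturality V W g := by
    ext s
    show app φ q W.unop ((I.cycles q).obj.map g s) =
      (DerivedCategory.singleFunctor (Sheaf J AddCommGrpCat.{u}) 0).map (CohCx.freeSheafMap J g.unop) ≫
        app φ q V.unop s
    refine Eq.trans ?_ (HyperCech.Rest.eta_natural φ q _ (CohCx.freeSheafMap J g.unop) _)
    refine congrArg (HyperCech.Rest.eta φ q _) ((AddEquiv.symm_apply_eq _).2 (Eq.symm ?_))
    refine (Free.sectionEquiv_map J g.unop _).trans (congrArg _ ?_)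
    exact AddEquiv.apply_symm_apply _ _

variable [I.IsKInjective]

theorem app_surjective (V : C) : Function.Surjective (app φ q V) :=
  (HyperCech.Rest.eta_surjective φ q _).comp (AddEquiv.surjective _)

theorem app_eq_zero_iff (V : C) (s : (I.cycles q).obj.obj (op V)) :
    app φ q V s = 0 ↔ ∃ t : (I.X (q - 1)).obj.obj (op V), (I.toCycles (q - 1) q).hom.app (op V) t = s := by
  refine (HyperCech.Rest.eta_eq_zero_iff φ q _ _).trans ⟨?_, ?_⟩
  · rintro ⟨g, hg⟩
    refine ⟨Free.sectionEquiv J V _ g, ?_⟩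
    rw [← Free.sectionEquiv_comp, hg]
    exact AddEquiv.apply_symm_apply _ s
  · rintro ⟨t, rfl⟩
    refine ⟨(Free.sectionEquiv J V _).symm t, (Free.sectionEquiv J V (I.cycles q)).injective ?_⟩
    rw [Free.sectionEquiv_comp, AddEquiv.apply_symm_apply]
    exact (AddEquiv.apply_symm_apply _ _).symm

include φ in
theorem nonempty_iso_of_rep :
    Nonempty ((presheafToSheaf J AddCommGrpCat.{u}).obj
      (CohCx.HDUPresheaf ((DerivedCategory.Q (C := Sheaf J AddCommGrpCat.{u})).obj K) q) ≅ I.homology q) := by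
  let d := (I.toCycles (q - 1) q).hom
  have hw : d ≫ etaNat φ q = 0 := by
    refine NatTrans.ext (funext fun V => AddCommGrpCat.hom_ext (AddMonoidHom.ext fun t => ?_))
    exact (app_eq_zero_iff φ q V.unop _).2 ⟨t, rfl⟩
  let S := ShortComplex.mk d (etaNat φ q) hw
  have : Epi S.g := by
    have : ∀ V, Epi ((etaNat φ q).app V) := fun V =>
      (AddCommGrpCat.epi_iff_surjective _).2 (app_surjective φ q V.unop)
    exact NatTrans.epi_of_epi_app _
  have hS : S.Exact := by
    rw [S.exact_iff_isZero_homology]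
    refine Functor.isZero _ fun V => ?_
    refine IsZero.of_iso ((S.map ((evaluation Cᵒᵖ AddCommGrpCat.{u}).obj V)).exact_iff_isZero_homology.1 ?_)
      (S.mapHomologyIso ((evaluation Cᵒᵖ AddCommGrpCat.{u}).obj V)).symm
    rw [ShortComplex.ab_exact_iff]
    intro s hs
    exact (app_eq_zero_iff φ q V.unop s).1 hs
  let F := presheafToSheaf J AddCommGrpCat.{u}
  have h₁ := CokernelCofork.mapIsColimit (CokernelCofork.ofπ S.g S.zero) hS.gIsCokernel F
  let e₁ : F.obj (I.X (q - 1)).obj ≅ I.X (q - 1) := asIso ((sheafificationAdjunction J AddCommGrpCat.{u}).counit.app _)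
  let e₂ : F.obj (I.cycles q).obj ≅ I.cycles q := asIso ((sheafificationAdjunction J AddCommGrpCat.{u}).counit.app _)
  have hsq : F.map d ≫ e₂.hom = e₁.hom ≫ I.toCycles (q - 1) q :=
    (sheafificationAdjunction J AddCommGrpCat.{u}).counit.naturality (I.toCycles (q - 1) q)
  let c₁ := cokernel.mapIso (F.map d) (I.toCycles (q - 1) q) e₁ e₂ hsq
  exact ⟨(h₁.coconePointUniqueUpToIso (cokernelIsCokernel (F.map d))) ≪≫ c₁ ≪≫
    (cokernelIsCokernel _).coconePointUniqueUpToIso (I.homologyIsCokernel (q - 1) q (by simp))⟩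

omit [QuasiIso φ] [I.IsKInjective] in
theorem nonempty_iso (K : DerivedCategory (Sheaf J AddCommGrpCat.{u})) (q : ℤ) :
    Nonempty ((presheafToSheaf J AddCommGrpCat.{u}).obj (CohCx.HDUPresheaf K q) ≅ CohCx.HD K q) := by
  let K₀ := (DerivedCategory.Q (C := Sheaf J AddCommGrpCat.{u})).objPreimage K
  let e : DerivedCategory.Q.obj K₀ ≅ K := (DerivedCategory.Q (C := Sheaf J AddCommGrpCat.{u})).objObjPreimageIso K
  let φ : K₀ ⟶ (DHA.KInj.resolution (Sheaf J AddCommGrpCat.{u})).obj K₀ :=
    (DHA.KInj.resolutionι (Sheaf J AddCommGrpCat.{u})).app K₀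
  have hφ : QuasiIso φ := (DHA.KInj.resolutionι_monoQis K₀).2
  have : IsIso (HomologicalComplex.homologyMap φ q) := (quasiIsoAt_iff_isIso_homologyMap φ q).1 (hφ.quasiIsoAt q)
  obtain ⟨i⟩ := nonempty_iso_of_rep φ q
  let eP : CohCx.HDUPresheaf K q ≅ CohCx.HDUPresheaf (DerivedCategory.Q.obj K₀) q :=
    Functor.isoWhiskerLeft _ (preadditiveYoneda.mapIso ((shiftFunctor _ q).mapIso e.symm))
  exact ⟨(presheafToSheaf J AddCommGrpCat.{u}).mapIso eP ≪≫ i ≪≫ (asIso (HomologicalComplex.homologyMap φ q)).symm ≪≫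
    ((DerivedCategory.homologyFunctorFactors (Sheaf J AddCommGrpCat.{u}) q).app K₀).symm ≪≫
    (DerivedCategory.homologyFunctor (Sheaf J AddCommGrpCat.{u}) q).mapIso e⟩

end Groth.Agent.SiteCoh.HDUSheafify
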