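import Mathlib.CategoryTheory.Sites.Pullback
import Mathlib.CategoryTheory.Sites.Over
import Mathlib.CategoryTheory.Sites.Abelian
import Mathlib.CategoryTheory.Limits.Final
import Mathlib.CategoryTheory.Abelian.GrothendieckAxioms.Colim
import Mathlib.Algebra.Category.Grp.AB
import Mathlib.Algebra.Category.Grp.FilteredColimits
import Mathlib.CategoryTheory.Sites.LeftExact
import Mathlib.CategoryTheory.Abelian.Exact
import Mathlib.CategoryTheory.Adjunction.Additive
import Mathlib.Algebra.Homology.ShortComplex.ExactFunctor

/-!
# Extension by zero from `C/U` of abelian sheaves is exact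
-/

set_option autoImplicit false

universe u

open CategoryTheory CategoryTheory.Limits Opposite

namespace Groth.Agent.SiteCoh.ExtByZero

variable {C : Type u} [SmallCategory C] (U : C)

/-- The objects of the comma category which are terminal in their components. -/
def pick (V : C) : Discrete (V ⟶ U) ⥤ CostructuredArrow (Over.forget U).op (op V) :=
  Discrete.functor fun φ => CostructuredArrow.mk (Y := op (Over.mk φ)) (𝟙 (op V))

instance final_pick (V : C) : (pick U V).Final := ⟨fun X => by
  let φ : V ⟶ U := X.hom.unop ≫ X.left.unop.hom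
  let a : X ⟶ (pick U V).obj ⟨φ⟩ :=
    CostructuredArrow.homMk (Over.homMk X.hom.unop rfl : Over.mk φ ⟶ X.left.unop).op
      ((Category.comp_id _).trans X.hom.op_unop)
  have : Nonempty (StructuredArrow X (pick U V)) := ⟨StructuredArrow.mk a⟩
  refine zigzag_isConnected fun A B => Relation.ReflTransGen.single (Or.inl ⟨?_⟩)
  have h : ∀ B : StructuredArrow X (pick U V), B.right.as = φ := fun B => by
    have hw := CostructuredArrow.w B.hom
    have hu := congrArg (fun g => g.unop ≫ X.left.unop.hom) hw
    dsimp [pick] at hu
    simp only [φ]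
    refine Eq.trans ?_ hu
    simp only [Category.assoc]
    exact (Over.w B.hom.left.unop).symm.trans (Category.id_comp _).symm
  refine StructuredArrow.homMk (Discrete.eqToHom ((h A).trans (h B).symm)) ?_
  refine CostructuredArrow.hom_ext _ _ (Quiver.Hom.unop_inj (Over.OverMorphism.ext ?_))
  have hA := CostructuredArrow.w A.hom
  have hB := CostructuredArrow.w B.hom
  dsimp [pick] at hA hB
  rw [Category.comp_id] at hA hB
  have e : ∀ (A' : Discrete (V ⟶ U)) (g : X ⟶ (pick U V).obj A'), g.left.unop.left = X.hom.unop := fun A' g => by
    have := congrArg Quiver.Hom.unop (CostructuredArrow.w g)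
    dsimp [pick] at this
    simp at this
    exact this
  exact (e _ _).trans (e _ _).symm⟩

set_option backward.isDefEq.respectTransparency false in
theorem mono_lan_map {P Q : (Over U)ᵒᵖ ⥤ AddCommGrpCat.{u}} (α : P ⟶ Q) [Mono α] :
    Mono ((Over.forget U).op.lan.map α) := by
  rw [NatTrans.mono_iff_mono_app]
  rintro ⟨V⟩
  let L := (Over.forget U).op
  have hP := (Functor.Final.isColimitWhiskerEquiv (pick U V) _).symm
    (Functor.isPointwiseLeftKanExtensionOfIsLeftKanExtension (L.lan.obj P) (L.lanUnit.app P) (op V))
  have hQ := (Functor.Final.isColimitWhiskerEquiv (pick U V) _).symm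
    (Functor.isPointwiseLeftKanExtensionOfIsLeftKanExtension (L.lan.obj Q) (L.lanUnit.app Q) (op V))
  let β := Functor.whiskerLeft (pick U V ⋙ CostructuredArrow.proj L (op V)) α
  have : ∀ i, Mono (β.app i) := fun i =>
    (NatTrans.mono_iff_mono_app α).1 inferInstance _
  have : Mono β := NatTrans.mono_of_mono_app β
  refine colim.map_mono' β hP hQ ((L.lan.map α).app (op V)) fun j => ?_
  dsimp [Functor.LeftExtension.coconeAt, β]
  have h := congr_app (L.lanUnit.naturality α) ((pick U V ⋙ CostructuredArrow.proj L (op V)).obj j)
  dsimp at h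
  rw [Category.assoc, NatTrans.naturality, ← Category.assoc]
  exact (congrArg (fun g => g ≫ (L.lan.obj Q).map _) h).symm.trans (Category.assoc _ _ _)

variable (J : GrothendieckTopology C)

theorem preservesMonomorphisms_pullback :
    ((Over.forget U).sheafPullback AddCommGrpCat.{u} (J.over U) J).PreservesMonomorphisms := by
  let e := Functor.sheafPullbackConstruction.sheafPullbackIso (Over.forget U) AddCommGrpCat.{u} (J.over U) J
  have : (Functor.sheafPullbackConstruction.sheafPullback (Over.forget U) AddCommGrpCat.{u} (J.over U) J).PreservesMonomorphisms :=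
    ⟨fun {F G} f _ => by
      have := mono_lan_map U ((sheafToPresheaf (J.over U) AddCommGrpCat.{u}).map f)
      exact inferInstanceAs (Mono ((presheafToSheaf J AddCommGrpCat.{u}).map
        ((Over.forget U).op.lan.map ((sheafToPresheaf (J.over U) AddCommGrpCat.{u}).map f))))⟩
  exact Functor.preservesMonomorphisms.of_iso e.symm

theorem exact_pullback :
    PreservesFiniteLimits ((Over.forget U).sheafPullback AddCommGrpCat.{u} (J.over U) J) ∧
      PreservesFiniteColimits ((Over.forget U).sheafPullback AddCommGrpCat.{u} (J.over U) J) := by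
  let L := (Over.forget U).sheafPullback AddCommGrpCat.{u} (J.over U) J
  let adj : L ⊣ _ := (Over.forget U).sheafAdjunctionContinuous AddCommGrpCat.{u} (J.over U) J
  have : L.IsLeftAdjoint := adj.isLeftAdjoint
  have : ((Over.forget U).sheafPushforwardContinuous AddCommGrpCat.{u} (J.over U) J).Additive :=
    ⟨fun {_ _ _ _} => rfl⟩
  have : L.Additive := adj.left_adjoint_additive
  have : L.PreservesZeroMorphisms := L.preservesZeroMorphisms_of_additive
  have := preservesMonomorphisms_pullback U J
  have : L.PreservesHomology := Functor.preservesHomology_of_preservesMonos_and_cokernels L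
  exact ⟨L.preservesFiniteLimits_of_preservesHomology, L.preservesFiniteColimits_of_preservesHomology⟩

end Groth.Agent.SiteCoh.ExtByZero
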