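import Groth.Agent.SiteCoh.Free
import Groth.Agent.SiteCoh.DimShift
import Groth.Agent.SiteCoh.Cech

/-!
# Abelian sheaves as presheaves (sheaves for the trivial topology)
-/

set_option autoImplicit false

universe u

open CategoryTheory CategoryTheory.Limits Opposite CategoryTheory.Abelian

namespace Groth.Agent.SiteCoh.SieveCoh

variable {C : Type u} [SmallCategory C] (J : GrothendieckTopology C)

/-- The inclusion of sheaves into presheaves, seen as sheaves for the trivial topology. -/
noncomputable abbrev toBot :
    Sheaf J AddCommGrpCat.{u} ⥤ Sheaf (⊥ : GrothendieckTopology C) AddCommGrpCat.{u} :=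
  ObjectProperty.lift _ (sheafToPresheaf J AddCommGrpCat.{u}) (fun F => Presheaf.isSheaf_bot F.obj)

instance : (toBot J).Additive where

instance : PreservesFiniteLimits (toBot J) :=
  have : PreservesFiniteLimits (toBot J ⋙ sheafToPresheaf (⊥ : GrothendieckTopology C) AddCommGrpCat.{u}) :=
    inferInstanceAs (PreservesFiniteLimits (sheafToPresheaf J AddCommGrpCat.{u}))
  preservesFiniteLimits_of_reflects_of_preserves (toBot J) (sheafToPresheaf ⊥ AddCommGrpCat.{u})

instance injective_toBot (I : Sheaf J AddCommGrpCat.{u}) [Injective I] : Injective ((toBot J).obj I) where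
  factors {A B} f g _ := by
    let a := sheafificationAdjunction J AddCommGrpCat.{u}
    have : Mono g.hom := inferInstanceAs (Mono ((sheafToPresheaf _ _).map g))
    have : Mono ((presheafToSheaf J AddCommGrpCat.{u}).map g.hom) := inferInstance
    obtain ⟨h, hh⟩ := Injective.factors ((a.homEquiv A.obj I).symm f.hom)
      ((presheafToSheaf J AddCommGrpCat.{u}).map g.hom)
    refine ⟨⟨a.homEquiv B.obj I h⟩, ?_⟩
    apply Sheaf.hom_ext
    change g.hom ≫ a.homEquiv B.obj I h = f.hom
    rw [← a.homEquiv_naturality_left, hh, Equiv.apply_symm_apply]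

/-- Morphisms from the free presheaf on a presheaf of sets are morphisms from the free sheaf. -/
noncomputable def eR (P : Cᵒᵖ ⥤ Type u) (G : Sheaf J AddCommGrpCat.{u}) :
    ((Free.freePre (⊥ : GrothendieckTopology C)).obj P ⟶ (toBot J).obj G) ≃
      ((Free.freePre J).obj P ⟶ G) :=
  ((Free.adj ⊥).homEquiv P ((toBot J).obj G)).trans ((Free.adj J).homEquiv P G).symm

theorem eR_naturality {P : Cᵒᵖ ⥤ Type u} {G G' : Sheaf J AddCommGrpCat.{u}}
    (a : (Free.freePre (⊥ : GrothendieckTopology C)).obj P ⟶ (toBot J).obj G) (φ : G ⟶ G') :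
    eR J P G' (a ≫ (toBot J).map φ) = eR J P G a ≫ φ := by
  refine ((Free.adj J).homEquiv _ _).injective ?_
  simp only [eR, Equiv.trans_apply, Equiv.apply_symm_apply]
  rw [(Free.adj J).homEquiv_naturality_right, Equiv.apply_symm_apply,
    (Free.adj ⊥).homEquiv_naturality_right]
  rfl

variable {J}

/-- A covering sieve has the same free sheaf as its object. -/
theorem isIso_free_functorInclusion {X : C} {R : Sieve X} (hR : R ∈ J X) :
    IsIso ((Free.freePre J).map R.functorInclusion) := by
  refine Free.isIso_freePre_map_of_W J _ ?_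
  rw [GrothendieckTopology.W_iff_isLocallyBijective]
  exact ⟨Presheaf.isLocallyInjective_of_injective _ _ fun V => fun a b hab => Subtype.ext hab,
    ⟨fun {V} g => J.superset_covering (fun W k hk => ⟨⟨k ≫ g, hk⟩, rfl⟩) (J.pullback_stable g hR)⟩⟩

variable {S : ShortComplex (Sheaf J AddCommGrpCat.{u})} (hS : S.ShortExact)

include hS

theorem shortExact_map_toBot (h : ∀ U : C, Function.Surjective (S.g.hom.app (op U))) :
    (S.map (toBot J)).ShortExact := by
  have := hS.mono_f
  have : Mono ((toBot J).map S.f) := inferInstance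
  refine { exact := hS.exact.map_of_mono_of_preservesKernel _ inferInstance inferInstance
           mono_f := this
           epi_g := ?_ }
  have hloc : Sheaf.IsLocallySurjective ((toBot J).map S.g) :=
    Presheaf.isLocallySurjective_of_surjective _ _ fun V => h V.unop
  exact (Sheaf.isLocallySurjective_iff_epi' _ _).1 hloc

/-- If `H¹` of the kernel vanishes on every covering sieve of `X`, sections over `X` lift. -/
theorem surjective_sections_of_sieve (X : C)
    (h : ∀ R : Sieve X, R ∈ J X →
      Subsingleton (Ext ((Free.freePre (⊥ : GrothendieckTopology C)).obj R.functor)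
        ((toBot J).obj S.X₁) 1)) :
    Function.Surjective (S.g.hom.app (op X)) := by
  intro t
  have := hS.mono_f
  have := hS.epi_g
  obtain ⟨g, rfl⟩ := (Free.sectionEquiv J X S.X₃).surjective t
  have hg : Sheaf.IsLocallySurjective S.g := (Sheaf.isLocallySurjective_iff_epi' _ S.g).2 inferInstance
  let R := Presheaf.imageSieve S.g.hom (Free.sectionEquiv J X S.X₃ g)
  have hR : R ∈ J X := Presheaf.imageSieve_mem J _ _
  have := isIso_free_functorInclusion hR
  let gb := (eR J R.functor S.X₃).symm ((Free.freePre J).map R.functorInclusion ≫ g)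
  have h0 : gb ≫ cokernel.π ((toBot J).map S.g) = 0 := by
    refine ((Free.adj ⊥).homEquiv _ _).injective ?_
    rw [(Free.adj ⊥).homEquiv_naturality_right, (Free.adj ⊥).homEquiv_unit (f := 0)]
    ext V ⟨w, hw⟩
    obtain ⟨x, hx⟩ := hw
    have e1 : (((Free.adj ⊥).homEquiv R.functor ((toBot J).obj S.X₃) gb).app V) ⟨w, ⟨x, hx⟩⟩ =
        S.X₃.obj.map w.op (Free.sectionEquiv J X S.X₃ g) := by
      simp only [gb, eR, Equiv.symm_trans_apply, Equiv.symm_symm, Equiv.apply_symm_apply]
      rw [(Free.adj J).homEquiv_naturality_left]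
      change (((Free.adj J).homEquiv (yoneda.obj X) S.X₃ g).app V) w =
        S.X₃.obj.map w.op (((Free.adj J).homEquiv (yoneda.obj X) S.X₃ g).app (op X) (𝟙 X))
      exact (congrArg _ (Category.comp_id w).symm).trans
        (NatTrans.naturality_apply ((Free.adj J).homEquiv (yoneda.obj X) S.X₃ g) w.op (𝟙 X))
    change (cokernel.π ((toBot J).map S.g)).hom.app V
      ((((Free.adj ⊥).homEquiv R.functor ((toBot J).obj S.X₃) gb).app V) ⟨w, ⟨x, hx⟩⟩) = _
    refine (congrArg ((cokernel.π ((toBot J).map S.g)).hom.app V) (e1.trans hx.symm)).trans ?_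
    exact ConcreteCategory.congr_hom
      (NatTrans.congr_app (congrArg (fun φ => φ.hom) (cokernel.condition ((toBot J).map S.g))) V) x
  let T := ShortComplex.mk ((toBot J).map S.f) (Abelian.factorThruImage ((toBot J).map S.g)) (by
    rw [← cancel_mono (Abelian.image.ι ((toBot J).map S.g)), Category.assoc, Abelian.image.fac,
      ← Functor.map_comp, S.zero, Functor.map_zero, zero_comp])
  have hT : T.ShortExact := by
    have he : (S.map (toBot J)).Exact :=
      hS.exact.map_of_mono_of_preservesKernel _ inferInstance inferInstance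
    refine { exact := ?_, mono_f := inferInstanceAs (Mono ((toBot J).map S.f)),
             epi_g := inferInstanceAs (Epi (Abelian.factorThruImage _)) }
    let φ : T ⟶ S.map (toBot J) :=
      { τ₁ := 𝟙 _, τ₂ := 𝟙 _, τ₃ := Abelian.image.ι _
        comm₁₂ := (Category.id_comp _).trans (Category.comp_id _).symm
        comm₂₃ := (Category.id_comp _).trans (Abelian.image.fac _).symm }
    have : Epi φ.τ₁ := inferInstanceAs (Epi (𝟙 _))
    have : IsIso φ.τ₂ := inferInstanceAs (IsIso (𝟙 _))
    have : Mono φ.τ₃ := inferInstanceAs (Mono (Abelian.image.ι _))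
    exact (ShortComplex.exact_iff_of_epi_of_isIso_of_mono φ).2 he
  have := h R hR
  obtain ⟨b, hb⟩ := DimShift.exists_lift hT (M := (Free.freePre ⊥).obj R.functor)
    (kernel.lift _ gb h0)
  have hb' : b ≫ (toBot J).map S.g = gb := by
    rw [← Abelian.image.fac ((toBot J).map S.g), ← Category.assoc]
    exact (congrArg (· ≫ Abelian.image.ι _) hb).trans (kernel.lift_ι _ _ _)
  refine ⟨Free.sectionEquiv J X S.X₂ (inv ((Free.freePre J).map R.functorInclusion) ≫
    eR J R.functor S.X₂ b), ?_⟩
  rw [← Free.sectionEquiv_comp]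
  refine congrArg _ ?_
  rw [Category.assoc, ← eR_naturality, hb', Equiv.apply_symm_apply, IsIso.inv_hom_id_assoc]

end Groth.Agent.SiteCoh.SieveCoh
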