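import Groth.Agent.PullFlat.Site
import Mathlib.CategoryTheory.Sites.Pullback
import Mathlib.CategoryTheory.Sites.Abelian
import Mathlib.CategoryTheory.Sites.LeftExact
import Mathlib.Algebra.Category.Grp.Colimits
import Mathlib.Algebra.Category.Grp.AB
import Mathlib.Algebra.Category.Grp.FilteredColimits
import Mathlib.Algebra.Homology.ShortComplex.ExactFunctor
import Mathlib.CategoryTheory.Adjunction.Additive
import Mathlib.Algebra.DirectSum.Basic
import Mathlib.GroupTheory.QuotientGroup.Defs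

/-!
# The inverse image of abelian sheaves along a covering flat functor is exact
-/

set_option autoImplicit false

universe u

open CategoryTheory CategoryTheory.Limits Opposite DirectSum

attribute [local instance] Classical.propDecidable

namespace Groth.Agent.SiteCoh.PullAb

variable {C D : Type u} [SmallCategory C] [SmallCategory D] {J : GrothendieckTopology C}
  {K : GrothendieckTopology D} {u : D ⥤ C} (M : Dᵒᵖ ⥤ AddCommGrpCat.{u})

/-- Indices of the generators over `W`. -/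
abbrev Idx (u : D ⥤ C) (W : C) := CostructuredArrow u.op (op W)

/-- A refinement of finitely many generators. -/
structure Ref {W W' : C} (g : W' ⟶ W) (s : Finset (Idx u W)) where
  /-- the object -/
  V : D
  /-- the map to it -/
  b : W' ⟶ u.obj V
  /-- the maps to the generators -/
  q : ∀ X ∈ s, V ⟶ X.left.unop
  hq : ∀ X (h : X ∈ s), g ≫ X.hom.unop = b ≫ u.map (q X h)

variable {M}

/-- The value of a formal combination on a refinement. -/
noncomputable def val {W W' : C} {g : W' ⟶ W} {s : Finset (Idx u W)} (r : Ref g s)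
    (φ : ⨁ X : Idx u W, M.obj X.left) : M.obj (op r.V) :=
  ∑ X ∈ s, if h : X ∈ s then M.map (r.q X h).op (φ X) else 0

theorem val_add {W W' : C} {g : W' ⟶ W} {s : Finset (Idx u W)} (r : Ref g s)
    (φ ψ : ⨁ X : Idx u W, M.obj X.left) : val r (φ + ψ) = val r φ + val r ψ := by
  simp only [val, ← Finset.sum_add_distrib]
  refine Finset.sum_congr rfl fun X hX => ?_
  rw [dif_pos hX, dif_pos hX, dif_pos hX]
  exact (congrArg _ (DirectSum.add_apply φ ψ X)).trans (map_add _ _ _)

theorem val_neg {W W' : C} {g : W' ⟶ W} {s : Finset (Idx u W)} (r : Ref g s)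
    (φ : ⨁ X : Idx u W, M.obj X.left) : val r (-φ) = -val r φ := by
  simp only [val, ← Finset.sum_neg_distrib]
  refine Finset.sum_congr rfl fun X hX => ?_
  rw [dif_pos hX, dif_pos hX]
  exact (congrArg _ (DFinsupp.neg_apply φ X)).trans (map_neg _ _)

theorem val_of {W W' : C} {g : W' ⟶ W} {s : Finset (Idx u W)} (r : Ref g s) (X : Idx u W) (hX : X ∈ s)
    (m : M.obj X.left) : val r (DirectSum.of (fun X : Idx u W => (M.obj X.left : Type u)) X m) =
      M.map (r.q X hX).op m := by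
  rw [val, Finset.sum_eq_single X ?_ (fun h => absurd hX h)]
  · rw [dif_pos hX, DirectSum.of_eq_same]
  · intro Y hY hne
    rw [dif_pos hY, DirectSum.of_eq_of_ne _ _ _ hne, map_zero]

/-- Transport a refinement along a map. -/
def Ref.pull {W W' W'' : C} {g : W' ⟶ W} {s : Finset (Idx u W)} (r : Ref g s) (h : W'' ⟶ W') {V : D}
    (e : V ⟶ r.V) (b : W'' ⟶ u.obj V) (hb : h ≫ r.b = b ≫ u.map e) : Ref (h ≫ g) s where
  V := V
  b := b
  q X hX := e ≫ r.q X hX
  hq X hX := by rw [Category.assoc, r.hq X hX, ← Category.assoc, hb, Category.assoc, Functor.map_comp]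

theorem val_pull {W W' W'' : C} {g : W' ⟶ W} {s : Finset (Idx u W)} (r : Ref g s) (h : W'' ⟶ W') {V : D}
    (e : V ⟶ r.V) (b : W'' ⟶ u.obj V) (hb : h ≫ r.b = b ≫ u.map e) (φ : ⨁ X : Idx u W, M.obj X.left) :
    val (r.pull h e b hb) φ = M.map e.op (val r φ) := by
  rw [val, val, map_sum]
  refine Finset.sum_congr rfl fun X hX => ?_
  rw [dif_pos hX, dif_pos hX, ← ConcreteCategory.comp_apply, ← Functor.map_comp]
  rfl

variable (hu : PullFlat.CovFlat K J u)
include hu

theorem exists_ref {W : C} (s : Finset (Idx u W)) :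
    ∃ S ∈ J W, ∀ ⦃W' : C⦄ (g : W' ⟶ W), S g → Nonempty (Ref g s) := by
  induction s using Finset.induction with
  | empty =>
    obtain ⟨S, hS, hS'⟩ := hu.some W
    exact ⟨S, hS, fun W' g hg => let ⟨V, ⟨b⟩⟩ := hS' g hg; ⟨⟨V, b, fun X h => absurd h (Finset.notMem_empty X),
      fun X h => absurd h (Finset.notMem_empty X)⟩⟩⟩
  | insert X s _ ih =>
    obtain ⟨S, hS, hS'⟩ := ih
    refine PullFlat.exists_cover_bind _ hS fun W₁ g hg => ?_
    obtain ⟨r⟩ := hS' g hg
    obtain ⟨T, hT, hT'⟩ := hu.pair r.b (g ≫ X.hom.unop)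
    refine ⟨T, hT, fun W₂ h hh => ?_⟩
    obtain ⟨V, q₁, q₂, b, h₁, h₂⟩ := hT' h hh
    refine ⟨⟨V, b, fun Y hY => if hYs : Y ∈ s then q₁ ≫ r.q Y hYs else
      q₂ ≫ eqToHom (by rw [(Finset.mem_insert.1 hY).resolve_right hYs]), fun Y hY => ?_⟩⟩
    split_ifs with hYs
    · exact (r.pull h q₁ b h₁).hq Y hYs
    · obtain rfl := (Finset.mem_insert.1 hY).resolve_right hYs
      rw [eqToHom_refl, Category.comp_id, Category.assoc]
      exact h₂

theorem exists_agree {W W₁ : C} {g : W₁ ⟶ W} {V : D} (b : W₁ ⟶ u.obj V) (s : Finset (Idx u W))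
    (q q' : ∀ X ∈ s, V ⟶ X.left.unop) (hq : ∀ X h, g ≫ X.hom.unop = b ≫ u.map (q X h))
    (hq' : ∀ X h, g ≫ X.hom.unop = b ≫ u.map (q' X h)) :
    ∃ S ∈ J W₁, ∀ ⦃W₂ : C⦄ (h : W₂ ⟶ W₁), S h → ∃ (V' : D) (e : V' ⟶ V) (b' : W₂ ⟶ u.obj V'),
      h ≫ b = b' ≫ u.map e ∧ ∀ X hX, e ≫ q X hX = e ≫ q' X hX := by
  induction s using Finset.induction with
  | empty => exact ⟨⊤, J.top_mem _, fun W₂ h _ => ⟨V, 𝟙 V, h ≫ b, by simp, fun X hX => absurd hX (Finset.notMem_empty X)⟩⟩
  | insert X s _ ih =>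
    obtain ⟨S, hS, hS'⟩ := ih (fun Y hY => q Y (Finset.mem_insert_of_mem hY)) (fun Y hY => q' Y (Finset.mem_insert_of_mem hY))
      (fun Y hY => hq Y _) (fun Y hY => hq' Y _)
    refine PullFlat.exists_cover_bind _ hS fun W₂ h hh => ?_
    obtain ⟨V', e, b', hb, he⟩ := hS' h hh
    obtain ⟨T, hT, hT'⟩ := hu.eq (e ≫ q X (Finset.mem_insert_self _ _)) (e ≫ q' X (Finset.mem_insert_self _ _)) b' (by
      simp only [Functor.map_comp, ← Category.assoc, ← hb]
      simp only [Category.assoc, ← hq, ← hq'])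
    refine ⟨T, hT, fun W₃ h' hh' => ?_⟩
    obtain ⟨V'', e', b'', he', hb'⟩ := hT' h' hh'
    refine ⟨V'', e' ≫ e, b'', by rw [Category.assoc, hb, ← Category.assoc, hb', Category.assoc, Functor.map_comp], ?_⟩
    intro Y hY
    rcases Finset.mem_insert.1 hY with rfl | hYs
    · simpa only [Category.assoc] using he'
    · simp only [Category.assoc]
      exact congrArg (e' ≫ ·) (he Y hYs)

omit hu in
/-- A formal combination is null if, locally, it has zero value on some refinement. -/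
def IsNull (J : GrothendieckTopology C) {W : C} (φ : ⨁ X : Idx u W, M.obj X.left) : Prop :=
  ∃ S ∈ J W, ∀ ⦃W' : C⦄ (g : W' ⟶ W), S g →
    ∃ (s : Finset (Idx u W)) (r : Ref g s), (∀ X, X ∉ s → φ X = 0) ∧ val r φ = 0

theorem IsNull.zero {W : C} : IsNull J (0 : ⨁ X : Idx u W, M.obj X.left) := by
  obtain ⟨S, hS, hS'⟩ := exists_ref hu (∅ : Finset (Idx u W))
  exact ⟨S, hS, fun W' g hg => let ⟨r⟩ := hS' g hg; ⟨∅, r, fun _ _ => rfl, Finset.sum_empty⟩⟩

omit hu in
theorem IsNull.neg {W : C} {φ : ⨁ X : Idx u W, M.obj X.left} (h : IsNull J φ) : IsNull J (-φ) := by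
  obtain ⟨S, hS, hS'⟩ := h
  refine ⟨S, hS, fun W' g hg => ?_⟩
  obtain ⟨s, r, h₁, h₂⟩ := hS' g hg
  exact ⟨s, r, fun X hX => (DFinsupp.neg_apply φ X).trans (by rw [h₁ X hX, neg_zero]), by rw [val_neg, h₂, neg_zero]⟩

theorem IsNull.add {W : C} {φ ψ : ⨁ X : Idx u W, M.obj X.left} (h : IsNull J φ) (h' : IsNull J ψ) :
    IsNull J (φ + ψ) := by
  obtain ⟨S, hS, hS'⟩ := h
  obtain ⟨S', hSS, hSS'⟩ := h'
  refine PullFlat.exists_cover_bind _ (J.intersection_covering hS hSS) fun W₁ g hg => ?_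
  obtain ⟨s, r, hs, hr⟩ := hS' g hg.1
  obtain ⟨s', r', hs', hr'⟩ := hSS' g hg.2
  obtain ⟨T, hT, hT'⟩ := hu.pair r.b r'.b
  refine PullFlat.exists_cover_bind _ hT fun W₂ h hh => ?_
  obtain ⟨V, e₁, e₂, b, hb₁, hb₂⟩ := hT' h hh
  let r₁ := r.pull h e₁ b hb₁
  let r₂ := r'.pull h e₂ b hb₂
  obtain ⟨T', hTT, hTT'⟩ := exists_agree hu (g := h ≫ g) b (s ∩ s') (fun X hX => r₁.q X (Finset.mem_inter.1 hX).1)
    (fun X hX => r₂.q X (Finset.mem_inter.1 hX).2) (fun X _ => r₁.hq X _) (fun X _ => r₂.hq X _)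
  refine ⟨T', hTT, fun W₃ k hk => ?_⟩
  obtain ⟨V', e, b', hb', he⟩ := hTT' k hk
  let p₁ := r₁.pull k e b' hb'
  let p₂ := r₂.pull k e b' hb'
  let q₀ : ∀ X ∈ s ∪ s', V' ⟶ X.left.unop := fun X hX =>
    if hXs : X ∈ s then p₁.q X hXs else p₂.q X ((Finset.mem_union.1 hX).resolve_left hXs)
  let R : Ref ((k ≫ h) ≫ g) (s ∪ s') := ⟨V', b', q₀, fun X hX => by
    simp only [q₀]
    split_ifs with hXs
    · exact (congrArg (· ≫ X.hom.unop) (Category.assoc k h g)).trans (p₁.hq X hXs)
    · exact (congrArg (· ≫ X.hom.unop) (Category.assoc k h g)).trans (p₂.hq X _)⟩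
  have h₁ : val R φ = val p₁ φ := by
    refine ((Finset.sum_subset Finset.subset_union_left fun X hX hXs => ?_).symm).trans
      (Finset.sum_congr rfl fun X hX => ?_)
    · rw [dif_pos hX, hs X hXs, map_zero]
    · rw [dif_pos hX, dif_pos (Finset.mem_union_left _ hX)]
      simp only [R, q₀, dif_pos hX]
      rfl
  have h₂ : val R ψ = val p₂ ψ := by
    refine ((Finset.sum_subset Finset.subset_union_right fun X hX hXs => ?_).symm).trans
      (Finset.sum_congr rfl fun X hX => ?_)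
    · rw [dif_pos hX, hs' X hXs, map_zero]
    · rw [dif_pos hX, dif_pos (Finset.mem_union_right _ hX)]
      simp only [R, q₀]
      by_cases hXs : X ∈ s
      · rw [dif_pos hXs]
        exact congrArg (fun t : V' ⟶ X.left.unop => M.map t.op (ψ X)) (he X (Finset.mem_inter.2 ⟨hXs, hX⟩))
      · rw [dif_neg hXs]
        rfl
  refine ⟨s ∪ s', R, fun X hX => ?_, ?_⟩
  · rw [Finset.mem_union, not_or] at hX
    exact (DirectSum.add_apply φ ψ X).trans (by rw [hs X hX.1, hs' X hX.2, add_zero])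
  · have z₁ : val p₁ φ = 0 := (val_pull r₁ k e b' hb' φ).trans ((congrArg _ ((val_pull r h e₁ b hb₁ φ).trans
      ((congrArg _ hr).trans (map_zero _)))).trans (map_zero _))
    have z₂ : val p₂ ψ = 0 := (val_pull r₂ k e b' hb' ψ).trans ((congrArg _ ((val_pull r' h e₂ b hb₂ ψ).trans
      ((congrArg _ hr').trans (map_zero _)))).trans (map_zero _))
    exact (val_add R φ ψ).trans ((congrArg₂ (· + ·) (h₁.trans z₁) (h₂.trans z₂)).trans (add_zero _))

theorem IsNull.rel {W : C} {X Y : Idx u W} (f : X ⟶ Y) (m : M.obj X.left) :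
    IsNull J (DirectSum.of (fun X : Idx u W => (M.obj X.left : Type u)) Y (M.map f.left m) -
      DirectSum.of (fun X : Idx u W => (M.obj X.left : Type u)) X m) := by
  obtain ⟨S, hS, hS'⟩ := exists_ref hu ({X, Y} : Finset (Idx u W))
  refine PullFlat.exists_cover_bind _ hS fun W₁ g hg => ?_
  obtain ⟨r⟩ := hS' g hg
  have hXs : X ∈ ({X, Y} : Finset (Idx u W)) := by simp
  have hYs : Y ∈ ({X, Y} : Finset (Idx u W)) := by simp
  obtain ⟨T, hT, hT'⟩ := hu.eq (r.q X hXs) (r.q Y hYs ≫ f.left.unop) r.b (by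
    rw [← r.hq, Functor.map_comp, ← Category.assoc, ← r.hq, Category.assoc]
    exact congrArg (fun t => g ≫ t.unop) (CostructuredArrow.w f).symm)
  refine ⟨T, hT, fun W₂ h hh => ?_⟩
  obtain ⟨V, e, b, he, hb⟩ := hT' h hh
  refine ⟨{X, Y}, r.pull h e b hb, fun Z hZ => ?_, ?_⟩
  · rw [Finset.mem_insert, Finset.mem_singleton, not_or] at hZ
    rw [sub_eq_add_neg, DirectSum.add_apply, DFinsupp.neg_apply, DirectSum.of_eq_of_ne _ _ _ hZ.2,
      DirectSum.of_eq_of_ne _ _ _ hZ.1]
    simp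
  · rw [sub_eq_add_neg, val_add, val_neg, val_pull, val_pull, val_of r X hXs, val_of r Y hYs, ← sub_eq_add_neg, sub_eq_zero]
    simp only [← ConcreteCategory.comp_apply, ← Functor.map_comp]
    refine congrArg (fun t => M.map t m) (Quiver.Hom.unop_inj ?_)
    simpa using he.symm

/-- The null combinations. -/
noncomputable def nullSub (W : C) : AddSubgroup (⨁ X : Idx u W, M.obj X.left) where
  carrier := {φ | IsNull J φ}
  zero_mem' := IsNull.zero hu
  add_mem' h h' := IsNull.add hu h h'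
  neg_mem' h := h.neg

omit hu

/-- A generator of the presheaf inverse image. -/
noncomputable def gen (M : Dᵒᵖ ⥤ AddCommGrpCat.{u}) {W : C} (X : Idx u W) :
    M.obj X.left ⟶ (u.op.lan.obj M).obj (op W) :=
  (u.op.lanUnit.app M).app X.left ≫ (u.op.lan.obj M).map X.hom

/-- The colimit property of the presheaf inverse image. -/
noncomputable def genIsColimit (M : Dᵒᵖ ⥤ AddCommGrpCat.{u}) (W : C) :=
  Functor.isPointwiseLeftKanExtensionOfIsLeftKanExtension (u.op.lan.obj M) (u.op.lanUnit.app M) (op W)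

theorem gen_map {W W' : C} (g : W' ⟶ W) (X : Idx u W) (m : M.obj X.left) :
    (u.op.lan.obj M).map g.op (gen M X m) =
      gen M (CostructuredArrow.mk (Y := X.left) (X.hom ≫ g.op) : Idx u W') m := by
  show (gen M X ≫ (u.op.lan.obj M).map g.op) m = _
  refine ConcreteCategory.congr_hom ?_ m
  show ((u.op.lanUnit.app M).app X.left ≫ (u.op.lan.obj M).map X.hom) ≫ _ =
    (u.op.lanUnit.app M).app X.left ≫ (u.op.lan.obj M).map (X.hom ≫ g.op)
  rw [Functor.map_comp, Category.assoc]

theorem gen_rel {W : C} {X Y : Idx u W} (f : X ⟶ Y) (m : M.obj X.left) :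
    gen M Y (M.map f.left m) = gen M X m := by
  show (M.map f.left ≫ gen M Y) m = _
  refine ConcreteCategory.congr_hom ?_ m
  exact ((Functor.LeftExtension.coconeAt (Functor.LeftExtension.mk (u.op.lan.obj M) (u.op.lanUnit.app M)) (op W)).w f)

theorem gen_natural {N : Dᵒᵖ ⥤ AddCommGrpCat.{u}} (α : M ⟶ N) {W : C} (X : Idx u W) (m : M.obj X.left) :
    (u.op.lan.map α).app (op W) (gen M X m) = gen N X (α.app X.left m) := by
  show (gen M X ≫ (u.op.lan.map α).app (op W)) m = (α.app X.left ≫ gen N X) m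
  refine ConcreteCategory.congr_hom ?_ m
  simp only [gen, Category.assoc, NatTrans.naturality]
  have h := congr_app (u.op.lanUnit.naturality α) X.left
  dsimp at h
  rw [← Category.assoc, ← Category.assoc]
  exact congrArg (· ≫ _) h.symm

include hu

/-- If a generator vanishes, then its section vanishes locally. -/
theorem exists_zero {W : C} (X : Idx u W) (m : M.obj X.left) (h : gen M X m = 0) :
    ∃ S ∈ J W, ∀ ⦃W' : C⦄ (g : W' ⟶ W), S g → ∃ (V : D) (b : W' ⟶ u.obj V) (q : V ⟶ X.left.unop),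
      g ≫ X.hom.unop = b ≫ u.map q ∧ M.map q.op m = 0 := by
  let N := nullSub (M := M) hu W
  let Q := AddCommGrpCat.of ((⨁ X : Idx u W, M.obj X.left) ⧸ N)
  let c : Cocone (CostructuredArrow.proj u.op (op W) ⋙ M) :=
    { pt := Q
      ι :=
        { app := fun Y => AddCommGrpCat.ofHom ((QuotientAddGroup.mk' N).comp
            (DirectSum.of (fun X : Idx u W => (M.obj X.left : Type u)) Y))
          naturality := fun Y Z f => by
            refine AddCommGrpCat.ext fun x => ?_
            exact (QuotientAddGroup.eq_iff_sub_mem (N := N)).2 (IsNull.rel hu f x) } }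
  have h₁ := (genIsColimit M W).fac c X
  have h₂ : (QuotientAddGroup.mk' N) (DirectSum.of (fun X : Idx u W => (M.obj X.left : Type u)) X m) = 0 := by
    have := ConcreteCategory.congr_hom h₁ m
    refine this.symm.trans ?_
    exact (congrArg _ h).trans (map_zero ((genIsColimit M W).desc c).hom)
  obtain ⟨S, hS, hS'⟩ := (QuotientAddGroup.eq_zero_iff _).1 h₂
  refine ⟨S, hS, fun W' g hg => ?_⟩
  obtain ⟨s, r, hs, hr⟩ := hS' g hg
  by_cases hX : X ∈ s
  · exact ⟨r.V, r.b, r.q X hX, r.hq X hX, (val_of r X hX m).symm.trans hr⟩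
  · obtain rfl : m = 0 := (DirectSum.of_eq_same (β := fun X : Idx u W => (M.obj X.left : Type u)) X m).symm.trans (hs X hX)
    exact ⟨X.left.unop, g ≫ X.hom.unop, 𝟙 _, by simp, map_zero _⟩

/-- Locally, every element is a generator. -/
theorem exists_gen {W : C} (x : (u.op.lan.obj M).obj (op W)) :
    ∃ S ∈ J W, ∀ ⦃W' : C⦄ (g : W' ⟶ W), S g → ∃ (X : Idx u W') (m : M.obj X.left),
      (u.op.lan.obj M).map g.op x = gen M X m := by
  let H : AddSubgroup ((u.op.lan.obj M).obj (op W)) :=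
    { carrier := {y | ∃ S ∈ J W, ∀ ⦃W' : C⦄ (g : W' ⟶ W), S g → ∃ (X : Idx u W') (m : M.obj X.left),
        (u.op.lan.obj M).map g.op y = gen M X m}
      zero_mem' := by
        obtain ⟨S, hS, hS'⟩ := hu.some W
        exact ⟨S, hS, fun W' g hg => let ⟨V, ⟨b⟩⟩ := hS' g hg;
          ⟨CostructuredArrow.mk (Y := op V) b.op, 0, (map_zero _).trans (map_zero _).symm⟩⟩
      neg_mem' := fun {y} hy => by
        obtain ⟨S, hS, hS'⟩ := hy
        exact ⟨S, hS, fun W' g hg => let ⟨X, m, hm⟩ := hS' g hg;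
          ⟨X, -m, ((map_neg _ y).trans (congrArg _ hm)).trans (map_neg _ m).symm⟩⟩
      add_mem' := fun {y z} hy hz => by
        obtain ⟨S, hS, hS'⟩ := hy
        obtain ⟨S', hSS, hSS'⟩ := hz
        refine PullFlat.exists_cover_bind _ (J.intersection_covering hS hSS) fun W₁ g hg => ?_
        obtain ⟨X, m, hm⟩ := hS' g hg.1
        obtain ⟨Y, n, hn⟩ := hSS' g hg.2
        obtain ⟨T, hT, hT'⟩ := hu.pair X.hom.unop Y.hom.unop
        refine ⟨T, hT, fun W₂ h hh => ?_⟩
        obtain ⟨V, q₁, q₂, b, h₁, h₂⟩ := hT' h hh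
        let Z : Idx u W₂ := CostructuredArrow.mk (Y := op V) b.op
        refine ⟨Z, M.map q₁.op m + M.map q₂.op n, ?_⟩
        let fX : (CostructuredArrow.mk (Y := X.left) (X.hom ≫ h.op) : Idx u W₂) ⟶ Z :=
          CostructuredArrow.homMk q₁.op (Quiver.Hom.unop_inj h₁.symm)
        let fY : (CostructuredArrow.mk (Y := Y.left) (Y.hom ≫ h.op) : Idx u W₂) ⟶ Z :=
          CostructuredArrow.homMk q₂.op (Quiver.Hom.unop_inj h₂.symm)
        rw [op_comp, Functor.map_comp, ConcreteCategory.comp_apply, map_add, map_add, hm, hn, gen_map, gen_map,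
          ← gen_rel fX, ← gen_rel fY, map_add]
        rfl }
  suffices hH : ∀ y, y ∈ H from hH x
  have hπ : AddCommGrpCat.ofHom (QuotientAddGroup.mk' H) =
      (0 : (u.op.lan.obj M).obj (op W) ⟶ AddCommGrpCat.of (_ ⧸ H)) :=
    (genIsColimit M W).hom_ext fun X => AddCommGrpCat.ext fun (m : M.obj X.left) => by
      refine (QuotientAddGroup.eq_zero_iff _).2 ⟨⊤, J.top_mem _, fun W' g _ =>
        ⟨(CostructuredArrow.mk (Y := X.left) (X.hom ≫ g.op) : Idx u W'), m, ?_⟩⟩
      exact gen_map g X m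
  exact fun y => (QuotientAddGroup.eq_zero_iff _).1 (ConcreteCategory.congr_hom hπ y)

theorem isLocallyInjective_lan_map {N : Dᵒᵖ ⥤ AddCommGrpCat.{u}} (α : M ⟶ N) [Mono α] :
    Presheaf.IsLocallyInjective J (u.op.lan.map α) := ⟨fun {W} x y hxy => by
  obtain ⟨S, hS, hS'⟩ := exists_gen hu (x - y)
  obtain ⟨S', hSS, hSS'⟩ : ∃ S' ∈ J W.unop, ∀ ⦃W' : C⦄ (g : W' ⟶ W.unop), S' g →
      (u.op.lan.obj M).map g.op (x - y) = 0 := by
    refine PullFlat.exists_cover_bind _ hS fun W₁ g hg => ?_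
    obtain ⟨X, m, hm⟩ := hS' g hg
    have h0 : gen N X (α.app X.left m) = 0 := by
      rw [← gen_natural, ← hm, NatTrans.naturality_apply, map_sub, hxy, sub_self, map_zero]
    obtain ⟨T, hT, hT'⟩ := exists_zero hu X _ h0
    refine ⟨T, hT, fun W₂ h hh => ?_⟩
    obtain ⟨V, b, q, hb, hq⟩ := hT' h hh
    have hq' : M.map q.op m = 0 := (AddCommGrpCat.mono_iff_injective _).1
      ((NatTrans.mono_iff_mono_app α).1 inferInstance (op V)) (by rw [NatTrans.naturality_apply, hq, map_zero])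
    let f : (CostructuredArrow.mk (Y := X.left) (X.hom ≫ h.op) : Idx u W₂) ⟶ CostructuredArrow.mk (Y := op V) b.op :=
      CostructuredArrow.homMk q.op (Quiver.Hom.unop_inj hb.symm)
    rw [op_comp, Functor.map_comp, ConcreteCategory.comp_apply, hm, gen_map, ← gen_rel f]
    exact (congrArg (gen M _) hq').trans (map_zero _)
  refine J.superset_covering ?_ hSS
  intro W' g hg
  exact sub_eq_zero.1 ((map_sub _ x y).symm.trans (hSS' g hg))⟩

theorem preservesFiniteLimits [u.IsContinuous K J] :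
    PreservesFiniteLimits (u.sheafPullback AddCommGrpCat.{u} K J) := by
  let F := Functor.sheafPullbackConstruction.sheafPullback u AddCommGrpCat.{u} K J
  let adj : F ⊣ u.sheafPushforwardContinuous AddCommGrpCat.{u} K J :=
    Functor.sheafPullbackConstruction.sheafAdjunctionContinuous u AddCommGrpCat.{u} K J
  have hm : ∀ {X Y : Sheaf K AddCommGrpCat.{u}} (f : X ⟶ Y) [Mono f], Mono (F.map f) := fun {X Y} f _ => by
    let β := u.op.lan.map ((sheafToPresheaf K AddCommGrpCat.{u}).map f)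
    have : Mono ((sheafToPresheaf K AddCommGrpCat.{u}).map f) := inferInstance
    have : Presheaf.IsLocallyInjective J β := isLocallyInjective_lan_map hu _
    have : Sheaf.IsLocallyInjective ((presheafToSheaf J AddCommGrpCat.{u}).map β) := by
      rwa [← Presheaf.isLocallyInjective_presheafToSheaf_map_iff] at this
    have : Sheaf.IsLocallyInjective (F.map f) := this
    exact Sheaf.mono_of_isLocallyInjective _
  have : F.PreservesMonomorphisms := ⟨fun f _ => hm f⟩
  have : PreservesColimitsOfSize.{0, 0} F := adj.leftAdjoint_preservesColimits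
  have : PreservesFiniteColimits F := ⟨fun J _ _ => inferInstance⟩
  have : F.Additive := adj.left_adjoint_additive
  have : PreservesFiniteLimits F := by
    rw [Functor.preservesFiniteLimits_iff_forall_exact_map_and_mono]
    intro X hX
    have := hX.mono_f
    exact ⟨(hX.exact.map_of_epi_of_preservesCokernel F hX.epi_g inferInstance), inferInstance⟩
  exact preservesFiniteLimits_of_natIso
    (Functor.sheafPullbackConstruction.sheafPullbackIso u AddCommGrpCat.{u} K J).symm

end Groth.Agent.SiteCoh.PullAb
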