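import Groth.Agent.SiteCoh.ConstSections
import Mathlib.CategoryTheory.Sites.Abelian
import Mathlib.Algebra.Category.Grp.Abelian
import Mathlib.CategoryTheory.Sites.SheafCohomology.Basic
import Mathlib.CategoryTheory.Sites.LeftExact
import Mathlib.Algebra.Category.Grp.FilteredColimits
import Mathlib.Algebra.Homology.DerivedCategory.Ext.ExactSequences

/-!
# Morphisms out of the constant sheaf `ℤ` are compatible families of sections
-/

set_option autoImplicit false

universe u

open CategoryTheory CategoryTheory.Limits Opposite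

namespace Groth.Agent.SiteCoh.GlobalSections

/-- A class which lifts is killed by the connecting class. -/
theorem mk₀_comp_g_comp_extClass {A : Type*} [Category A] [Abelian A] [HasExt.{u} A] {S : ShortComplex A}
    (hS : S.ShortExact) {X : A} (w : X ⟶ S.X₂) :
    (Abelian.Ext.mk₀ (w ≫ S.g)).comp hS.extClass (zero_add 1) = 0 := by
  rw [← Abelian.Ext.mk₀_comp_mk₀, Abelian.Ext.comp_assoc_of_second_deg_zero,
    ShortComplex.ShortExact.comp_extClass, Abelian.Ext.comp_zero]

variable {C : Type u} [SmallCategory C] (J : GrothendieckTopology C)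

/-- The constant sheaf `ℤ`. -/
noncomputable abbrev Z : Sheaf J AddCommGrpCat.{u} :=
  (constantSheaf J AddCommGrpCat.{u}).obj (AddCommGrpCat.of (ULift.{u} ℤ))

variable {J}

/-- The family of sections attached to a morphism out of `ℤ`. -/
noncomputable def sec {F : Sheaf J AddCommGrpCat.{u}} (y : Z J ⟶ F) (V : Cᵒᵖ) : F.obj.obj V :=
  (((sheafificationAdjunction J AddCommGrpCat.{u}).homEquiv _ F) y).app V (ULift.up 1)

theorem sec_map {F : Sheaf J AddCommGrpCat.{u}} (y : Z J ⟶ F) {V W : Cᵒᵖ} (g : V ⟶ W) :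
    F.obj.map g (sec y V) = sec y W :=
  (ConcreteCategory.congr_hom
    ((((sheafificationAdjunction J AddCommGrpCat.{u}).homEquiv _ F) y).naturality g) (ULift.up 1)).symm

theorem sec_comp {F G : Sheaf J AddCommGrpCat.{u}} (y : Z J ⟶ F) (f : F ⟶ G) (V : Cᵒᵖ) :
    sec (y ≫ f) V = f.hom.app V (sec y V) := by
  unfold sec
  erw [Adjunction.homEquiv_naturality_right]
  rfl

theorem ext_sec {F : Sheaf J AddCommGrpCat.{u}} {y y' : Z J ⟶ F} (h : ∀ V, sec y V = sec y' V) :
    y = y' := by
  apply ((sheafificationAdjunction J AddCommGrpCat.{u}).homEquiv _ F).injective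
  refine NatTrans.ext (funext fun V => AddCommGrpCat.hom_ext (AddMonoidHom.ext fun (n : ULift.{u} ℤ) => ?_))
  have hn : n = n.down • (ULift.up 1 : ULift.{u} ℤ) := by ext; simp
  rw [hn, map_zsmul, map_zsmul]
  exact congrArg _ (h V)

theorem exists_sec {F : Sheaf J AddCommGrpCat.{u}} (s : ∀ V, F.obj.obj V)
    (hs : ∀ {V W : Cᵒᵖ} (g : V ⟶ W), F.obj.map g (s V) = s W) : ∃ y : Z J ⟶ F, ∀ V, sec y V = s V := by
  let w : (Functor.const Cᵒᵖ).obj (AddCommGrpCat.of (ULift.{u} ℤ)) ⟶ F.obj :=
    { app := fun V => AddCommGrpCat.ofHom ((zmultiplesHom _ (s V)).comp AddEquiv.ulift.toAddMonoidHom)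
      naturality := fun V W g => by
        refine AddCommGrpCat.hom_ext (AddMonoidHom.ext fun (n : ULift.{u} ℤ) => ?_)
        show n.down • s W = F.obj.map g (n.down • s V)
        rw [map_zsmul, hs g] }
  refine ⟨((sheafificationAdjunction J AddCommGrpCat.{u}).homEquiv _ F).symm w, fun V => ?_⟩
  unfold sec
  rw [Equiv.apply_symm_apply]
  exact one_zsmul _

/-- A map with a section as sheaves of sets induces a surjection on `Hom(ℤ, -)`. -/
theorem exists_lift {F G : Sheaf J AddCommGrpCat.{u}} (g : F ⟶ G)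
    (τ : (sheafCompose J (forget AddCommGrpCat.{u})).obj G ⟶ (sheafCompose J (forget AddCommGrpCat.{u})).obj F)
    (hτ : τ ≫ (sheafCompose J (forget AddCommGrpCat.{u})).map g = 𝟙 _) (y : Z J ⟶ G) :
    ∃ w : Z J ⟶ F, w ≫ g = y := by
  obtain ⟨w, hw⟩ := exists_sec (F := F) (fun V => τ.hom.app V (sec y V)) (fun {V W} g' => by
    rw [← sec_map y g']
    exact (ConcreteCategory.congr_hom (τ.hom.naturality g') (sec y V)).symm)
  refine ⟨w, ext_sec fun V => ?_⟩
  rw [sec_comp, hw]
  exact ConcreteCategory.congr_hom (congr_app (congrArg (fun (m : (sheafCompose J (forget AddCommGrpCat.{u})).obj G ⟶ _) => m.hom) hτ) V) (sec y V)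

end Groth.Agent.SiteCoh.GlobalSections
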