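import Groth.Prelude.Def_CohSite
import Groth.Agent.SiteCoh.GlobalSections
import Mathlib.Algebra.Homology.DerivedCategory.Ext.EnoughInjectives
import Mathlib.CategoryTheory.Sites.PreservesSheafification
import Mathlib.CategoryTheory.Sites.LocallyBijective
import Mathlib.CategoryTheory.Sites.EpiMono

/-!
# Locally nonzero sections of `ℤ` act without torsion on `H¹` of a torsion-free constant sheaf
-/

set_option autoImplicit false

universe u

open CategoryTheory CategoryTheory.Limits Opposite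

namespace Groth.Agent.SiteCoh.NonzeroTorsion

variable {C : Type u} [SmallCategory C] {J : GrothendieckTopology C}

theorem eq_of_sieve (F : Sheaf J AddCommGrpCat.{u}) {V : C} {S : Sieve V} (hS : S ∈ J V)
    {s t : F.obj.obj (op V)} (h : ∀ ⦃W : C⦄ (f : W ⟶ V), S f → F.obj.map f.op s = F.obj.map f.op t) :
    s = t :=
  (((isSheaf_iff_isSheaf_of_type J _).1 ((sheafCompose J (forget AddCommGrpCat.{u})).obj F).property) S hS).isSeparatedFor.ext h

variable (J) in
/-- The constant sheaf on `A`. -/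
noncomputable abbrev K (A : AddCommGrpCat.{u}) : Sheaf J AddCommGrpCat.{u} :=
  (constantSheaf J AddCommGrpCat.{u}).obj A

variable (J) in
/-- The constant sections. -/
noncomputable def η (A : AddCommGrpCat.{u}) (V : Cᵒᵖ) : A ⟶ (K J A).obj.obj V :=
  (toSheafify J ((Functor.const Cᵒᵖ).obj A)).app V

theorem η_map (A : AddCommGrpCat.{u}) {V W : Cᵒᵖ} (g : V ⟶ W) (a : A) :
    (K J A).obj.map g (η J A V a) = η J A W a :=
  (ConcreteCategory.congr_hom ((toSheafify J ((Functor.const Cᵒᵖ).obj A)).naturality g) a).symm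

theorem locally_η (A : AddCommGrpCat.{u}) {V : C} (s : (K J A).obj.obj (op V)) :
    Presheaf.imageSieve (toSheafify J ((Functor.const Cᵒᵖ).obj A)) s ∈ J V :=
  Presheaf.imageSieve_mem J (toSheafify J ((Functor.const Cᵒᵖ).obj A)) s

theorem exists_setMap (A : AddCommGrpCat.{u}) (d : A → A) :
    ∃ D : ∀ V, (K J A).obj.obj V → (K J A).obj.obj V,
      (∀ {V W : Cᵒᵖ} (g : V ⟶ W) s, (K J A).obj.map g (D V s) = D W ((K J A).obj.map g s)) ∧
      ∀ V a, D V (η J A V a) = η J A V (d a) := by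
  let P := (Functor.const Cᵒᵖ).obj A
  let G := (sheafCompose J (forget AddCommGrpCat.{u})).obj (K J A)
  have hW : J.W (Functor.whiskerRight (toSheafify J P) (forget AddCommGrpCat.{u})) :=
    J.W_of_preservesSheafification _ _ (J.W_toSheafify P)
  let g : P ⋙ forget AddCommGrpCat.{u} ⟶ G.obj :=
    { app := fun V => ↾fun a => η J A V (d a)
      naturality := fun V W h => by
        ext a
        exact (η_map A h (d a)).symm }
  obtain ⟨D, hD⟩ := (hW G.obj G.property).2 g
  refine ⟨fun V s => D.app V s, fun {V W} h s => (ConcreteCategory.congr_hom (D.naturality h) s).symm, ?_⟩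
  intro V a
  exact ConcreteCategory.congr_hom (congr_app hD V) a

theorem exists_div (A : AddCommGrpCat.{u}) (n : ℤ) (hA : ∀ a : A, n • a = 0 → a = 0) :
    ∃ D : ∀ V, (K J A).obj.obj V → (K J A).obj.obj V,
      (∀ {V W : Cᵒᵖ} (g : V ⟶ W) s, (K J A).obj.map g (D V s) = D W ((K J A).obj.map g s)) ∧
      ∀ V s c, D V (s + n • c) = D V s + c := by
  let R := (zsmulAddGroupHom (α := A) n).range
  have hr : ∀ a : A, ∃ b : A, n • b = a - (QuotientAddGroup.mk a : A ⧸ R).out := fun a => by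
    obtain ⟨b, hb⟩ : a - (QuotientAddGroup.mk a : A ⧸ R).out ∈ R := by
      rw [← QuotientAddGroup.eq_zero_iff, QuotientAddGroup.mk_sub, QuotientAddGroup.out_eq', sub_self]
    exact ⟨b, hb⟩
  choose d hd using hr
  have hdc : ∀ a c : A, d (a + n • c) = d a + c := fun a c => by
    refine sub_eq_zero.1 (hA _ ?_)
    have hq : (QuotientAddGroup.mk (a + n • c) : A ⧸ R) = QuotientAddGroup.mk a := by
      rw [QuotientAddGroup.mk_add, (QuotientAddGroup.eq_zero_iff (n • c)).2 (AddMonoidHom.mem_range.2 ⟨c, rfl⟩), add_zero]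
    rw [zsmul_sub, zsmul_add, hd, hd, hq]
    abel
  obtain ⟨D, hD, hDη⟩ := exists_setMap (J := J) A d
  refine ⟨D, @hD, fun V s c => ?_⟩
  refine eq_of_sieve (V := V.unop) (K J A) (J.intersection_covering (locally_η A s) (locally_η A c)) ?_
  rintro W f ⟨⟨a, ha⟩, ⟨b, hb⟩⟩
  have ha' : η J A (op W) a = (K J A).obj.map f.op s := ha
  have hb' : η J A (op W) b = (K J A).obj.map f.op c := hb
  rw [hD, map_add, map_add, map_zsmul, hD, ← ha', ← hb', ← map_zsmul, ← map_add, hDη, hDη, hdc, map_add]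

theorem zsmul_injective {A : AddCommGrpCat.{u}} {n : ℤ} (hA : ∀ a : A, n • a = 0 → a = 0)
    (V : Cᵒᵖ) {s t : (K J A).obj.obj V} (h : n • s = n • t) : s = t := by
  refine eq_of_sieve (V := V.unop) (K J A) (J.intersection_covering (locally_η A s) (locally_η A t)) ?_
  rintro W f ⟨⟨a, ha⟩, ⟨b, hb⟩⟩
  have ha' : η J A (op W) a = (K J A).obj.map f.op s := ha
  have hb' : η J A (op W) b = (K J A).obj.map f.op t := hb
  rw [← ha', ← hb']
  have h' : η J A (op W) (n • a) = η J A (op W) (n • b) := by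
    rw [map_zsmul, map_zsmul, ha', hb', ← map_zsmul, ← map_zsmul, h]
  refine eq_of_sieve (K J A)
    (Presheaf.equalizerSieve_mem J (toSheafify J ((Functor.const Cᵒᵖ).obj A))
      (X := op W) (n • a : A) (n • b : A) h') ?_
  intro W' g hg
  rw [η_map, η_map]
  have hg' : n • a = n • b := hg
  rw [show a = b from sub_eq_zero.1 (hA _ (by rw [zsmul_sub, hg', sub_self]))]

/-- Where `ℤ` has torsion, every sheaf is trivial. -/
theorem eq_of_zsmul_sec {V : C} {m : ℤ} (hm : m ≠ 0)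
    (h : m • GlobalSections.sec (𝟙 (GlobalSections.Z J)) (op V) = 0)
    (F : Sheaf J AddCommGrpCat.{u}) (s t : F.obj.obj (op V)) : s = t := by
  let A := AddCommGrpCat.of (ULift.{u} ℤ)
  have he : GlobalSections.sec (𝟙 (GlobalSections.Z J)) (op V) = η J A (op V) (ULift.up 1) := by
    unfold GlobalSections.sec
    erw [Adjunction.homEquiv_unit, CategoryTheory.Functor.map_id, Category.comp_id]
    rfl
  rw [he, ← map_zsmul] at h
  refine eq_of_sieve F (Presheaf.equalizerSieve_mem J (toSheafify J ((Functor.const Cᵒᵖ).obj A))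
    (X := op V) (m • (ULift.up 1 : ULift.{u} ℤ)) (0 : ULift.{u} ℤ) (h.trans (map_zero _).symm)) ?_
  intro W f hf
  exfalso
  have hf' : m • (ULift.up 1 : ULift.{u} ℤ) = 0 := hf
  exact hm (by simpa using congrArg ULift.down hf')

variable {A : AddCommGrpCat.{u}} (φ : GlobalSections.Z J ⟶ GlobalSections.Z J)
  {ι : Type u} (U : ι → C) (n : ι → ℤ) (hn : ∀ i, n i ≠ 0)
  (hφ : ∀ (i : ι) (V : C) (_ : V ⟶ U i), φ.hom.app (op V) = n i • 𝟙 _)
  (hcov : ∀ V : C, ∃ R ∈ J V, ∀ ⦃W : C⦄ (g : W ⟶ V), R g → ∃ i, Nonempty (W ⟶ U i))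
  (hA : ∀ (m : ℤ) (a : A), m ≠ 0 → m • a = 0 → a = 0)

include hn hφ hcov hA in
/-- A global section of a quotient by a torsion-free constant sheaf lifts if its `φ`-multiple does. -/
theorem exists_lift_of_comp (S : ShortComplex (Sheaf J AddCommGrpCat.{u})) (hS : S.ShortExact)
    (e : S.X₁ = K J A) (y : GlobalSections.Z J ⟶ S.X₃) (z : GlobalSections.Z J ⟶ S.X₂)
    (hz : z ≫ S.g = φ ≫ y) : ∃ w : GlobalSections.Z J ⟶ S.X₂, w ≫ S.g = y := by
  obtain @⟨X₁, X₂, X₃, f, p, w₀⟩ := S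
  dsimp at e y z hz ⊢
  subst e
  let Γ := GlobalSections.sec (J := J) (𝟙 _)
  choose D₀ hD₀ hDc₀ using fun m : {m : ℤ // m ≠ 0} => exists_div (J := J) A m.1 (fun a => hA m.1 a m.2)
  let D := fun i => D₀ ⟨n i, hn i⟩
  have hD := fun i {V W : Cᵒᵖ} (g : V ⟶ W) s => hD₀ ⟨n i, hn i⟩ g s
  have hDc := fun i V s c => hDc₀ ⟨n i, hn i⟩ V s c
  have hf : ∀ V, Function.Injective (f.hom.app V) := fun V => by
    have := hS.mono_f
    exact (AddCommGrpCat.mono_iff_injective _).1
      (inferInstanceAs (Mono ((sheafToPresheaf J AddCommGrpCat.{u} ⋙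
        (evaluation Cᵒᵖ AddCommGrpCat.{u}).obj V).map f)))
  have hker : ∀ V (s : X₂.obj.obj V), p.hom.app V s = 0 → ∃ a, f.hom.app V a = s := fun V => by
    let Ev := sheafToPresheaf J AddCommGrpCat.{u} ⋙ (evaluation Cᵒᵖ AddCommGrpCat.{u}).obj V
    have := hS.mono_f
    have h : (ShortComplex.mk (Ev.map f) (Ev.map p) (by rw [← Functor.map_comp, w₀, Functor.map_zero])).Exact :=
      ShortComplex.exact_of_f_is_kernel _ (KernelFork.mapIsLimit _ hS.fIsKernel Ev)
    exact (ShortComplex.ab_exact_iff _).1 h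
  have hlin : ∀ (i : ι) (V : C) (_ : V ⟶ U i),
      p.hom.app (op V) (GlobalSections.sec z (op V)) = n i • GlobalSections.sec y (op V) := fun i V g => by
    rw [← GlobalSections.sec_comp, hz, show φ ≫ y = 𝟙 _ ≫ φ ≫ y from (Category.id_comp _).symm,
      GlobalSections.sec_comp]
    show y.hom.app (op V) (φ.hom.app (op V) (Γ (op V))) = _
    rw [hφ i V g]
    show y.hom.app (op V) (n i • Γ (op V)) = _
    rw [map_zsmul, ← GlobalSections.sec_comp, Category.id_comp]
  let P : ∀ W : C, X₂.obj.obj (op W) → Prop := fun W s =>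
    ∃ (i : ι) (_ : W ⟶ U i) (w : X₂.obj.obj (op W)) (b : (K J A).obj.obj (op W)),
      p.hom.app (op W) w = GlobalSections.sec y (op W) ∧
      f.hom.app (op W) b = n i • w - GlobalSections.sec z (op W) ∧ s = w - f.hom.app (op W) (D i (op W) b)
  have hP : ∀ {W W' : C} (g : W' ⟶ W) s, P W s → P W' (X₂.obj.map g.op s) := by
    rintro W W' g s ⟨i, h, w, b, hw, hb, rfl⟩
    refine ⟨i, g ≫ h, X₂.obj.map g.op w, (K J A).obj.map g.op b, ?_, ?_, ?_⟩
    · rw [NatTrans.naturality_apply p.hom, hw, GlobalSections.sec_map]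
    · rw [NatTrans.naturality_apply f.hom, hb, map_sub, map_zsmul, GlobalSections.sec_map]
    · rw [map_sub, ← NatTrans.naturality_apply f.hom, hD]
  have huniq : ∀ {W : C} s s', P W s → P W s' → s = s' := by
    rintro W s s' ⟨i, h, w, b, hw, hb, rfl⟩ ⟨j, h', w', b', hw', hb', rfl⟩
    by_cases hij : n i = n j
    · obtain ⟨c, hc⟩ := hker (op W) (w' - w) (by rw [map_sub, hw, hw', sub_self])
      have hbb : b' = b + n j • c := hf _ (by rw [map_add, map_zsmul, hb, hb', hc, hij, zsmul_sub]; abel)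
      have hb₂ : b' = b + n i • c := by rw [hij]; exact hbb
      have hDij : D i = D j := congrArg D₀ (Subtype.ext hij)
      rw [← hDij, hb₂]
      show _ = _ - f.hom.app (op W) (D₀ _ (op W) (b + n i • c))
      rw [hDc i, map_add, hc]
      abel
    · refine eq_of_zsmul_sec (sub_ne_zero.2 hij) ?_ _ _ _
      have h1 := ConcreteCategory.congr_hom (hφ i W h) (Γ (op W))
      have h2 := ConcreteCategory.congr_hom (hφ j W h') (Γ (op W))
      rw [sub_zsmul, ← sub_eq_add_neg, sub_eq_zero]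
      exact h1.symm.trans h2
  have hex : ∀ V : C, ∃ T ∈ J V, ∀ ⦃W : C⦄ (g : W ⟶ V), T g → ∃ s, P W s := fun V => by
    obtain ⟨R, hR, hRi⟩ := hcov V
    have := hS.epi_g
    have : Sheaf.IsLocallySurjective p := (Sheaf.isLocallySurjective_iff_epi' _ _).2 inferInstance
    refine ⟨R ⊓ Presheaf.imageSieve p.hom (GlobalSections.sec y (op V)),
      J.intersection_covering hR (Presheaf.imageSieve_mem J p.hom _), ?_⟩
    rintro W g ⟨hg, w, hw⟩
    obtain ⟨i, ⟨h⟩⟩ := hRi g hg
    replace hw : p.hom.app (op W) w = GlobalSections.sec y (op W) := hw.trans (GlobalSections.sec_map y g.op)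
    obtain ⟨b, hb⟩ := hker (op W) (n i • w - GlobalSections.sec z (op W))
      (by rw [map_sub, map_zsmul, hw, hlin i W h, sub_self])
    exact ⟨_, i, h, w, b, hw, hb, rfl⟩
  choose T hT hTP using hex
  choose s hs using hTP
  have glue : ∀ V : C, ∃ t : X₂.obj.obj (op V), ∀ ⦃W : C⦄ (g : W ⟶ V) (hg : T V g), X₂.obj.map g.op t = s V g hg := fun V => by
    have H := ((isSheaf_iff_isSheaf_of_type J _).1
      ((sheafCompose J (forget AddCommGrpCat.{u})).obj X₂).property) (T V) (hT V)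
    let x : Presieve.FamilyOfElements (X₂.obj ⋙ forget AddCommGrpCat.{u}) (T V).arrows := fun W g hg => s V g hg
    have hx : x.Compatible := fun W₁ W₂ Z g₁ g₂ f₁ f₂ h₁ h₂ _ =>
      huniq _ _ (hP g₁ _ (hs V f₁ h₁)) (hP g₂ _ (hs V f₂ h₂))
    exact ⟨H.amalgamate x hx, fun W g hg => H.valid_glue hx g hg⟩
  choose t ht using glue
  obtain ⟨w, hw⟩ := GlobalSections.exists_sec (F := X₂) (fun V => t V.unop) (fun {V W} g => by
    refine eq_of_sieve X₂ (J.intersection_covering (hT W.unop)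
      (J.pullback_stable g.unop (hT V.unop))) ?_
    rintro Z f ⟨h₁, h₂⟩
    rw [ht W.unop f h₁, ← ConcreteCategory.comp_apply, ← Functor.map_comp]
    exact (ht V.unop (f ≫ g.unop) h₂).trans (huniq _ _ (hs V.unop _ h₂) (hs W.unop _ h₁)))
  refine ⟨w, GlobalSections.ext_sec fun V => ?_⟩
  rw [GlobalSections.sec_comp, hw]
  refine eq_of_sieve X₃ (hT V.unop) fun W g hg => ?_
  rw [← NatTrans.naturality_apply p.hom, ht V.unop g hg, GlobalSections.sec_map]
  obtain ⟨i, h, w', b, hw', -, hse⟩ := hs V.unop g hg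
  rw [hse, map_sub, hw', ← ConcreteCategory.comp_apply, ← NatTrans.comp_app]
  have := congrArg (fun m : K J A ⟶ X₃ => m.hom.app (op W) (D i (op W) b)) w₀
  exact sub_eq_self.2 this

theorem comp_eq_zero_imp {B : Type*} [Category B] [Abelian B] [HasExt.{u} B] {S : ShortComplex B} (hS : S.ShortExact)
    [Injective S.X₂] {X : B} (φ : X ⟶ X)
    (lift : ∀ (y : X ⟶ S.X₃) (z : X ⟶ S.X₂), z ≫ S.g = φ ≫ y → ∃ w : X ⟶ S.X₂, w ≫ S.g = y)
    (x : Abelian.Ext X S.X₁ 1) (hx : (Abelian.Ext.mk₀ φ).comp x (zero_add 1) = 0) : x = 0 := by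
  obtain ⟨x₃, rfl⟩ := Abelian.Ext.covariant_sequence_exact₁ _ hS x (Abelian.Ext.eq_zero_of_injective _) (zero_add 1)
  obtain ⟨y, rfl⟩ := (Abelian.Ext.mk₀_bijective _ _).2 x₃
  rw [← Abelian.Ext.comp_assoc_of_second_deg_zero, Abelian.Ext.mk₀_comp_mk₀] at hx
  obtain ⟨x₂, hx₂⟩ := Abelian.Ext.covariant_sequence_exact₃ _ hS _ (zero_add 1) hx
  obtain ⟨z, rfl⟩ := (Abelian.Ext.mk₀_bijective _ _).2 x₂
  rw [Abelian.Ext.mk₀_comp_mk₀] at hx₂
  obtain ⟨w, rfl⟩ := lift y z ((Abelian.Ext.mk₀_bijective _ _).1 hx₂)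
  exact GlobalSections.mk₀_comp_g_comp_extClass hS w

include hn hφ hcov hA in
/-- `H¹` of a torsion-free constant sheaf has no torsion for locally nonzero sections of `ℤ`. -/
theorem eq_zero_of_comp_eq_zero (S : ShortComplex (Sheaf J AddCommGrpCat.{u})) (hS : S.ShortExact)
    (e : S.X₁ = K J A) (hI : Injective S.X₂)
    (x : Abelian.Ext (GlobalSections.Z J) S.X₁ 1)
    (hx : (Abelian.Ext.mk₀ φ).comp x (zero_add 1) = 0) : x = 0 :=
  comp_eq_zero_imp hS φ (exists_lift_of_comp φ U n hn hφ hcov hA S hS e) x hx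

end Groth.Agent.SiteCoh.NonzeroTorsion
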