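import Mathlib.CategoryTheory.Sites.Over
import Mathlib.CategoryTheory.Sites.CoverLifting
import Mathlib.CategoryTheory.Adjunction.Triple
import Mathlib.CategoryTheory.Sites.Pullback

/-!
# Restriction to a subterminal object of a site
-/

set_option autoImplicit false

universe w v u w'

open CategoryTheory CategoryTheory.Limits Opposite

namespace Groth.Agent.SiteCoh.SubTerminal

variable {C : Type u} [Category.{v} C] (J : GrothendieckTopology C) (U : C) (A : Type w') [Category A]

theorem full_forget (hU : ∀ V : C, Subsingleton (V ⟶ U)) : (Over.forget U).Full where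
  map_surjective {X Y} g := ⟨Over.homMk g (@Subsingleton.elim _ (hU X.left) _ _), rfl⟩

theorem isIso_unit (hU : ∀ V : C, Subsingleton (V ⟶ U))
    [∀ F : (Over U)ᵒᵖ ⥤ A, (Over.forget U).op.HasPointwiseRightKanExtension F]
    [(Functor.sheafPushforwardContinuous (Over.forget U) A (J.over U) J).IsRightAdjoint] :
    IsIso ((Over.forget U).sheafAdjunctionContinuous A (J.over U) J).unit := by
  have := full_forget U hU
  let t : Adjunction.Triple _ _ _ :=
    ⟨(Over.forget U).sheafAdjunctionContinuous A (J.over U) J,
      (Over.forget U).sheafAdjunctionCocontinuous A (J.over U) J⟩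
  have h : ((Over.forget U).sheafPushforwardCocontinuous A (J.over U) J).FullyFaithful := by
    have hr : ((Over.forget U).op.ran (H := A)).FullyFaithful :=
      ((Over.forget U).op.ranAdjunction A).fullyFaithfulROfIsIsoCounit
    exact Functor.FullyFaithful.ofCompFaithful
      (G := sheafToPresheaf J A) ((fullyFaithfulSheafToPresheaf _ A).comp hr)
  have := h.full
  have := h.faithful
  have h2 : IsIso t.adj₂.counit := inferInstance
  exact t.isIso_unit_iff_isIso_counit.2 h2

end Groth.Agent.SiteCoh.SubTerminal
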