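import Groth.Prelude.Def_CohCx
import Mathlib.AlgebraicTopology.SimplicialObject.ChainHomotopy

/-!
# Refinement maps of Cech complexes are homotopic
-/

set_option autoImplicit false

universe w v u

open CategoryTheory CategoryTheory.Limits Opposite Simplicial

namespace Groth.Agent.SiteCoh.CechHtpy

variable {C : Type u} [Category.{v} C] [HasFiniteProducts C] {U V : FormalCoproduct.{w} C}

/-- The index read by position `a` of the `k`-th homotopy map. -/
def idx {n : ℕ} (k : Fin (n + 1)) (a : Fin (n + 2)) : Fin (n + 1) :=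
  if h : a.val ≤ k.val then ⟨a.val, by omega⟩ else ⟨a.val - 1, by omega⟩

theorem val_idx {n : ℕ} (k : Fin (n + 1)) (a : Fin (n + 2)) :
    (idx k a).val = if a.val ≤ k.val then a.val else a.val - 1 := by
  rw [idx]
  split_ifs <;> rfl

theorem val_succAbove {n : ℕ} (i : Fin (n + 1)) (a : Fin n) :
    (i.succAbove a).val = if a.val < i.val then a.val else a.val + 1 := by
  simp only [Fin.succAbove, Fin.lt_def, Fin.val_castSucc]
  split_ifs <;> rfl

theorem val_predAbove {n : ℕ} (i : Fin n) (a : Fin (n + 1)) :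
    (i.predAbove a).val = if i.val < a.val then a.val - 1 else a.val := by
  simp only [Fin.predAbove, Fin.lt_def, Fin.val_castSucc]
  split_ifs <;> rfl

variable (f g : U ⟶ V)

/-- The `k`-th homotopy map. -/
noncomputable def hmap {n : ℕ} (k : Fin (n + 1)) : U.cech.obj (op ⦋n⦌) ⟶ V.cech.obj (op ⦋n + 1⦌) :=
  (FormalCoproduct.isLimitPowerFan V (Fin (n + 2))).lift
    (Fan.mk _ fun a => U.powerπ (idx k a) ≫ if a.val ≤ k.val then f else g)

theorem hmap_π {n : ℕ} (k : Fin (n + 1)) (a : Fin (n + 2)) :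
    hmap f g k ≫ V.powerπ a = U.powerπ (idx k a) ≫ if a.val ≤ k.val then f else g :=
  (FormalCoproduct.isLimitPowerFan V (Fin (n + 2))).fac _ ⟨a⟩

theorem mapPower_π' {W : FormalCoproduct.{w} C} {n m : ℕ} (φ : ⦋n⦌ ⟶ ⦋m⦌) (a : Fin (n + 1)) :
    W.cech.map φ.op ≫ W.powerπ a = W.powerπ (φ.toOrderHom a) :=
  FormalCoproduct.mapPower_π W _ a

theorem hmap_δ_π {n : ℕ} (k : Fin (n + 1)) (i : Fin (n + 2)) (a : Fin (n + 1)) :
    (hmap f g k ≫ SimplicialObject.δ V.cech i) ≫ V.powerπ a =
      U.powerπ (idx k (i.succAbove a)) ≫ if (i.succAbove a).val ≤ k.val then f else g :=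
  (Category.assoc _ _ _).trans ((congrArg (hmap f g k ≫ ·) (mapPower_π' (SimplexCategory.δ i) a)).trans
    (hmap_π f g k _))

theorem hmap_σ_π {n : ℕ} (k : Fin (n + 1)) (i : Fin (n + 2)) (a : Fin (n + 3)) :
    (hmap f g k ≫ SimplicialObject.σ V.cech i) ≫ V.powerπ a =
      U.powerπ (idx k (i.predAbove a)) ≫ if (i.predAbove a).val ≤ k.val then f else g :=
  (Category.assoc _ _ _).trans ((congrArg (hmap f g k ≫ ·) (mapPower_π' (SimplexCategory.σ i) a)).trans
    (hmap_π f g k _))

theorem δ_hmap_π {n : ℕ} (k : Fin (n + 1)) (i : Fin (n + 2)) (a : Fin (n + 2)) :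
    (SimplicialObject.δ U.cech i ≫ hmap f g k) ≫ V.powerπ a =
      U.powerπ (i.succAbove (idx k a)) ≫ if a.val ≤ k.val then f else g :=
  (Category.assoc _ _ _).trans ((congrArg (SimplicialObject.δ U.cech i ≫ ·) (hmap_π f g k a)).trans
    ((Category.assoc _ _ _).symm.trans (congrArg (· ≫ _) (mapPower_π' (SimplexCategory.δ i) _))))

theorem σ_hmap_π {n : ℕ} (k : Fin (n + 2)) (i : Fin (n + 1)) (a : Fin (n + 3)) :
    (SimplicialObject.σ U.cech i ≫ hmap f g k) ≫ V.powerπ a =
      U.powerπ (i.predAbove (idx k a)) ≫ if a.val ≤ k.val then f else g :=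
  (Category.assoc _ _ _).trans ((congrArg (SimplicialObject.σ U.cech i ≫ ·) (hmap_π f g k a)).trans
    ((Category.assoc _ _ _).symm.trans (congrArg (· ≫ _) (mapPower_π' (SimplexCategory.σ i) _))))

theorem term_congr {n : ℕ} {b b' : Fin (n + 1)} {p p' : Prop} [Decidable p] [Decidable p'] (hb : b.val = b'.val)
    (hp : p ↔ p') :
    U.powerπ b ≫ (if p then f else g) = U.powerπ b' ≫ (if p' then f else g) := by
  rw [Fin.ext hb]
  simp only [hp]

theorem powerMap_π (e : U ⟶ V) (α : Type) [HasProductsOfShape α C] (a : α) :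
    FormalCoproduct.powerMap e α ≫ V.powerπ a = U.powerπ a ≫ e := by
  refine FormalCoproduct.hom_ext rfl fun i => ?_
  refine (Category.comp_id _).trans ?_
  show Limits.Pi.map (fun b => e.φ (i b)) ≫ Pi.π (V.obj ∘ (e.f ∘ i)) a = Pi.π (U.obj ∘ i) a ≫ e.φ (i a)
  exact Pi.map_π (fun b => e.φ (i b)) a

theorem app_π (e : U ⟶ V) (n : ℕ) (a : Fin (n + 1)) :
    (FormalCoproduct.cechFunctor.map e).app (op ⦋n⦌) ≫ V.powerπ a = U.powerπ a ≫ e :=
  powerMap_π e _ a

theorem ext' {n : ℕ} {W : FormalCoproduct.{w} C} {p q : W ⟶ V.cech.obj (op ⦋n⦌)}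
    (h : ∀ a : Fin (n + 1), p ≫ V.powerπ a = q ≫ V.powerπ a) : p = q :=
  (FormalCoproduct.isLimitPowerFan V (Fin (n + 1))).hom_ext fun ⟨a⟩ => h a

/-- The simplicial homotopy between the maps of Cech objects. -/
noncomputable def homotopy :
    SimplicialObject.Homotopy (FormalCoproduct.cechFunctor.map f) (FormalCoproduct.cechFunctor.map g) where
  h k := hmap f g k
  h_zero_comp_δ_zero n := ext' fun a => by
    refine (hmap_δ_π f g _ _ a).trans ((Eq.trans ?_ (app_π g n a).symm))
    rw [if_neg (by simp)]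
    congr 2
  h_last_comp_δ_last n := ext' fun a => by
    refine (hmap_δ_π f g _ _ a).trans ((Eq.trans ?_ (app_π f n a).symm))
    rw [if_pos (by simp; omega)]
    congr 2
    ext
    simp only [val_idx, val_succAbove, Fin.val_last]
    split_ifs <;> omega
  h_succ_comp_δ_castSucc_of_lt i j hij := ext' fun a => by
    refine (hmap_δ_π f g _ _ a).trans (Eq.trans ?_ (δ_hmap_π f g _ _ a).symm)
    simp only [Fin.le_def, Fin.val_castSucc] at hij
    refine term_congr f g ?_ ?_ <;>
      (simp only [val_idx, val_succAbove, val_predAbove, Fin.val_succ, Fin.val_castSucc]; split_ifs <;> omega)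
  h_succ_comp_δ_castSucc_succ j := ext' fun a => by
    refine (hmap_δ_π f g _ _ a).trans (Eq.trans ?_ (hmap_δ_π f g _ _ a).symm)
    refine term_congr f g ?_ ?_ <;>
      (simp only [val_idx, val_succAbove, val_predAbove, Fin.val_succ, Fin.val_castSucc]; split_ifs <;> omega)
  h_castSucc_comp_δ_succ_of_lt i j hji := ext' fun a => by
    refine (hmap_δ_π f g _ _ a).trans (Eq.trans ?_ (δ_hmap_π f g _ _ a).symm)
    simp only [Fin.lt_def, Fin.val_castSucc] at hji
    refine term_congr f g ?_ ?_ <;>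
      (simp only [val_idx, val_succAbove, val_predAbove, Fin.val_succ, Fin.val_castSucc]; split_ifs <;> omega)
  h_comp_σ_castSucc_of_le i j hij := ext' fun a => by
    refine (hmap_σ_π f g _ _ a).trans (Eq.trans ?_ (σ_hmap_π f g _ _ a).symm)
    simp only [Fin.le_def] at hij
    refine term_congr f g ?_ ?_ <;>
      (simp only [val_idx, val_succAbove, val_predAbove, Fin.val_succ, Fin.val_castSucc]; split_ifs <;> omega)
  h_comp_σ_succ_of_lt i j hji := ext' fun a => by
    refine (hmap_σ_π f g _ _ a).trans (Eq.trans ?_ (σ_hmap_π f g _ _ a).symm)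
    simp only [Fin.le_def] at hji
    refine term_congr f g ?_ ?_ <;>
      (simp only [val_idx, val_succAbove, val_predAbove, Fin.val_succ, Fin.val_castSucc]; split_ifs <;> omega)

end Groth.Agent.SiteCoh.CechHtpy

namespace Groth.Agent.SiteCoh.CechHtpy

open AlgebraicTopology

variable {A : Type u} [Category.{v} A] [Preadditive A] [CategoryWithHomology A]
  {D : Type*} [Category D] (G : Dᵒᵖ ⥤ A) {X Y : SimplicialObject D} {φ ψ : X ⟶ Y}

theorem d_eq (Z : SimplicialObject D) (k : ℕ) :
    ((alternatingCofaceMapComplex A).obj (Functor.rightOp Z ⋙ G)).d k (k + 1) =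
      (((alternatingFaceMapComplex Aᵒᵖ).obj (((SimplicialObject.whiskering D Aᵒᵖ).obj G.rightOp).obj Z)).d (k + 1) k).unop := by
  rw [alternatingFaceMapComplex_obj_d]
  refine (CochainComplex.of_d (fun n => (Functor.rightOp Z ⋙ G).obj ⦋n⦌) _ _).trans ?_
  simp only [AlternatingCofaceMapComplex.objD, AlternatingFaceMapComplex.objD, unop_sum, unop_zsmul]
  rfl

/-- A simplicial homotopy gives equal maps on the homology of the alternating coface complexes. -/
theorem homologyMap_eq (H : SimplicialObject.Homotopy φ ψ) (n : ℕ) :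
    HomologicalComplex.homologyMap
        ((alternatingCofaceMapComplex A).map (Functor.whiskerRight (NatTrans.rightOp φ) G)) n =
      HomologicalComplex.homologyMap
        ((alternatingCofaceMapComplex A).map (Functor.whiskerRight (NatTrans.rightOp ψ) G)) n := by
  let ch := (H.whiskerRight G.rightOp).toChainHomotopy
  let F₁ := (alternatingCofaceMapComplex A).map (Functor.whiskerRight (NatTrans.rightOp φ) G)
  let F₂ := (alternatingCofaceMapComplex A).map (Functor.whiskerRight (NatTrans.rightOp ψ) G)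
  refine Homotopy.homologyMap_eq (f := F₁) (g := F₂)
    { hom := fun i j => (ch.hom j i).unop
      zero := fun i j hij => by rw [ch.zero j i hij]; rfl
      comm := fun i => ?_ } n
  have h := congrArg Quiver.Hom.unop (ch.comm i)
  cases i with
  | zero =>
    rw [dNext_eq (i' := 1) (w := by simp), prevD_eq_zero _ _ (by simp), add_zero]
    rw [prevD_eq (j' := 1) (w := by simp), dNext_eq_zero _ _ (by simp), zero_add] at h
    refine h.trans ?_
    rw [unop_add, unop_comp, d_eq]
    rfl
  | succ i =>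
    rw [dNext_eq (i' := i + 2) (w := by simp), prevD_eq (j' := i) (w := by simp)]
    rw [dNext_eq (i' := i) (w := by simp), prevD_eq (j' := i + 2) (w := by simp)] at h
    refine h.trans ?_
    rw [unop_add, unop_add, unop_comp, unop_comp, add_comm ((ch.hom i (i + 1)).unop ≫ _), d_eq, d_eq]
    rfl

end Groth.Agent.SiteCoh.CechHtpy
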