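import Groth.Agent.SiteCoh.AbColim

/-!
# `Ext(M'', -)` commutes with filtered colimits if `Ext(M', -)` and `Ext(M, -)` do
-/

set_option autoImplicit false
open CategoryTheory CategoryTheory.Limits CategoryTheory.Abelian Opposite
universe u v

namespace Groth.Agent.SiteCoh.ColimFive

open AbColim

variable {A : Type v} [Category.{u} A] [Abelian A] {I : Type u} [SmallCategory I] [IsFiltered I]
  [HasColimitsOfShape I A] [HasExt.{u} A]

omit [IsFiltered I] [HasColimitsOfShape I A] in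
/-- A class of the quotient killed by the projection comes from the subobject. -/
theorem exists_delta {S : ShortComplex A} (hS : S.ShortExact) {Y : A} {q : ℕ} (x : Ext S.X₃ Y q)
    (hx : (Ext.mk₀ S.g).comp x (zero_add q) = 0) :
    x = 0 ∨ ∃ (p : ℕ) (hp : 1 + p = q) (w : Ext S.X₁ Y p), hS.extClass.comp w hp = x := by
  cases q with
  | zero =>
    left
    obtain ⟨a, rfl⟩ := (Ext.mk₀_bijective _ _).2 x
    rw [Ext.mk₀_comp_mk₀, Ext.mk₀_eq_zero_iff] at hx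
    have := hS.epi_g
    rw [Ext.mk₀_eq_zero_iff, ← cancel_epi S.g, hx, comp_zero]
  | succ p => exact Or.inr ⟨p, Nat.add_comm 1 p, Ext.contravariant_sequence_exact₃ hS Y x hx _⟩

theorem stage_X₃ {S : ShortComplex A} (hS : S.ShortExact) (D : I ⥤ A)
    (h₁ : ∀ q, LiftsExt S.X₁ q D ∧ VanishesExt S.X₁ q D)
    (h₂ : ∀ q, LiftsExt S.X₂ q D ∧ VanishesExt S.X₂ q D) (q : ℕ) :
    LiftsExt S.X₃ q D ∧ VanishesExt S.X₃ q D := by
  have c₁ : ∀ {X X' Y Y' : A} (a : X ⟶ X') (y : Ext X' Y q) (b : Y ⟶ Y'),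
      (Ext.mk₀ a).comp (y.comp (Ext.mk₀ b) (add_zero q)) (zero_add q) =
        ((Ext.mk₀ a).comp y (zero_add q)).comp (Ext.mk₀ b) (add_zero q) := fun a y b =>
    (Ext.comp_assoc_of_third_deg_zero _ _ _ _).symm
  refine ⟨fun x => ?_, fun i y hy => ?_⟩
  · obtain ⟨i, y, hy⟩ := (h₂ q).1 ((Ext.mk₀ S.g).comp x (zero_add q))
    have hU : ((Ext.mk₀ S.f).comp y (zero_add q)).comp (Ext.mk₀ (colimit.ι D i)) (add_zero q) = 0 := by
      rw [← c₁, hy, Ext.mk₀_comp_mk₀_assoc, S.zero, Ext.mk₀_zero, Ext.zero_comp]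
    obtain ⟨j, φ, hφ⟩ := (h₁ q).2 i _ hU
    obtain ⟨y', hy'⟩ := Ext.contravariant_sequence_exact₂ hS _
      (y.comp (Ext.mk₀ (D.map φ)) (add_zero q)) (by rw [c₁, hφ])
    have hd : (Ext.mk₀ S.g).comp (x - y'.comp (Ext.mk₀ (colimit.ι D j)) (add_zero q)) (zero_add q) = 0 := by
      rw [sub_eq_add_neg, Ext.comp_add, Ext.comp_neg, c₁, hy', Ext.comp_assoc_of_third_deg_zero,
        Ext.mk₀_comp_mk₀, colimit.w, hy, add_neg_cancel]
    obtain hd | ⟨p, hp, w, hw⟩ := exists_delta hS _ hd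
    · exact ⟨j, y', (sub_eq_zero.1 hd).symm⟩
    · obtain ⟨k, w', rfl⟩ := (h₁ p).1 w
      refine ⟨IsFiltered.max j k, y'.comp (Ext.mk₀ (D.map (IsFiltered.leftToMax j k))) (add_zero q) +
        hS.extClass.comp (w'.comp (Ext.mk₀ (D.map (IsFiltered.rightToMax j k))) (add_zero p)) hp, ?_⟩
      rw [Ext.add_comp, Ext.comp_assoc_of_third_deg_zero, Ext.comp_assoc_of_third_deg_zero,
        Ext.comp_assoc_of_third_deg_zero, Ext.mk₀_comp_mk₀, Ext.mk₀_comp_mk₀, colimit.w, colimit.w,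
        hw]
      abel
  · have hU : ((Ext.mk₀ S.g).comp y (zero_add q)).comp (Ext.mk₀ (colimit.ι D i)) (add_zero q) = 0 := by
      rw [← c₁, hy, Ext.comp_zero]
    obtain ⟨j, φ, hφ⟩ := (h₂ q).2 i _ hU
    obtain hd | ⟨p, hp, w, hw⟩ := exists_delta hS (y.comp (Ext.mk₀ (D.map φ)) (add_zero q))
      (by rw [c₁, hφ])
    · exact ⟨j, φ, hd⟩
    · have hw0 : hS.extClass.comp (w.comp (Ext.mk₀ (colimit.ι D j)) (add_zero p)) hp = 0 := by
        rw [← Ext.comp_assoc_of_third_deg_zero hS.extClass w (Ext.mk₀ (colimit.ι D j)) hp, hw,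
          Ext.comp_assoc_of_third_deg_zero, Ext.mk₀_comp_mk₀, colimit.w, hy]
      obtain ⟨z, hz⟩ := Ext.contravariant_sequence_exact₁ hS _ _ hp hw0
      obtain ⟨k, z', rfl⟩ := (h₂ p).1 z
      let α := IsFiltered.leftToMax j k
      let β := IsFiltered.rightToMax j k
      let d := w.comp (Ext.mk₀ (D.map α)) (add_zero p) -
        ((Ext.mk₀ S.f).comp z' (zero_add p)).comp (Ext.mk₀ (D.map β)) (add_zero p)
      obtain ⟨l, ψ, hψ⟩ := (h₁ p).2 _ d (by
        simp only [d, sub_comp, Ext.comp_assoc_of_third_deg_zero, Ext.mk₀_comp_mk₀, colimit.w,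
          sub_eq_zero]
        rw [← Ext.comp_assoc_of_third_deg_zero] at hz
        exact hz.symm.trans (Ext.comp_assoc_of_third_deg_zero _ _ _ _))
      simp only [d, sub_comp, Ext.comp_assoc_of_third_deg_zero, Ext.mk₀_comp_mk₀, sub_eq_zero,
        ← D.map_comp] at hψ
      refine ⟨l, φ ≫ α ≫ ψ, ?_⟩
      rw [Functor.map_comp, ← Ext.mk₀_comp_mk₀,
        ← Ext.comp_assoc_of_third_deg_zero y (Ext.mk₀ (D.map φ)) (Ext.mk₀ (D.map (α ≫ ψ))) (add_zero q),
        ← hw, Ext.comp_assoc_of_third_deg_zero, hψ,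
        hS.extClass_comp_assoc]

end Groth.Agent.SiteCoh.ColimFive
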