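import Groth.Agent.SiteCoh.CechLike
import Mathlib.CategoryTheory.Sites.EpiMono

/-!
# The free Čech nerve resolution of an epimorphism of sheaves of sets
-/

set_option autoImplicit false

universe u

open CategoryTheory CategoryTheory.Limits Opposite Simplicial AlgebraicTopology

namespace Groth.Agent.SiteCoh.Nerve

variable {C : Type u} [SmallCategory C] {J : GrothendieckTopology C}

/-- Sections of a sheaf of sets as morphisms. -/
noncomputable def secEquiv (V : C) (K : Sheaf J (Type u)) :
    ((presheafToSheaf J (Type u)).obj (yoneda.obj V) ⟶ K) ≃ (K.obj.obj (op V) : Type u) :=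
  ((sheafificationAdjunction J (Type u)).homEquiv (yoneda.obj V) K).trans yonedaEquiv

theorem secEquiv_comp {V : C} {K L : Sheaf J (Type u)}
    (a : (presheafToSheaf J (Type u)).obj (yoneda.obj V) ⟶ K) (φ : K ⟶ L) :
    secEquiv V L (a ≫ φ) = φ.hom.app (op V) (secEquiv V K a) := by
  simp only [secEquiv, Equiv.trans_apply]
  rw [(sheafificationAdjunction J (Type u)).homEquiv_naturality_right]
  rfl

/-- The presheaf of sets underlying the augmented Čech nerve. -/
noncomputable abbrev nerve {K' K : Sheaf J (Type u)} (f : K' ⟶ K) :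
    SimplicialObject.Augmented (Cᵒᵖ ⥤ Type u) :=
  ((SimplicialObject.Augmented.whiskering _ _).obj (sheafToPresheaf J (Type u))).obj
    (Arrow.mk f).augmentedCechNerve

theorem isCechLike_nerve {K' K : Sheaf J (Type u)} (f : K' ⟶ K) (V : Cᵒᵖ) :
    CechLike.IsCechLike (CechLike.at' (nerve f) V) := by
  obtain ⟨V⟩ := V
  let h := (presheafToSheaf J (Type u)).obj (yoneda.obj V)
  let P : ℕ → Sheaf J (Type u) := fun n => (Arrow.mk f).cechNerve.obj (op ⦋n⦌)
  let v : ∀ (n : ℕ) (_ : Fin (n + 1)), P n ⟶ P 0 :=
    fun n j => (Arrow.mk f).cechNerve.map (SimplexCategory.const ⦋0⦌ ⦋n⦌ j).op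
  have hvπ : ∀ (n : ℕ) (j : Fin (n + 1)),
      v n j ≫ WidePullback.π (fun _ : Fin 1 => f) 0 = WidePullback.π (fun _ : Fin (n + 1) => f) j :=
    fun n j => WidePullback.lift_π ..
  have hvb : ∀ (n : ℕ) (j : Fin (n + 1)),
      v n j ≫ WidePullback.base (fun _ : Fin 1 => f) = WidePullback.base (fun _ : Fin (n + 1) => f) :=
    fun n j => WidePullback.lift_base ..
  refine ⟨fun n x y hxy => ?_, fun n w hw => ?_⟩
  · obtain ⟨a, rfl⟩ := (secEquiv V (P n)).surjective x
    obtain ⟨b, rfl⟩ := (secEquiv V (P n)).surjective y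
    have hab : ∀ j, a ≫ v n j = b ≫ v n j := fun j => (secEquiv V (P 0)).injective (by
      rw [secEquiv_comp, secEquiv_comp]
      exact hxy j)
    refine congrArg _ (WidePullback.hom_ext _ _ _ (fun j => ?_) ?_)
    · have := congrArg (· ≫ WidePullback.π (fun _ : Fin 1 => f) 0) (hab j)
      simp only [Category.assoc] at this
      erw [hvπ n j] at this
      exact this
    · have := congrArg (· ≫ WidePullback.base (fun _ : Fin 1 => f)) (hab 0)
      simp only [Category.assoc] at this
      erw [hvb n 0] at this
      exact this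
  · choose a ha using fun j => (secEquiv V (P 0)).surjective (w j)
    have hb : ∀ j, a j ≫ WidePullback.base (fun _ : Fin 1 => f) =
        a 0 ≫ WidePullback.base (fun _ : Fin 1 => f) := fun j => (secEquiv V K).injective (by
      erw [secEquiv_comp (a j) (WidePullback.base (fun _ : Fin 1 => f)),
        secEquiv_comp (a 0) (WidePullback.base (fun _ : Fin 1 => f)), ha j, ha 0]
      exact hw j)
    let l : h ⟶ P n := WidePullback.lift (a 0 ≫ WidePullback.base (fun _ : Fin 1 => f))
      (fun j : Fin (n + 1) => a j ≫ WidePullback.π (fun _ : Fin 1 => f) 0)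
      (fun j => by
        rw [Category.assoc]
        refine (congrArg (a j ≫ ·) ?_).trans (hb j)
        exact WidePullback.π_arrow (fun _ : Fin 1 => f) 0)
    refine ⟨secEquiv V (P n) l, fun j => ?_⟩
    have hl : l ≫ v n j = a j := by
      refine WidePullback.hom_ext _ _ _ (fun i => ?_) ?_
      · rw [show i = (0 : Fin 1) from Subsingleton.elim (α := Fin 1) _ _, Category.assoc]
        erw [hvπ n j]
        exact WidePullback.lift_π ..
      · rw [Category.assoc]
        erw [hvb n j]
        exact (WidePullback.lift_base ..).trans (hb j).symm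
    refine Eq.trans ?_ ((congrArg _ hl).trans (ha j))
    exact (secEquiv_comp l (v n j)).symm

theorem isLocallySurjective_nerve_hom {K' K : Sheaf J (Type u)} (f : K' ⟶ K) [Epi f] :
    Presheaf.IsLocallySurjective J ((nerve f).hom.app (op ⦋0⦌)) := by
  let d : K' ⟶ (Arrow.mk f).cechNerve.obj (op ⦋0⦌) :=
    WidePullback.lift f (fun _ : Fin 1 => 𝟙 K') (fun _ => Category.id_comp f)
  have hd : d.hom ≫ (nerve f).hom.app (op ⦋0⦌) = f.hom := by
    have h : d ≫ WidePullback.base (fun _ : Fin 1 => f) = f := WidePullback.lift_base ..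
    exact (congrArg (fun φ => d.hom ≫ φ) (by simp [nerve, SimplicialObject.Augmented.whiskering,
      SimplicialObject.Augmented.whiskeringObj])).trans (congrArg (fun φ => φ.hom) h)
  have : Sheaf.IsLocallySurjective f := (Sheaf.isLocallySurjective_iff_epi' _ f).2 inferInstance
  have hf : Presheaf.IsLocallySurjective J f.hom := this
  have h2 : Presheaf.IsLocallySurjective J (d.hom ≫ (nerve f).hom.app (op ⦋0⦌)) := by
    rw [hd]
    exact hf
  exact Presheaf.isLocallySurjective_of_isLocallySurjective J d.hom _

/-- The free abelian sheaves on the Čech nerve of an epimorphism resolve the free abelian sheaf on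
its target. -/
theorem quasiIso_free_nerve {K' K : Sheaf J (Type u)} (f : K' ⟶ K) [Epi f] :
    QuasiIso (AlternatingFaceMapComplex.ε.app
      (((SimplicialObject.Augmented.whiskering _ _).obj (Free.freePre J)).obj (nerve f))) :=
  CechLike.quasiIso_free_ε J (nerve f) (isCechLike_nerve f) (isLocallySurjective_nerve_hom f)

end Groth.Agent.SiteCoh.Nerve
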