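import Groth.Agent.SiteCoh.HDUSheafify

/-!
# Cohomology sheaves of a pushforward of a K-injective complex
-/

set_option autoImplicit false

universe u

open CategoryTheory CategoryTheory.Limits Opposite

namespace Groth.Agent.SiteCoh.HDUPush

variable {C D : Type u} [SmallCategory C] [SmallCategory D] {J : GrothendieckTopology C}
  (L : GrothendieckTopology D) (u : D ⥤ C) [u.IsContinuous L J]
  [HasDerivedCategory.{u} (Sheaf J AddCommGrpCat.{u})]
  {K I : CochainComplex (Sheaf J AddCommGrpCat.{u}) ℤ} (φ : K ⟶ I) [QuasiIso φ] [I.IsKInjective]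

theorem square {E : Type*} [Category E] {A B A₁ B₁ A₂ B₂ B₃ : E} (g : A ⟶ B) (cA : A ⟶ A₁) (cB : B ⟶ B₁)
    (t : A₁ ⟶ B₁) (eA : A₁ ⟶ A₂) (eB : B₁ ⟶ B₂) (m : A₂ ⟶ B₂) (k : B₂ ⟶ B₃) (r : A₂ ⟶ B₃)
    (h1 : g ≫ cB = cA ≫ t) (h2 : t ≫ eB = eA ≫ m) (h3 : m ≫ k = r) :
    g ≫ cB ≫ eB ≫ k = (cA ≫ eA) ≫ r := by
  rw [← Category.assoc g, h1, Category.assoc, ← Category.assoc t, h2, Category.assoc, Category.assoc, h3]

include φ in
theorem nonempty_iso (F : Sheaf J AddCommGrpCat.{u} ⥤ Sheaf L AddCommGrpCat.{u}) [F.Additive]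
    [PreservesFiniteLimits F] (eF : F ≅ u.sheafPushforwardContinuous AddCommGrpCat.{u} L J) (q : ℤ) :
    Nonempty ((presheafToSheaf L AddCommGrpCat.{u}).obj
      (u.op ⋙ CohCx.HDUPresheaf ((DerivedCategory.Q (C := Sheaf J AddCommGrpCat.{u})).obj K) q) ≅
        ((F.mapHomologicalComplex (ComplexShape.up ℤ)).obj I).homology q) := by
  let T := u.sheafPushforwardContinuous AddCommGrpCat.{u} L J
  let d := Functor.whiskerLeft u.op (I.toCycles (q - 1) q).hom
  let η := Functor.whiskerLeft u.op (HDUSheafify.etaNat φ q)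
  have hw : d ≫ η = 0 := by
    refine NatTrans.ext (funext fun V => AddCommGrpCat.hom_ext (AddMonoidHom.ext fun t => ?_))
    exact (HDUSheafify.app_eq_zero_iff φ q (u.obj V.unop) _).2 ⟨t, rfl⟩
  let S := ShortComplex.mk d η hw
  have : Epi S.g := by
    have : ∀ V, Epi (η.app V) := fun V =>
      (AddCommGrpCat.epi_iff_surjective _).2 (HDUSheafify.app_surjective φ q (u.obj V.unop))
    exact NatTrans.epi_of_epi_app _
  have hS : S.Exact := by
    rw [S.exact_iff_isZero_homology]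
    refine Functor.isZero _ fun V => ?_
    refine IsZero.of_iso ((S.map ((evaluation Dᵒᵖ AddCommGrpCat.{u}).obj V)).exact_iff_isZero_homology.1 ?_)
      (S.mapHomologyIso ((evaluation Dᵒᵖ AddCommGrpCat.{u}).obj V)).symm
    rw [ShortComplex.ab_exact_iff]
    intro s hs
    exact (HDUSheafify.app_eq_zero_iff φ q (u.obj V.unop) s).1 hs
  let G := presheafToSheaf L AddCommGrpCat.{u}
  have h₁ := CokernelCofork.mapIsColimit (CokernelCofork.ofπ S.g S.zero) hS.gIsCokernel G
  let FI := (F.mapHomologicalComplex (ComplexShape.up ℤ)).obj I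
  have hk := KernelFork.mapIsLimit _ (I.cyclesIsKernel q (q + 1) (by simp)) F
  let ec : F.obj (I.cycles q) ≅ FI.cycles q := hk.conePointUniqueUpToIso (FI.cyclesIsKernel q (q + 1) (by simp))
  have hec : ec.hom ≫ FI.iCycles q = F.map (I.iCycles q) :=
    IsLimit.conePointUniqueUpToIso_hom_comp hk (FI.cyclesIsKernel q (q + 1) (by simp)) WalkingParallelPair.zero
  let e₁ : G.obj (T.obj (I.X (q - 1))).obj ≅ F.obj (I.X (q - 1)) :=
    asIso ((sheafificationAdjunction L AddCommGrpCat.{u}).counit.app (T.obj (I.X (q - 1)))) ≪≫ (eF.app _).symm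
  let e₂ : G.obj (T.obj (I.cycles q)).obj ≅ FI.cycles q :=
    asIso ((sheafificationAdjunction L AddCommGrpCat.{u}).counit.app (T.obj (I.cycles q))) ≪≫ (eF.app _).symm ≪≫ ec
  have h3 : F.map (I.toCycles (q - 1) q) ≫ ec.hom = FI.toCycles (q - 1) q := by
    rw [← cancel_mono (FI.iCycles q), Category.assoc, hec]
    refine (F.map_comp _ _).symm.trans ?_
    rw [HomologicalComplex.toCycles_i]
    exact (FI.toCycles_i (q - 1) q).symm
  have hsq : G.map d ≫ e₂.hom = e₁.hom ≫ FI.toCycles (q - 1) q :=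
    square _ _ _ _ _ _ _ _ _
      ((sheafificationAdjunction L AddCommGrpCat.{u}).counit.naturality (T.map (I.toCycles (q - 1) q)))
      (eF.inv.naturality (I.toCycles (q - 1) q)) h3
  let c₁ := cokernel.mapIso (G.map d) (FI.toCycles (q - 1) q) e₁ e₂ hsq
  exact ⟨(h₁.coconePointUniqueUpToIso (cokernelIsCokernel (G.map d))) ≪≫ c₁ ≪≫
    (cokernelIsCokernel _).coconePointUniqueUpToIso (FI.homologyIsCokernel (q - 1) q (by simp))⟩

end Groth.Agent.SiteCoh.HDUPush
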