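import Groth.Agent.HyperLib.DerivedHom
import Mathlib.AlgebraicTopology.AlternatingFaceMapComplex
import Mathlib.AlgebraicTopology.SimplexCategory.Basic
import Mathlib.Algebra.Homology.HomologicalComplexAbelian
import Mathlib.CategoryTheory.Abelian.FunctorCategory

/-!
# Derived limits over the simplex category

The right derived functors of `lim : CosimplicialObject B ⥤ B` are computed by the alternating coface
complex: an object embeds in a product of cofree cosimplicial objects, whose complexes are contracted by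
coning off from the vertex `0`.
-/

set_option autoImplicit false

universe v u

open CategoryTheory CategoryTheory.Limits AlgebraicTopology Simplicial

namespace Groth.Agent.SiteCoh.CosimpLim

/-- The cone on a simplex, from the vertex `0`. -/
def cone {n m : ℕ} (α : ⦋n⦌ ⟶ ⦋m⦌) : ⦋n + 1⦌ ⟶ ⦋m⦌ :=
  SimplexCategory.mkHom ⟨Fin.cons 0 α.toOrderHom, fun a b hab => by
    induction a using Fin.cases with
    | zero => rw [Fin.cons_zero]; apply Fin.zero_le
    | succ a =>
      induction b using Fin.cases with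
      | zero => exact absurd hab (not_le.mpr (Fin.succ_pos a))
      | succ b =>
        rw [Fin.cons_succ, Fin.cons_succ]
        exact α.toOrderHom.monotone (Fin.succ_le_succ_iff.mp hab)⟩

lemma δ_zero_cone {n m : ℕ} (α : ⦋n⦌ ⟶ ⦋m⦌) : SimplexCategory.δ 0 ≫ cone α = α := by
  apply SimplexCategory.Hom.ext
  ext x
  show ((Fin.cons 0 α.toOrderHom : Fin (n + 2) → Fin (m + 1)) ((0 : Fin (n + 2)).succAbove x)).val = _
  rw [Fin.succAbove_zero, Fin.cons_succ]

lemma δ_succ_cone {n m : ℕ} (j : Fin (n + 2)) (α : ⦋n + 1⦌ ⟶ ⦋m⦌) :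
    SimplexCategory.δ j.succ ≫ cone α = cone (SimplexCategory.δ j ≫ α) := by
  apply SimplexCategory.Hom.ext
  ext x
  show ((Fin.cons 0 α.toOrderHom : Fin (n + 3) → Fin (m + 1)) (j.succ.succAbove x)).val =
    ((Fin.cons 0 (SimplexCategory.δ j ≫ α).toOrderHom : Fin (n + 2) → Fin (m + 1)) x).val
  induction x using Fin.cases with
  | zero => simp [Fin.succ_succAbove_zero]
  | succ x => rw [Fin.succ_succAbove_succ, Fin.cons_succ, Fin.cons_succ]; rfl

variable {B : Type u} [Category.{v} B] [Abelian B] [HasLimitsOfSize.{0, 0} B]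

/-- The alternating coface complex, on the functor category. -/
noncomputable abbrev cx : (SimplexCategory ⥤ B) ⥤ CochainComplex B ℕ := alternatingCofaceMapComplex B

/-- The differential. -/
noncomputable abbrev D (X : SimplexCategory ⥤ B) (n : ℕ) : X.obj ⦋n⦌ ⟶ X.obj ⦋n + 1⦌ :=
  ∑ i : Fin (n + 2), (-1 : ℤ) ^ (i : ℕ) • X.map (SimplexCategory.δ i)

lemma cx_d (X : SimplexCategory ⥤ B) (n : ℕ) : (cx.obj X).d n (n + 1) = D X n := by
  show (AlternatingCofaceMapComplex.obj X).d n (n + 1) = _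
  simp only [AlternatingCofaceMapComplex.obj, CochainComplex.of_d, AlternatingCofaceMapComplex.objD]
  rfl

/-- The index set of the product in degree `x`. -/
abbrev Idx (x : SimplexCategory) : Type := Σ m : ℕ, (x ⟶ ⦋m⦌)

/-- The product of the cofree objects on the terms of `F`. -/
noncomputable def cofree (F : SimplexCategory ⥤ B) : SimplexCategory ⥤ B where
  obj x := ∏ᶜ fun p : Idx x => F.obj ⦋p.1⦌
  map {x y} f := Pi.lift fun p : Idx y => Pi.π (fun q : Idx x => F.obj ⦋q.1⦌) ⟨p.1, f ≫ p.2⟩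
  map_id x := by
    refine Pi.hom_ext _ _ fun p => ?_
    refine (Pi.lift_π _ _).trans (Eq.trans ?_ (Category.id_comp _).symm)
    obtain ⟨m, α⟩ := p
    rw [Category.id_comp]
  map_comp {x y z} f g := by
    refine Pi.hom_ext _ _ fun p => ?_
    refine (Pi.lift_π _ _).trans (Eq.symm ((Category.assoc _ _ _).trans ?_))
    refine (congrArg (fun t => _ ≫ t) (Pi.lift_π _ p)).trans ((Pi.lift_π _ _).trans ?_)
    obtain ⟨m, α⟩ := p
    rw [Category.assoc]

/-- The projections. -/
noncomputable def proj (F : SimplexCategory ⥤ B) (x : SimplexCategory) (p : Idx x) :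
    (cofree F).obj x ⟶ F.obj ⦋p.1⦌ :=
  Pi.π (fun q : Idx x => F.obj ⦋q.1⦌) p

lemma hom_ext' {F : SimplexCategory ⥤ B} {x : SimplexCategory} {Z : B} {f g : Z ⟶ (cofree F).obj x}
    (h : ∀ p, f ≫ proj F x p = g ≫ proj F x p) : f = g :=
  Pi.hom_ext f g h

lemma cofree_map_π (F : SimplexCategory ⥤ B) {x y : SimplexCategory} (f : x ⟶ y) (p : Idx y) :
    (cofree F).map f ≫ proj F y p = proj F x ⟨p.1, f ≫ p.2⟩ :=
  Pi.lift_π _ _

/-- The unit at an object. -/
noncomputable def unitApp (F : SimplexCategory ⥤ B) (x : SimplexCategory) : F.obj x ⟶ (cofree F).obj x :=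
  Pi.lift fun p : Idx x => F.map p.2

lemma unitApp_π (F : SimplexCategory ⥤ B) (x : SimplexCategory) (p : Idx x) :
    unitApp F x ≫ proj F x p = F.map p.2 :=
  Pi.lift_π _ _

/-- The unit. -/
noncomputable def unit (F : SimplexCategory ⥤ B) : F ⟶ cofree F where
  app x := unitApp F x
  naturality x y f := hom_ext' fun p => by
    rw [Category.assoc, unitApp_π, Category.assoc, cofree_map_π, unitApp_π]
    exact (F.map_comp _ _).symm

instance mono_unit (F : (SimplexCategory ⥤ B)) : Mono (unit F) := by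
  have : ∀ x, Mono ((unit F).app x) := fun x => by
    obtain ⟨n⟩ := x
    have h : (unit F).app ⦋n⦌ ≫ proj F ⦋n⦌ ⟨n, 𝟙 _⟩ = 𝟙 _ :=
      (unitApp_π _ _ _).trans (F.map_id _)
    exact (SplitMono.mk _ h).mono
  exact NatTrans.mono_of_mono_app _

/-- The contraction. -/
noncomputable def homotopy (F : (SimplexCategory ⥤ B)) (n : ℕ) :
    (cofree F).obj ⦋n + 1⦌ ⟶ (cofree F).obj ⦋n⦌ :=
  Pi.lift fun p : Idx ⦋n⦌ => proj F ⦋n + 1⦌ ⟨p.1, cone p.2⟩

lemma homotopy_π (F : (SimplexCategory ⥤ B)) (n : ℕ) (p : Idx ⦋n⦌) :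
    homotopy F n ≫ proj F ⦋n⦌ p =
      proj F ⦋n + 1⦌ ⟨p.1, cone p.2⟩ :=
  Pi.lift_π _ _

lemma objD_π (F : (SimplexCategory ⥤ B)) (n : ℕ) (p : Idx ⦋n + 1⦌) :
    D (cofree F) n ≫ proj F ⦋n + 1⦌ p =
      ∑ i : Fin (n + 2), (-1 : ℤ) ^ (i : ℕ) •
        proj F ⦋n⦌ ⟨p.1, SimplexCategory.δ i ≫ p.2⟩ := by
  rw [D, Preadditive.sum_comp]
  refine Finset.sum_congr rfl fun i _ => ?_
  rw [Preadditive.zsmul_comp]
  congr 1
  exact cofree_map_π F _ _

lemma contraction (F : (SimplexCategory ⥤ B)) (n : ℕ) :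
    D (cofree F) (n + 1) ≫ homotopy F (n + 1) +
      homotopy F n ≫ D (cofree F) n = 𝟙 _ := by
  refine hom_ext' fun p => ?_
  obtain ⟨m, α⟩ := p
  rw [Preadditive.add_comp, Category.assoc, Category.assoc, homotopy_π, objD_π, objD_π, Category.id_comp,
    Preadditive.comp_sum, Fin.sum_univ_succ, Fin.val_zero, pow_zero, one_smul, δ_zero_cone, add_assoc,
    ← Finset.sum_add_distrib, Finset.sum_eq_zero fun i _ => ?_, add_zero]
  rw [Preadditive.comp_zsmul, homotopy_π, δ_succ_cone, Fin.val_succ, pow_succ, mul_neg, mul_one, neg_smul,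
    neg_add_cancel]

/-- The complex of a cofree object is acyclic in positive degrees. -/
theorem isZero_homology_cofree (F : (SimplexCategory ⥤ B)) (n : ℕ) :
    IsZero ((cx.obj (cofree F)).homology (n + 1)) := by
  let K := cx.obj (cofree F)
  have hd : ∀ k, K.d k (k + 1) = D (cofree F) k := cx_d _
  let h1 : K.X (n + 1) ⟶ K.X n := homotopy F n
  let h2 : K.X (n + 1 + 1) ⟶ K.X (n + 1) := homotopy F (n + 1)
  have e : K.d (n + 1) (n + 1 + 1) ≫ h2 + h1 ≫ K.d n (n + 1) = 𝟙 (K.X (n + 1)) :=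
    (congrArg₂ (fun a b => a ≫ h2 + h1 ≫ b) (hd (n + 1)) (hd n)).trans (contraction F n)
  have key : K.iCycles (n + 1) = K.iCycles (n + 1) ≫ h1 ≫ K.d n (n + 1) := by
    have h := congrArg (fun t => K.iCycles (n + 1) ≫ t) e
    simp only [Preadditive.comp_add, HomologicalComplex.iCycles_d_assoc, zero_comp, zero_add, Category.comp_id] at h
    exact h.symm
  have hid : (K.iCycles (n + 1) ≫ h1) ≫ K.toCycles n (n + 1) = 𝟙 (K.cycles (n + 1)) := by
    rw [← cancel_mono (K.iCycles (n + 1)), Category.assoc, Category.assoc, HomologicalComplex.toCycles_i,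
      Category.id_comp]
    exact key.symm
  rw [IsZero.iff_id_eq_zero, ← cancel_epi (K.homologyπ (n + 1)), comp_zero, Category.comp_id,
    ← Category.id_comp (K.homologyπ (n + 1)), ← hid, Category.assoc, HomologicalComplex.toCycles_comp_homologyπ,
    comp_zero]

instance : (cx (B := B)).Additive where
  map_add {X Y f g} := by
    apply HomologicalComplex.hom_ext
    intro n
    rfl


/-- The complexes of a short exact sequence form a short exact sequence. -/
lemma shortExact_map (S : ShortComplex (SimplexCategory ⥤ B)) (hS : S.ShortExact) :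
    (S.map cx).ShortExact :=
  HomologicalComplex.shortExact_of_degreewise_shortExact _ fun n =>
    hS.map_of_exact ((evaluation SimplexCategory B).obj ⦋n⦌)

/-- The cohomology of the alternating coface complex as a delta functor. -/
noncomputable def delta : DeltaF.CohDeltaFunctor (SimplexCategory ⥤ B) B ℕ where
  F n := cx ⋙ HomologicalComplex.homologyFunctor _ _ n
  additive n := inferInstance
  δ S hS n₀ n₁ h := (shortExact_map S hS).δ n₀ n₁ h
  δ_natural hS hS' φ n₀ n₁ h := (HomologicalComplex.HomologySequence.δ_naturality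
    (cx.mapShortComplex.map φ) (shortExact_map _ hS) (shortExact_map _ hS') n₀ n₁ h).symm
  exact₂ S hS n := (shortExact_map S hS).homology_exact₂ n
  comp_δ S hS n₀ n₁ h := (shortExact_map S hS).comp_δ n₀ n₁ h
  exact₃ S hS n₀ n₁ h := (shortExact_map S hS).homology_exact₃ n₀ n₁ h
  δ_comp S hS n₀ n₁ h := (shortExact_map S hS).δ_comp n₀ n₁ h
  exact₁ S hS n₀ n₁ h := (shortExact_map S hS).homology_exact₁ n₀ n₁ h

lemma d_zero (F : SimplexCategory ⥤ B) :
    (cx.obj F).d 0 1 = F.map (SimplexCategory.δ 0) - F.map (SimplexCategory.δ 1) := by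
  refine (cx_d F 0).trans ((Fin.sum_univ_two _).trans ?_)
  rw [Fin.val_zero, Fin.val_one, pow_zero, pow_one, one_smul, neg_smul, one_smul]
  exact (sub_eq_add_neg _ _).symm

/-- The inclusion of the zero cycles. -/
noncomputable def ι₀ (F : SimplexCategory ⥤ B) : (cx.obj F).cycles 0 ⟶ F.obj ⦋0⦌ :=
  (cx.obj F).iCycles 0

instance (F : SimplexCategory ⥤ B) : Mono (ι₀ F) := inferInstanceAs (Mono ((cx.obj F).iCycles 0))

lemma ι₀_δ (F : SimplexCategory ⥤ B) :
    ι₀ F ≫ F.map (SimplexCategory.δ (0 : Fin 2)) = ι₀ F ≫ F.map (SimplexCategory.δ (1 : Fin 2)) := by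
  have h := (congrArg (fun t => (cx.obj F).iCycles 0 ≫ t) (d_zero F)).symm.trans
    (HomologicalComplex.iCycles_d (cx.obj F) 0 1)
  have h' : ι₀ F ≫ (F.map (SimplexCategory.δ (0 : Fin 2)) - F.map (SimplexCategory.δ (1 : Fin 2))) = 0 := h
  rwa [Preadditive.comp_sub, sub_eq_zero] at h'

lemma ι₀_const (F : SimplexCategory ⥤ B) {m : ℕ} (j : Fin (m + 1)) :
    ι₀ F ≫ F.map (SimplexCategory.const ⦋0⦌ ⦋m⦌ j) = ι₀ F ≫ F.map (SimplexCategory.const ⦋0⦌ ⦋m⦌ 0) := by
  have e1 : SimplexCategory.δ (1 : Fin 2) ≫ SimplexCategory.mkOfLe (0 : Fin (m + 1)) j (Fin.zero_le j) =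
      SimplexCategory.const ⦋0⦌ ⦋m⦌ 0 := by
    ext i; fin_cases i; rfl
  have e0 : SimplexCategory.δ (0 : Fin 2) ≫ SimplexCategory.mkOfLe (0 : Fin (m + 1)) j (Fin.zero_le j) =
      SimplexCategory.const ⦋0⦌ ⦋m⦌ j := by
    ext i; fin_cases i; rfl
  rw [← e1, ← e0, F.map_comp, F.map_comp, reassoc_of% (ι₀_δ F)]

/-- The cone on the zero cycles. -/
noncomputable def cyclesCone (F : SimplexCategory ⥤ B) : Cone F where
  pt := (cx.obj F).cycles 0
  π :=
    { app := fun x => ι₀ F ≫ F.map (SimplexCategory.const ⦋0⦌ x 0)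
      naturality := fun x y f => by
        obtain ⟨m⟩ := y
        dsimp
        rw [Category.id_comp, Category.assoc, ← F.map_comp, SimplexCategory.const_comp]
        exact (ι₀_const F _).symm }

/-- The comparison from the limit. -/
noncomputable def toCycles₀ (F : SimplexCategory ⥤ B) : limit F ⟶ (cx.obj F).cycles 0 :=
  (cx.obj F).liftCycles (limit.π F ⦋0⦌ : limit F ⟶ (cx.obj F).X 0) 1 (by simp)
    ((congrArg (fun t => (limit.π F ⦋0⦌ : limit F ⟶ (cx.obj F).X 0) ≫ t) (d_zero F)).trans (by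
      show limit.π F ⦋0⦌ ≫ (F.map (SimplexCategory.δ (0 : Fin 2)) - F.map (SimplexCategory.δ (1 : Fin 2))) = 0
      rw [Preadditive.comp_sub, limit.w, limit.w, sub_self]))

lemma toCycles₀_ι₀ (F : SimplexCategory ⥤ B) : toCycles₀ F ≫ ι₀ F = limit.π F ⦋0⦌ :=
  HomologicalComplex.liftCycles_i _ _ _ _ _

/-- The limit is the zero cycles. -/
noncomputable def cyclesIso (F : SimplexCategory ⥤ B) : limit F ≅ (cx.obj F).cycles 0 where
  hom := toCycles₀ F
  inv := limit.lift F (cyclesCone F)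
  hom_inv_id := limit.hom_ext fun x => by
    rw [Category.assoc, Category.id_comp]
    refine (congrArg (fun t => toCycles₀ F ≫ t) (limit.lift_π (cyclesCone F) x)).trans ?_
    show _ ≫ ι₀ F ≫ _ = _
    rw [← Category.assoc, toCycles₀_ι₀, limit.w]
  inv_hom_id := by
    rw [← cancel_mono (ι₀ F), Category.assoc, toCycles₀_ι₀, Category.id_comp]
    refine (limit.lift_π (cyclesCone F) _).trans ?_
    show ι₀ F ≫ F.map _ = _
    rw [show SimplexCategory.const ⦋0⦌ ⦋0⦌ 0 = 𝟙 _ from SimplexCategory.Hom.ext _ _ (by ext i; fin_cases i; rfl),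
      F.map_id]
    exact Category.comp_id _

lemma ι₀_naturality {F G : SimplexCategory ⥤ B} (f : F ⟶ G) :
    HomologicalComplex.cyclesMap (cx.map f) 0 ≫ ι₀ G = ι₀ F ≫ f.app ⦋0⦌ :=
  HomologicalComplex.cyclesMap_i _ _

lemma toCycles₀_naturality {F G : SimplexCategory ⥤ B} (f : F ⟶ G) :
    limMap f ≫ toCycles₀ G = toCycles₀ F ≫ HomologicalComplex.cyclesMap (cx.map f) 0 := by
  rw [← cancel_mono (ι₀ G), Category.assoc, Category.assoc, toCycles₀_ι₀, ι₀_naturality,
    ← Category.assoc, toCycles₀_ι₀]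
  exact limMap_π f ⦋0⦌

/-- The limit is the zeroth cohomology. -/
noncomputable def limIso : (lim : (SimplexCategory ⥤ B) ⥤ B) ≅
    cx ⋙ HomologicalComplex.homologyFunctor _ _ 0 :=
  NatIso.ofComponents (fun F => cyclesIso F ≪≫ CochainComplex.isoHomologyπ₀ (cx.obj F))
    (fun {F G} f => by
      show limMap f ≫ toCycles₀ G ≫ _ = (toCycles₀ F ≫ _) ≫ HomologicalComplex.homologyMap (cx.map f) 0
      rw [← Category.assoc, toCycles₀_naturality, Category.assoc, Category.assoc]
      congr 1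
      exact (HomologicalComplex.homologyπ_naturality _ _).symm)

/-- The derived limit over the simplex category is the cohomology of the alternating coface complex. -/
theorem nonempty_rightDerived_lim_iso [HasInjectiveResolutions (SimplexCategory ⥤ B)]
    [(lim : (SimplexCategory ⥤ B) ⥤ B).Additive] (F : (SimplexCategory ⥤ B)) (n : ℕ) :
    Nonempty (((lim : (SimplexCategory ⥤ B) ⥤ B).rightDerived n).obj F ≅
      (cx.obj F).homology n) := by
  haveI : PreservesLimitsOfSize.{0, 0} (lim : (SimplexCategory ⥤ B) ⥤ B) := constLimAdj.rightAdjoint_preservesLimits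
  obtain ⟨e⟩ := HyperLib.DerivedHom.nonempty_rightDerived_iso (lim : (SimplexCategory ⥤ B) ⥤ B) delta
    (fun m X => ⟨cofree X, unit X, inferInstance, (isZero_homology_cofree X m).eq_of_tgt _ _⟩) limIso n
  exact ⟨e.app F⟩

end Groth.Agent.SiteCoh.CosimpLim
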