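import Mathlib.CategoryTheory.Sites.ConstantSheaf
import Mathlib.CategoryTheory.Sites.Limits
import Mathlib.CategoryTheory.Abelian.Exact
import Mathlib.Algebra.Homology.ShortComplex.ShortExact

/-!
# Sections of constant sheaves preserve surjections
-/

set_option autoImplicit false

universe u v

open CategoryTheory CategoryTheory.Limits Opposite

namespace Groth.Agent.SiteCoh.ConstSections

variable {C : Type u} [SmallCategory C] (J : GrothendieckTopology C)

/-- A surjection of objects induces a map of constant sheaves with a section
as a map of sheaves of sets. -/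
theorem exists_section {A : Type v} [Category A] {FA : A → A → Type*} {CA : A → Type u}
    [∀ X Y, FunLike (FA X Y) (CA X) (CA Y)] [ConcreteCategory A FA]
    [HasWeakSheafify J A] [J.HasSheafCompose (forget A)] [J.PreservesSheafification (forget A)]
    {X Y : A} (f : X ⟶ Y) (hf : Function.Surjective f) :
    ∃ τ : (sheafCompose J (forget A)).obj ((constantSheaf J A).obj Y) ⟶
        (sheafCompose J (forget A)).obj ((constantSheaf J A).obj X),
      τ ≫ (sheafCompose J (forget A)).map ((constantSheaf J A).map f) = 𝟙 _ := by
  let e := constantCommuteCompose J (forget A)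
  have : Epi ((forget A).map f) := (epi_iff_surjective _).2 hf
  obtain ⟨σ, hσ⟩ : ∃ σ : (forget A).obj Y ⟶ (forget A).obj X, σ ≫ (forget A).map f = 𝟙 _ :=
    ⟨↾(Function.surjInv hf), by ext y; exact Function.surjInv_eq hf y⟩
  let τ := e.hom.app Y ≫ (constantSheaf J (Type u)).map σ ≫ e.inv.app X
  have hτ : τ ≫ (sheafCompose J (forget A)).map ((constantSheaf J A).map f) = 𝟙 _ := by
    have hn := e.inv.naturality f
    dsimp at hn
    simp only [τ, Category.assoc]
    erw [← hn, ← Category.assoc ((constantSheaf J (Type u)).map σ), ← Functor.map_comp, hσ,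
      CategoryTheory.Functor.map_id, Category.id_comp, Iso.hom_inv_id_app]
  exact ⟨τ, hτ⟩

/-- A surjection of objects induces a surjection on all sections of the constant sheaves, because it has
a set-theoretic section. -/
theorem surjective_sections {A : Type v} [Category A] {FA : A → A → Type*} {CA : A → Type u}
    [∀ X Y, FunLike (FA X Y) (CA X) (CA Y)] [ConcreteCategory A FA]
    [HasWeakSheafify J A] [J.HasSheafCompose (forget A)] [J.PreservesSheafification (forget A)]
    {X Y : A} (f : X ⟶ Y) (hf : Function.Surjective f) (U : C) :
    Function.Surjective (((constantSheaf J A).map f).hom.app (op U)) := by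
  let G := sheafToPresheaf J (Type u) ⋙ (evaluation Cᵒᵖ (Type u)).obj (op U)
  obtain ⟨τ, hτ⟩ := exists_section J f hf
  intro (y : G.obj ((sheafCompose J (forget A)).obj ((constantSheaf J A).obj Y)))
  refine ⟨G.map τ y, ?_⟩
  have h := congrArg (fun g => G.map g y) hτ
  simp only [Functor.map_comp, CategoryTheory.Functor.map_id] at h
  exact h

end Groth.Agent.SiteCoh.ConstSections
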