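import Mathlib.CategoryTheory.ConnectedComponents
import Mathlib.CategoryTheory.Sites.Pullback
import Mathlib.CategoryTheory.Sites.Abelian
import Mathlib.CategoryTheory.Sites.LeftExact
import Mathlib.CategoryTheory.Filtered.Basic
import Mathlib.CategoryTheory.Limits.Preserves.Shapes.Pullbacks
import Mathlib.CategoryTheory.Limits.Preserves.Shapes.Equalizers
import Mathlib.CategoryTheory.Abelian.GrothendieckAxioms.Colim
import Mathlib.Algebra.Category.Grp.Colimits
import Mathlib.Algebra.Category.Grp.AB
import Mathlib.Algebra.Category.Grp.FilteredColimits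
import Mathlib.Algebra.Homology.ShortComplex.ExactFunctor
import Mathlib.CategoryTheory.Adjunction.Additive
import Mathlib.Algebra.DirectSum.Basic
import Groth.Prelude.Def_CohSite

/-!
# Left Kan extension along a functor preserving fibre products and equalizers is exact
-/

set_option autoImplicit false

universe u

open CategoryTheory CategoryTheory.Limits Opposite DirectSum

attribute [local instance] Classical.propDecidable

namespace Groth.Agent.SiteCoh.LanMono

variable {I : Type u} [SmallCategory I]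

theorem isFiltered_component
    (hspan : ∀ {X Y Z : I} (f : X ⟶ Y) (g : X ⟶ Z), ∃ (T : I) (h : Y ⟶ T) (k : Z ⟶ T), f ≫ h = g ≫ k)
    (hpar : ∀ {X Y : I} (f g : X ⟶ Y), ∃ (T : I) (h : Y ⟶ T), f ≫ h = g ≫ h) (c : CategoryTheory.ConnectedComponents I) :
    IsFiltered c.Component := by
  have hmem : ∀ {X : c.Component} {T : I} (_ : X.obj ⟶ T), CategoryTheory.ConnectedComponents.mk T = c := fun {X T} h =>
    (show CategoryTheory.ConnectedComponents.mk T = CategoryTheory.ConnectedComponents.mk X.obj from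
      Quotient.sound' (Relation.ReflTransGen.single (Or.inr ⟨h⟩))).trans X.property
  have : IsFilteredOrEmpty c.Component :=
    { cocone_objs := fun X Y => by
        suffices ∀ Y' : c.Component, Y' ∈ {W : c.Component | ∃ Z, Nonempty (X ⟶ Z) ∧ Nonempty (W ⟶ Z)} by
          obtain ⟨Z, ⟨f⟩, ⟨g⟩⟩ := this Y
          exact ⟨Z, f, g, trivial⟩
        refine induct_on_objects _ (j₀ := X) ⟨X, ⟨𝟙 X⟩, ⟨𝟙 X⟩⟩ fun {j₁ j₂} f => ⟨?_, ?_⟩
        · rintro ⟨Z, ⟨a⟩, ⟨b⟩⟩
          obtain ⟨T, h, k, -⟩ := hspan b.hom f.hom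
          exact ⟨⟨T, hmem h⟩, ⟨a ≫ ObjectProperty.homMk h⟩, ⟨ObjectProperty.homMk k⟩⟩
        · rintro ⟨Z, ha, ⟨b⟩⟩
          exact ⟨Z, ha, ⟨f ≫ b⟩⟩
      cocone_maps := fun X Y f g => by
        obtain ⟨T, h, hh⟩ := hpar f.hom g.hom
        exact ⟨⟨T, hmem h⟩, ObjectProperty.homMk h, ObjectProperty.hom_ext _ hh⟩ }
  exact { toIsFilteredOrEmpty := this }

variable (hI : ∀ c : CategoryTheory.ConnectedComponents I, IsFiltered c.Component)

/-- The sum of the colimits over the components. -/
abbrev Sum (F : I ⥤ AddCommGrpCat.{u}) :=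
  ⨁ c : CategoryTheory.ConnectedComponents I, ((Limits.colimit (c.ι ⋙ F) : AddCommGrpCat.{u}) : Type u)

/-- The decomposition cocone. -/
noncomputable def cocone (F : I ⥤ AddCommGrpCat.{u}) : Cocone F where
  pt := AddCommGrpCat.of (Sum F)
  ι :=
    { app := fun X => colimit.ι ((CategoryTheory.ConnectedComponents.mk X).ι ⋙ F) ⟨X, rfl⟩ ≫
        AddCommGrpCat.ofHom (DirectSum.of (fun c : CategoryTheory.ConnectedComponents I => ((colimit (c.ι ⋙ F) : AddCommGrpCat.{u}) : Type u))
          (CategoryTheory.ConnectedComponents.mk X))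
      naturality := fun X Y f => by
        have h : CategoryTheory.ConnectedComponents.mk Y = CategoryTheory.ConnectedComponents.mk X :=
          Quotient.sound' (Relation.ReflTransGen.single (Or.inr ⟨f⟩))
        have key : ∀ (c : CategoryTheory.ConnectedComponents I) (hc : CategoryTheory.ConnectedComponents.mk Y = c),
            colimit.ι ((CategoryTheory.ConnectedComponents.mk Y).ι ⋙ F) ⟨Y, rfl⟩ ≫
              AddCommGrpCat.ofHom (DirectSum.of (fun c : CategoryTheory.ConnectedComponents I => ((colimit (c.ι ⋙ F) : AddCommGrpCat.{u}) : Type u)) (CategoryTheory.ConnectedComponents.mk Y)) =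
            colimit.ι (c.ι ⋙ F) ⟨Y, hc⟩ ≫
              AddCommGrpCat.ofHom (DirectSum.of (fun c : CategoryTheory.ConnectedComponents I => ((colimit (c.ι ⋙ F) : AddCommGrpCat.{u}) : Type u)) c) := by
          rintro c rfl
          rfl
        rw [key _ h]
        refine Eq.trans ?_ (Category.comp_id _).symm
        refine (Category.assoc _ _ _).symm.trans ?_
        refine congrArg (· ≫ AddCommGrpCat.ofHom _) ?_
        exact colimit.w ((CategoryTheory.ConnectedComponents.mk X).ι ⋙ F)
          (ObjectProperty.homMk f : (⟨X, rfl⟩ : (CategoryTheory.ConnectedComponents.mk X).Component) ⟶ ⟨Y, h⟩) }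

include hI in
theorem mono_colim_map {F G : I ⥤ AddCommGrpCat.{u}} (β : F ⟶ G) [Mono β] {cF : Cocone F} {cG : Cocone G}
    (hF : IsColimit cF) (hG : IsColimit cG) (f : cF.pt ⟶ cG.pt) (hf : ∀ X, cF.ι.app X ≫ f = β.app X ≫ cG.ι.app X) :
    Mono f := by
  let Φ := hF.desc (cocone F)
  let Φ' := hG.desc (cocone G)
  let Ψ : (cocone F).pt ⟶ cF.pt := AddCommGrpCat.ofHom
    (DirectSum.toAddMonoid fun c => (colimit.desc (c.ι ⋙ F) (Cocone.whisker c.ι cF)).hom)
  have hΨ : Φ ≫ Ψ = 𝟙 _ := hF.hom_ext fun X => by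
    rw [IsColimit.fac_assoc, Category.comp_id]
    refine AddCommGrpCat.ext fun x => ?_
    refine (DirectSum.toAddMonoid_of (β := fun c : CategoryTheory.ConnectedComponents I => ((colimit (c.ι ⋙ F) : AddCommGrpCat.{u}) : Type u))
      (γ := (cF.pt : Type u)) (fun c : CategoryTheory.ConnectedComponents I =>
      (colimit.desc (c.ι ⋙ F) (Cocone.whisker c.ι cF)).hom) (CategoryTheory.ConnectedComponents.mk X) _).trans ?_
    exact ConcreteCategory.congr_hom
      (colimit.ι_desc (Cocone.whisker (CategoryTheory.ConnectedComponents.mk X).ι cF) ⟨X, rfl⟩) x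
  let μ : ∀ c : CategoryTheory.ConnectedComponents I, colimit (c.ι ⋙ F) ⟶ colimit (c.ι ⋙ G) := fun c =>
    colimMap (Functor.whiskerLeft c.ι β)
  let M : (cocone F).pt ⟶ (cocone G).pt :=
    AddCommGrpCat.ofHom (DirectSum.map fun c => (μ c).hom)
  have hM : f ≫ Φ' = Φ ≫ M := hF.hom_ext fun X => by
    rw [← Category.assoc, hf, Category.assoc, IsColimit.fac, IsColimit.fac_assoc]
    refine AddCommGrpCat.ext fun x => ?_
    refine Eq.trans ?_ (DirectSum.map_of _ _ _).symm
    refine congrArg (DirectSum.of (fun c : CategoryTheory.ConnectedComponents I => ((colimit (c.ι ⋙ G) : AddCommGrpCat.{u}) : Type u)) (CategoryTheory.ConnectedComponents.mk X)) ?_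
    exact (ConcreteCategory.congr_hom
      (ι_colimMap (Functor.whiskerLeft (CategoryTheory.ConnectedComponents.mk X).ι β) ⟨X, rfl⟩) x).symm
  have hμ : ∀ c, Function.Injective (μ c) := fun c => by
    have := hI c
    have : ∀ i, Mono ((Functor.whiskerLeft c.ι β).app i) := fun i => (NatTrans.mono_iff_mono_app β).1 inferInstance _
    have : Mono (Functor.whiskerLeft c.ι β) := NatTrans.mono_of_mono_app _
    exact (AddCommGrpCat.mono_iff_injective _).1
      (colim.map_mono' (Functor.whiskerLeft c.ι β) (colimit.isColimit _) (colimit.isColimit _) (μ c)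
        fun j => ι_colimMap (Functor.whiskerLeft c.ι β) j)
  have hMm : Mono M := (AddCommGrpCat.mono_iff_injective _).2 ((DirectSum.map_injective _).2 hμ)
  have : Mono Φ := mono_of_mono_fac hΨ
  exact mono_of_mono_fac hM

end Groth.Agent.SiteCoh.LanMono

namespace Groth.Agent.SiteCoh.LanMono

variable {C D : Type u} [SmallCategory C] [SmallCategory D] (u : C ⥤ D) [HasPullbacks C] [HasEqualizers C]
  [PreservesLimitsOfShape WalkingCospan u] [PreservesLimitsOfShape WalkingParallelPair u]

theorem exists_span (W : D) {X Y Z : CostructuredArrow u.op (op W)} (f : X ⟶ Y) (g : X ⟶ Z) :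
    ∃ (T : CostructuredArrow u.op (op W)) (h : Y ⟶ T) (k : Z ⟶ T), f ≫ h = g ≫ k := by
  have hw : Y.hom.unop ≫ u.map f.left.unop = Z.hom.unop ≫ u.map g.left.unop :=
    (congrArg Quiver.Hom.unop (CostructuredArrow.w f)).trans (congrArg Quiver.Hom.unop (CostructuredArrow.w g)).symm
  let hl := isLimitPullbackConeMapOfIsLimit u pullback.condition (pullbackIsPullback f.left.unop g.left.unop)
  obtain ⟨b, h₁, h₂⟩ : ∃ b : W ⟶ u.obj (pullback f.left.unop g.left.unop),
      b ≫ u.map (pullback.fst f.left.unop g.left.unop) = Y.hom.unop ∧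
      b ≫ u.map (pullback.snd f.left.unop g.left.unop) = Z.hom.unop :=
    ⟨PullbackCone.IsLimit.lift hl _ _ hw, PullbackCone.IsLimit.lift_fst hl _ _ hw,
      PullbackCone.IsLimit.lift_snd hl _ _ hw⟩
  refine ⟨CostructuredArrow.mk (Y := op (pullback f.left.unop g.left.unop)) b.op,
    CostructuredArrow.homMk (pullback.fst f.left.unop g.left.unop).op (Quiver.Hom.unop_inj h₁),
    CostructuredArrow.homMk (pullback.snd f.left.unop g.left.unop).op (Quiver.Hom.unop_inj h₂), ?_⟩
  exact CostructuredArrow.hom_ext _ _ (Quiver.Hom.unop_inj pullback.condition)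

theorem exists_par (W : D) {X Y : CostructuredArrow u.op (op W)} (f g : X ⟶ Y) :
    ∃ (T : CostructuredArrow u.op (op W)) (h : Y ⟶ T), f ≫ h = g ≫ h := by
  have hw : Y.hom.unop ≫ u.map f.left.unop = Y.hom.unop ≫ u.map g.left.unop :=
    (congrArg Quiver.Hom.unop (CostructuredArrow.w f)).trans (congrArg Quiver.Hom.unop (CostructuredArrow.w g)).symm
  let hl := isLimitForkMapOfIsLimit u (equalizer.condition f.left.unop g.left.unop)
    (equalizerIsEqualizer f.left.unop g.left.unop)
  obtain ⟨b, h₁⟩ : ∃ b : W ⟶ u.obj (equalizer f.left.unop g.left.unop),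
      b ≫ u.map (equalizer.ι f.left.unop g.left.unop) = Y.hom.unop :=
    ⟨Fork.IsLimit.lift hl Y.hom.unop hw, Fork.IsLimit.lift_ι' hl Y.hom.unop hw⟩
  refine ⟨CostructuredArrow.mk (Y := op (equalizer f.left.unop g.left.unop)) b.op,
    CostructuredArrow.homMk (equalizer.ι f.left.unop g.left.unop).op (Quiver.Hom.unop_inj h₁), ?_⟩
  exact CostructuredArrow.hom_ext _ _ (Quiver.Hom.unop_inj (equalizer.condition _ _))

theorem mono_lan_map {P Q : Cᵒᵖ ⥤ AddCommGrpCat.{u}} (α : P ⟶ Q) [Mono α] : Mono (u.op.lan.map α) := by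
  rw [NatTrans.mono_iff_mono_app]
  rintro ⟨W⟩
  have : ∀ i, Mono ((Functor.whiskerLeft (CostructuredArrow.proj u.op (op W)) α).app i) := fun i =>
    (NatTrans.mono_iff_mono_app α).1 inferInstance _
  have : Mono (Functor.whiskerLeft (CostructuredArrow.proj u.op (op W)) α) := NatTrans.mono_of_mono_app _
  refine mono_colim_map (fun c => isFiltered_component (exists_span u W) (exists_par u W) c)
    (Functor.whiskerLeft (CostructuredArrow.proj u.op (op W)) α)
    (Functor.isPointwiseLeftKanExtensionOfIsLeftKanExtension (u.op.lan.obj P) (u.op.lanUnit.app P) (op W))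
    (Functor.isPointwiseLeftKanExtensionOfIsLeftKanExtension (u.op.lan.obj Q) (u.op.lanUnit.app Q) (op W))
    ((u.op.lan.map α).app (op W)) fun X => ?_
  show ((u.op.lanUnit.app P).app X.left ≫ (u.op.lan.obj P).map X.hom) ≫ (u.op.lan.map α).app (op W) =
    α.app X.left ≫ (u.op.lanUnit.app Q).app X.left ≫ (u.op.lan.obj Q).map X.hom
  have h := congr_app (u.op.lanUnit.naturality α) X.left
  dsimp at h
  rw [Category.assoc, NatTrans.naturality, ← Category.assoc]
  exact (congrArg (fun g => g ≫ (u.op.lan.obj Q).map _) h).symm.trans (Category.assoc _ _ _)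

theorem preservesFiniteLimits (J : GrothendieckTopology C) (K : GrothendieckTopology D) [u.IsContinuous J K] :
    PreservesFiniteLimits (u.sheafPullback AddCommGrpCat.{u} J K) := by
  let F := Functor.sheafPullbackConstruction.sheafPullback u AddCommGrpCat.{u} J K
  let adj : F ⊣ u.sheafPushforwardContinuous AddCommGrpCat.{u} J K :=
    Functor.sheafPullbackConstruction.sheafAdjunctionContinuous u AddCommGrpCat.{u} J K
  have : F.PreservesMonomorphisms := ⟨fun f _ => by
    have : Mono ((sheafToPresheaf J AddCommGrpCat.{u}).map f) := inferInstance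
    have : Mono (u.op.lan.map ((sheafToPresheaf J AddCommGrpCat.{u}).map f)) := mono_lan_map u _
    exact Functor.map_mono (presheafToSheaf K AddCommGrpCat.{u}) _⟩
  have : PreservesColimitsOfSize.{0, 0} F := adj.leftAdjoint_preservesColimits
  have : PreservesFiniteColimits F := ⟨fun J _ _ => inferInstance⟩
  have : F.Additive := adj.left_adjoint_additive
  have : PreservesFiniteLimits F := by
    rw [Functor.preservesFiniteLimits_iff_forall_exact_map_and_mono]
    intro X hX
    have := hX.mono_f
    exact ⟨(hX.exact.map_of_epi_of_preservesCokernel F hX.epi_g inferInstance), inferInstance⟩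
  exact preservesFiniteLimits_of_natIso
    (Functor.sheafPullbackConstruction.sheafPullbackIso u AddCommGrpCat.{u} J K).symm

end Groth.Agent.SiteCoh.LanMono
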