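import Mathlib.Algebra.Category.ModuleCat.Abelian
import Mathlib.CategoryTheory.Linear.LinearFunctor
import Mathlib.LinearAlgebra.TensorProduct.RightExactness
import Mathlib.Algebra.Module.FinitePresentation
import Mathlib.Algebra.Homology.ShortComplex.ModuleCat
import Mathlib.Algebra.Homology.ShortComplex.ExactFunctor
import Mathlib.CategoryTheory.Abelian.Exact

/-!
# Exact linear endofunctors of modules commute with tensoring by finitely presented modules
-/

set_option autoImplicit false

universe u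

open CategoryTheory TensorProduct

namespace Groth.Agent.SiteCoh.RightExactTensor

variable {Λ : Type u} [CommRing Λ] (T : ModuleCat.{u} Λ ⥤ ModuleCat.{u} Λ) [T.Additive] [T.Linear Λ]
  (M : Type u) [AddCommGroup M] [Module Λ M]

/-- `m ↦ m ⊗ q` -/
noncomputable abbrev incl {Q : Type u} [AddCommGroup Q] [Module Λ Q] (q : Q) :
    ModuleCat.of Λ M ⟶ ModuleCat.of Λ (M ⊗[Λ] Q) :=
  ModuleCat.ofHom ((TensorProduct.mk Λ M Q).flip q)

/-- The comparison map `T M ⊗ Q → T (M ⊗ Q)`. -/
noncomputable def φ (Q : Type u) [AddCommGroup Q] [Module Λ Q] :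
    (T.obj (ModuleCat.of Λ M) : Type u) ⊗[Λ] Q →ₗ[Λ] T.obj (ModuleCat.of Λ (M ⊗[Λ] Q)) :=
  TensorProduct.lift (LinearMap.flip
    { toFun := fun q => (T.map (incl M q)).hom
      map_add' := fun a b => by
        rw [show incl M (a + b) = incl (Λ := Λ) M a + incl M b by ext m; exact tmul_add m a b, T.map_add]
        rfl
      map_smul' := fun c a => by
        rw [show incl M (c • a) = c • incl (Λ := Λ) M a by ext m; exact tmul_smul c m a, T.map_smul]
        rfl })

theorem φ_tmul {Q : Type u} [AddCommGroup Q] [Module Λ Q] (s : T.obj (ModuleCat.of Λ M)) (q : Q) :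
    φ T M Q (s ⊗ₜ q) = (T.map (incl M q)).hom s := rfl

variable {M}

theorem φ_natural {Q Q' : Type u} [AddCommGroup Q] [Module Λ Q] [AddCommGroup Q'] [Module Λ Q']
    (g : Q →ₗ[Λ] Q') (x : (T.obj (ModuleCat.of Λ M) : Type u) ⊗[Λ] Q) :
    (T.map (ModuleCat.ofHom (g.lTensor M))).hom (φ T M Q x) = φ T M Q' (g.lTensor _ x) := by
  induction x using TensorProduct.induction_on with
  | zero => simp
  | add a b ha hb => simp only [map_add, ha, hb]
  | tmul s q =>
    rw [LinearMap.lTensor_tmul, φ_tmul, φ_tmul, ← ConcreteCategory.comp_apply (C := ModuleCat Λ)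
      (T.map (incl M q)) (T.map (ModuleCat.ofHom (g.lTensor M))), ← T.map_comp]
    rfl

/-- The coordinates of `M ⊗ Λⁿ`. -/
noncomputable abbrev proj (n : ℕ) (i : Fin n) :
    ModuleCat.of Λ (M ⊗[Λ] (Fin n → Λ)) ⟶ ModuleCat.of Λ M :=
  ModuleCat.ofHom ((TensorProduct.rid Λ M).toLinearMap ∘ₗ (LinearMap.proj i).lTensor M)

theorem sum_proj_incl (n : ℕ) :
    ∑ i, proj (M := M) n i ≫ incl M (Pi.single (M := fun _ : Fin n => Λ) i 1) = 𝟙 _ := by
  classical
  apply ModuleCat.hom_ext
  apply TensorProduct.ext'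
  intro m v
  simp only [ModuleCat.hom_sum, LinearMap.coe_sum, Finset.sum_apply]
  show ∑ i, ((v i • m) ⊗ₜ[Λ] Pi.single (M := fun _ : Fin n => Λ) i (1 : Λ)) = m ⊗ₜ v
  simp only [smul_tmul, ← tmul_sum]
  congr 1
  ext j
  simp [Finset.sum_apply, Pi.single_apply]

theorem φ_free_surjective (n : ℕ) : Function.Surjective (φ T M (Fin n → Λ)) := by
  intro y
  refine ⟨∑ i, (T.map (proj n i)).hom y ⊗ₜ Pi.single (M := fun _ : Fin n => Λ) i 1, ?_⟩
  have h := congrArg (fun f => (T.map f).hom y) (sum_proj_incl (M := M) (Λ := Λ) n)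
  rw [map_sum]
  simpa [φ_tmul, ModuleCat.hom_sum] using h

theorem φ_free_injective (n : ℕ) : Function.Injective (φ T M (Fin n → Λ)) := by
  classical
  let N := (T.obj (ModuleCat.of Λ M) : Type u)
  let back : T.obj (ModuleCat.of Λ (M ⊗[Λ] (Fin n → Λ))) →ₗ[Λ] N ⊗[Λ] (Fin n → Λ) :=
    ∑ i, (TensorProduct.mk Λ N (Fin n → Λ)).flip (Pi.single i 1) ∘ₗ (T.map (proj n i)).hom
  have h : ∀ x, back (φ T M (Fin n → Λ) x) = x := by
    intro x
    induction x using TensorProduct.induction_on with
    | zero => simp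
    | add a b ha hb => rw [map_add, map_add, ha, hb]
    | tmul s v =>
      have hs : ∀ i, (T.map (proj n i)).hom (φ T M _ (s ⊗ₜ v)) = v i • s := fun i => by
        rw [φ_tmul, ← ConcreteCategory.comp_apply (C := ModuleCat Λ) (T.map (incl M v))
          (T.map (proj n i)), ← T.map_comp,
          show incl M v ≫ proj n i = v i • 𝟙 (ModuleCat.of Λ M) by ext m; rfl, T.map_smul, T.map_id]
        rfl
      simp only [back, LinearMap.coe_sum, Finset.sum_apply, LinearMap.comp_apply, hs]
      show ∑ i, (v i • s) ⊗ₜ[Λ] Pi.single (M := fun _ : Fin n => Λ) i (1 : Λ) = s ⊗ₜ v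
      simp only [smul_tmul, ← tmul_sum]
      congr 1
      ext j
      simp [Finset.sum_apply, Pi.single_apply]
  exact Function.LeftInverse.injective h

variable [T.PreservesEpimorphisms] [T.PreservesHomology]

theorem φ_bijective (Q : Type u) [AddCommGroup Q] [Module Λ Q] [Module.FinitePresentation Λ Q] :
    Function.Bijective (φ T M Q) := by
  obtain ⟨n, m, f, g, hf, hfg⟩ := Module.FinitePresentation.exists_fin' Λ Q
  have hepi : Function.Surjective (T.map (ModuleCat.ofHom (f.lTensor M))).hom := by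
    have : Epi (ModuleCat.ofHom (f.lTensor M)) :=
      (ModuleCat.epi_iff_surjective _).2 (LinearMap.lTensor_surjective M hf)
    exact (ModuleCat.epi_iff_surjective _).1 inferInstance
  have hex : Function.Exact (T.map (ModuleCat.ofHom (g.lTensor M))).hom
      (T.map (ModuleCat.ofHom (f.lTensor M))).hom := by
    let S := ShortComplex.mk (ModuleCat.ofHom (g.lTensor M)) (ModuleCat.ofHom (f.lTensor M))
      (ModuleCat.hom_ext (lTensor_exact M hfg hf).linearMap_comp_eq_zero)
    have hS : S.Exact := (ShortComplex.ShortExact.moduleCat_exact_iff_function_exact S).2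
      (lTensor_exact M hfg hf)
    exact (ShortComplex.ShortExact.moduleCat_exact_iff_function_exact _).1 (hS.map T)
  refine ⟨(injective_iff_map_eq_zero _).2 fun x hx => ?_, fun y => ?_⟩
  · obtain ⟨x', rfl⟩ := LinearMap.lTensor_surjective _ hf x
    rw [← φ_natural] at hx
    obtain ⟨z, hz⟩ := (hex _).1 hx
    obtain ⟨w, rfl⟩ := φ_free_surjective T m z
    rw [φ_natural] at hz
    rw [← φ_free_injective T n hz, ← LinearMap.comp_apply, ← LinearMap.lTensor_comp,
      hfg.linearMap_comp_eq_zero, LinearMap.lTensor_zero, LinearMap.zero_apply]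
  · obtain ⟨y', rfl⟩ := hepi y
    obtain ⟨w, rfl⟩ := φ_free_surjective T n y'
    exact ⟨f.lTensor _ w, (φ_natural T f w).symm⟩

end Groth.Agent.SiteCoh.RightExactTensor
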