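import Groth.Agent.SiteCoh.ConstSections
import Groth.Agent.SiteCoh.RightExactTensor
import Mathlib.CategoryTheory.Sites.Abelian
import Mathlib.Algebra.Category.ModuleCat.Sheaf.Abelian
import Mathlib.Algebra.Category.ModuleCat.FilteredColimits
import Mathlib.CategoryTheory.Sites.LeftExact
import Mathlib.CategoryTheory.Linear.FunctorCategory

/-!
# Sections of constant sheaves of modules
-/

set_option autoImplicit false

universe u

open CategoryTheory CategoryTheory.Limits Opposite

namespace Groth.Agent.SiteCoh.ConstModule

variable {C : Type u} [SmallCategory C] (J : GrothendieckTopology C) (Λ : Type u) [CommRing Λ] (U : C)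

/-- `N ↦ N̲(U)` -/
noncomputable abbrev T : ModuleCat.{u} Λ ⥤ ModuleCat.{u} Λ :=
  constantSheaf J (ModuleCat.{u} Λ) ⋙ sheafToPresheaf J (ModuleCat.{u} Λ) ⋙
    (evaluation Cᵒᵖ (ModuleCat.{u} Λ)).obj (op U)

instance : PreservesFiniteLimits (constantSheaf J (ModuleCat.{u} Λ)) := comp_preservesFiniteLimits _ _

instance : (T J Λ U).Additive :=
  Functor.additive_of_preserves_binary_products _

instance : (presheafToSheaf J (ModuleCat.{u} Λ)).Linear Λ where
  map_smul {P Q} f a := by
    apply Sheaf.hom_ext
    apply sheafify_hom_ext J _ _ ((presheafToSheaf J (ModuleCat.{u} Λ)).obj Q).property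
    refine (toSheafify_naturality J (a • f)).symm.trans ?_
    refine Eq.trans ?_ (Linear.comp_smul _ _ _ (toSheafify J P) a
      ((presheafToSheaf J (ModuleCat.{u} Λ)).map f).hom).symm
    rw [Linear.smul_comp, toSheafify_naturality J f]

instance : (T J Λ U).Linear Λ where
  map_smul {X Y} f a := by
    have h : (Functor.const Cᵒᵖ).map (a • f) = a • (Functor.const Cᵒᵖ).map f := rfl
    show ((presheafToSheaf J (ModuleCat.{u} Λ)).map ((Functor.const Cᵒᵖ).map (a • f))).hom.app (op U) = _
    rw [h, Functor.map_smul]
    rfl

instance : (T J Λ U).PreservesEpimorphisms where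
  preserves {X Y} f _ := (ModuleCat.epi_iff_surjective _).2
    (ConstSections.surjective_sections J f ((ModuleCat.epi_iff_surjective f).1 inferInstance) U)

instance : (T J Λ U).PreservesHomology := Functor.preservesHomology_of_preservesEpis_and_kernels _

end Groth.Agent.SiteCoh.ConstModule
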