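import Groth.Agent.SiteCoh.HomRes
import Mathlib.CategoryTheory.Abelian.GrothendieckAxioms.Basic
import Mathlib.CategoryTheory.Limits.Types.Filtered
import Mathlib.Algebra.Category.Grp.FilteredColimits
import Mathlib.Algebra.Homology.DerivedCategory.Ext.ExactSequences

/-!
# Ext groups and filtered colimits in an abelian category with exact filtered colimits

If morphisms out of `M` into filtered colimits are determined at finite stages and filtered colimits
of injectives are `Ext(M, -)`-acyclic, then all `Ext^q(M, -)` preserve filtered colimits.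
-/

set_option autoImplicit false
open CategoryTheory CategoryTheory.Limits CategoryTheory.Abelian Opposite
universe u v

namespace Groth.Agent.SiteCoh.AbColim

variable {A : Type v} [Category.{u} A] [Abelian A] {I : Type u} [SmallCategory I] [IsFiltered I]
  [HasColimitsOfShape I A]

/-- Morphisms from `T` to the colimit come from a stage. -/
def Lifts (T : A) (D : I ⥤ A) : Prop :=
  ∀ t : T ⟶ colimit D, ∃ (i : I) (a : T ⟶ D.obj i), a ≫ colimit.ι D i = t

/-- Morphisms from `T` which vanish in the colimit vanish at some stage. -/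
def Vanishes (T : A) (D : I ⥤ A) : Prop :=
  ∀ (i : I) (a : T ⟶ D.obj i), a ≫ colimit.ι D i = 0 → ∃ (j : I) (φ : i ⟶ j), a ≫ D.map φ = 0

/-- Exactness of `Hom(P •, -)` passes to filtered colimits. -/
theorem exactAt_homCx_colimit (P : ChainComplex A ℕ) (D : I ⥤ A) (p : ℕ)
    (h₁ : Lifts (P.X (p + 1)) D) (h₂ : Vanishes (P.X (p + 1 + 1)) D)
    (h : ∀ i, ((HomRes.homCx P).obj (D.obj i)).ExactAt (p + 1)) :
    ((HomRes.homCx P).obj (colimit D)).ExactAt (p + 1) := by
  rw [HomologicalComplex.exactAt_iff' _ p (p + 1) (p + 1 + 1) (by simp) (by simp),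
    ShortComplex.ab_exact_iff]
  intro (c : P.X (p + 1) ⟶ colimit D) hc
  have hc' : P.d (p + 1 + 1) (p + 1) ≫ c = 0 :=
    (HomRes.homCx_d_apply P (colimit D) (p + 1) c).symm.trans hc
  obtain ⟨i, a, rfl⟩ := h₁ c
  rw [← Category.assoc] at hc'
  obtain ⟨j, φ, hφ⟩ := h₂ i _ hc'
  have hj := h j
  rw [HomologicalComplex.exactAt_iff' _ p (p + 1) (p + 1 + 1) (by simp) (by simp),
    ShortComplex.ab_exact_iff] at hj
  obtain ⟨e, he⟩ := hj (a ≫ D.map φ)
    ((HomRes.homCx_d_apply P (D.obj j) (p + 1) _).trans (by rw [← Category.assoc]; exact hφ))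
  have he' : P.d (p + 1) p ≫ (e : P.X p ⟶ D.obj j) = a ≫ D.map φ :=
    (HomRes.homCx_d_apply P (D.obj j) p e).symm.trans he
  refine ⟨(e : P.X p ⟶ D.obj j) ≫ colimit.ι D j, (HomRes.homCx_d_apply P _ p _).trans ?_⟩
  rw [reassoc_of% he', colimit.w]

section Embedding

variable [EnoughInjectives A] [HasProducts.{u} A] (D : I ⥤ A)

/-- A diagram of injectives receiving a given diagram by monomorphisms. -/
noncomputable def injDiagram : I ⥤ A where
  obj i := ∏ᶜ fun p : Σ j, (i ⟶ j) => Injective.under (D.obj p.1)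
  map {i i'} ψ := Pi.lift fun p =>
    Pi.π (fun p : Σ j, (i ⟶ j) => Injective.under (D.obj p.1)) ⟨p.1, ψ ≫ p.2⟩
  map_id i := Pi.hom_ext _ _ fun ⟨j, φ⟩ => by
    simp only [limit.lift_π, Fan.mk_π_app, Category.id_comp]
    exact congrArg (β := (∏ᶜ fun p : Σ j, (i ⟶ j) => Injective.under (D.obj p.1)) ⟶ Injective.under (D.obj j))
      (fun ψ : i ⟶ j => Pi.π (fun p : Σ j, (i ⟶ j) => Injective.under (D.obj p.1)) ⟨j, ψ⟩)
      (Category.id_comp φ)
  map_comp {i i' i''} f g := Pi.hom_ext _ _ fun ⟨j, φ⟩ => by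
    simp only [limit.lift_π, Fan.mk_π_app, Category.assoc]
    exact congrArg (β := (∏ᶜ fun p : Σ j, (i ⟶ j) => Injective.under (D.obj p.1)) ⟶ Injective.under (D.obj j))
      (fun ψ : i ⟶ j => Pi.π (fun p : Σ j, (i ⟶ j) => Injective.under (D.obj p.1)) ⟨j, ψ⟩)
      (Category.assoc f g φ)

instance injective_injDiagram (i : I) : Injective ((injDiagram D).obj i) :=
  inferInstanceAs (Injective (∏ᶜ fun p : Σ j, (i ⟶ j) => Injective.under (D.obj p.1)))

/-- The embedding into the diagram of injectives. -/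
noncomputable def toInjDiagram : D ⟶ injDiagram D where
  app i := Pi.lift fun p => D.map p.2 ≫ Injective.ι (D.obj p.1)
  naturality i i' ψ := Pi.hom_ext _ _ fun ⟨j, φ⟩ => by simp [injDiagram]

instance mono_toInjDiagram : Mono (toInjDiagram D) := by
  have : ∀ i, Mono ((toInjDiagram D).app i) := fun i => by
    have e : (toInjDiagram D).app i ≫ Pi.π (fun p : Σ j, (i ⟶ j) => Injective.under (D.obj p.1)) ⟨i, 𝟙 i⟩ =
        Injective.ι (D.obj i) :=
      (Pi.lift_π _ _).trans ((congrArg (· ≫ Injective.ι (D.obj i)) (D.map_id i)).trans (Category.id_comp _))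
    exact mono_of_mono_fac e
  exact NatTrans.mono_of_mono_app _

/-- The short exact sequence of diagrams. -/
noncomputable abbrev seq : ShortComplex (I ⥤ A) :=
  ShortComplex.mk (toInjDiagram D) (cokernel.π (toInjDiagram D)) (cokernel.condition _)

theorem seq_shortExact : (seq D).ShortExact :=
  { exact := ShortComplex.exact_of_g_is_cokernel _ (cokernelIsCokernel _) }

end Embedding

variable [HasExt.{u} A]

omit [IsFiltered I] [HasColimitsOfShape I A] in
theorem sub_comp {X Y Z : A} {n m p : ℕ} (α α' : Ext X Y n) (β : Ext Y Z m) (h : n + m = p) :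
    (α - α').comp β h = α.comp β h - α'.comp β h := by
  rw [sub_eq_add_neg, Ext.add_comp, Ext.neg_comp, ← sub_eq_add_neg]

omit [IsFiltered I] [HasColimitsOfShape I A] in
theorem push {M X Y X' Y' : A} {q : ℕ} (z : Ext M X q) {e : Ext X Y 1} {e' : Ext X' Y' 1}
    {a : X ⟶ X'} {b : Y ⟶ Y'}
    (h : e.comp (Ext.mk₀ b) (add_zero 1) = (Ext.mk₀ a).comp e' (zero_add 1)) :
    (z.comp e rfl).comp (Ext.mk₀ b) (add_zero (q + 1)) =
      (z.comp (Ext.mk₀ a) (add_zero q)).comp e' rfl := by
  rw [Ext.comp_assoc_of_third_deg_zero, h, Ext.comp_assoc_of_second_deg_zero]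

/-- Classes of degree `q` with values in colimits come from a stage. -/
def LiftsExt (M : A) (q : ℕ) (D : I ⥤ A) : Prop :=
  ∀ x : Ext M (colimit D) q, ∃ (i : I) (y : Ext M (D.obj i) q),
    y.comp (Ext.mk₀ (colimit.ι D i)) (add_zero q) = x

/-- Classes of degree `q` vanishing in the colimit vanish at some stage. -/
def VanishesExt (M : A) (q : ℕ) (D : I ⥤ A) : Prop :=
  ∀ (i : I) (y : Ext M (D.obj i) q), y.comp (Ext.mk₀ (colimit.ι D i)) (add_zero q) = 0 →
    ∃ (j : I) (φ : i ⟶ j), y.comp (Ext.mk₀ (D.map φ)) (add_zero q) = 0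

variable [HasExactColimitsOfShape I A] [EnoughInjectives A] [HasProducts.{u} A]

theorem liftsExt_and_vanishesExt (M : A) (hL : ∀ D : I ⥤ A, Lifts M D)
    (hV : ∀ D : I ⥤ A, Vanishes M D)
    (hac : ∀ G : I ⥤ A, (∀ i, Injective (G.obj i)) →
      ∀ q : ℕ, Subsingleton (Ext M (colimit G) (q + 1))) :
    ∀ (q : ℕ) (D : I ⥤ A), LiftsExt M q D ∧ VanishesExt M q D := by
  intro q
  induction q with
  | zero =>
    refine fun D => ⟨fun x => ?_, fun i y hy => ?_⟩
    · obtain ⟨t, rfl⟩ := (Ext.mk₀_bijective M (colimit D)).2 x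
      obtain ⟨i, a, ha⟩ := hL D t
      exact ⟨i, Ext.mk₀ a, by rw [Ext.mk₀_comp_mk₀, ha]⟩
    · obtain ⟨a, rfl⟩ := (Ext.mk₀_bijective M (D.obj i)).2 y
      rw [Ext.mk₀_comp_mk₀, Ext.mk₀_eq_zero_iff] at hy
      obtain ⟨j, φ, hφ⟩ := hV D i a hy
      exact ⟨j, φ, by rw [Ext.mk₀_comp_mk₀, hφ, Ext.mk₀_zero]⟩
  | succ q ih =>
    intro D
    let S := seq D
    have hS : S.ShortExact := seq_shortExact D
    have hc : (S.map (colim (J := I) (C := A))).ShortExact := hS.map_of_exact colim
    have he : ∀ i, (S.map ((evaluation I A).obj i)).ShortExact := fun i => hS.map_of_exact _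
    let τ : ∀ i, S.map ((evaluation I A).obj i) ⟶ S.map (colim (J := I) (C := A)) := fun i =>
      ShortComplex.homMk (colimit.ι S.X₁ i) (colimit.ι S.X₂ i) (colimit.ι S.X₃ i)
        (ι_colimMap S.f i) (ι_colimMap S.g i)
    let σ : ∀ {i j : I} (φ : i ⟶ j),
        S.map ((evaluation I A).obj i) ⟶ S.map ((evaluation I A).obj j) := fun φ =>
      ShortComplex.homMk (S.X₁.map φ) (S.X₂.map φ) (S.X₃.map φ)
        (S.f.naturality φ) (S.g.naturality φ)
    obtain ⟨ihL, ihV⟩ := ih S.X₃
    obtain ⟨ihL₂, -⟩ := ih S.X₂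
    refine ⟨fun x => ?_, fun i y hy => ?_⟩
    · obtain ⟨z, rfl⟩ : ∃ z : Ext M (colimit S.X₃) q, z.comp hc.extClass rfl = x :=
        Ext.covariant_sequence_exact₁ M hc x
          ((hac S.X₂ (fun i => injective_injDiagram D i) q).elim _ _) rfl
      obtain ⟨i, z', rfl⟩ := ihL z
      exact ⟨i, z'.comp (he i).extClass rfl,
        push z' (ShortComplex.ShortExact.extClass_naturality (he i) hc (τ i))⟩
    · have : Injective (S.map ((evaluation I A).obj i)).X₂ := injective_injDiagram D i
      obtain ⟨z, rfl⟩ : ∃ z : Ext M (S.X₃.obj i) q, z.comp (he i).extClass rfl = y :=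
        Ext.covariant_sequence_exact₁ M (he i) y (Ext.eq_zero_of_injective _) rfl
      have hz : (z.comp (Ext.mk₀ (colimit.ι S.X₃ i)) (add_zero q)).comp hc.extClass rfl = 0 :=
        (push z (ShortComplex.ShortExact.extClass_naturality (he i) hc (τ i))).symm.trans hy
      obtain ⟨w, hw⟩ := Ext.covariant_sequence_exact₃ M hc _ rfl hz
      obtain ⟨j, w', rfl⟩ := ihL₂ w
      let α := IsFiltered.leftToMax i j
      let β := IsFiltered.rightToMax i j
      let w'' := w'.comp (Ext.mk₀ (S.X₂.map β)) (add_zero q)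
      let d : Ext M (S.X₃.obj (IsFiltered.max i j)) q :=
        z.comp (Ext.mk₀ (S.X₃.map α)) (add_zero q) -
          w''.comp (Ext.mk₀ (S.g.app (IsFiltered.max i j))) (add_zero q)
      have hd : d.comp (Ext.mk₀ (colimit.ι S.X₃ (IsFiltered.max i j))) (add_zero q) = 0 := by
        have e : S.g.app (IsFiltered.max i j) ≫ colimit.ι S.X₃ _ = colimit.ι S.X₂ _ ≫ colim.map S.g :=
          (ι_colimMap S.g _).symm
        simp only [d, w'', sub_comp, Ext.comp_assoc_of_third_deg_zero, Ext.mk₀_comp_mk₀,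
          colimit.w, sub_eq_zero]
        refine hw.symm.trans ((Ext.comp_assoc_of_third_deg_zero _ _ _ _).trans ?_)
        refine congrArg (fun e => w'.comp e (add_zero q)) ?_
        change (Ext.mk₀ (colimit.ι S.X₂ j)).comp (Ext.mk₀ (colim.map S.g)) _ = _
        rw [Ext.mk₀_comp_mk₀]
        refine congrArg Ext.mk₀ ?_
        refine Eq.trans ?_ ((Category.assoc _ _ _).trans (congrArg (S.X₂.map β ≫ ·) e)).symm
        exact (colimit.w_assoc S.X₂ β _).symm
      obtain ⟨k, ψ, hψ⟩ := ihV _ d hd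
      refine ⟨k, α ≫ ψ, ?_⟩
      refine (push z (ShortComplex.ShortExact.extClass_naturality (he i) (he k) (σ (α ≫ ψ)))).trans ?_
      have hz' : z.comp (Ext.mk₀ (S.X₃.map (α ≫ ψ))) (add_zero q) =
          (w''.comp (Ext.mk₀ (S.X₂.map ψ)) (add_zero q)).comp (Ext.mk₀ (S.g.app k)) (add_zero q) := by
        simp only [d, sub_comp, Ext.comp_assoc_of_third_deg_zero, Ext.mk₀_comp_mk₀,
          sub_eq_zero] at hψ
        rw [Functor.map_comp, hψ]
        simp only [Ext.comp_assoc_of_third_deg_zero, Ext.mk₀_comp_mk₀, S.g.naturality]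
      refine (congrArg (fun e => Ext.comp e (he k).extClass rfl) hz').trans ?_
      exact (Ext.comp_assoc_of_second_deg_zero _ _ _ rfl).trans ((congrArg (fun e => Ext.comp _ e rfl)
        (ShortComplex.ShortExact.comp_extClass (he k))).trans (Ext.comp_zero _ _ _ _ rfl))

omit [HasExactColimitsOfShape I A] [EnoughInjectives A] [HasProducts.{u} A] in
/-- Stagewise bijectivity is preservation of the colimit. -/
theorem preservesColimit_extFunctor (M : A) (q : ℕ) (D : I ⥤ A) (hL : LiftsExt M q D)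
    (hV : VanishesExt M q D) :
    PreservesColimit D ((extFunctor (C := A) q).obj (op M)) := by
  let F := (extFunctor (C := A) q).obj (op M)
  have : PreservesColimitsOfShape I (forget AddCommGrpCat.{u}) :=
    PreservesFilteredColimitsOfSize.preserves_filtered_colimits I
  have : ReflectsColimitsOfShape I (forget AddCommGrpCat.{u}) :=
    reflectsColimitsOfShape_of_reflectsIsomorphisms
  refine preservesColimit_of_preserves_colimit_cocone (colimit.isColimit D)
    (isColimitOfReflects (forget AddCommGrpCat.{u}) ?_)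
  refine Types.FilteredColimit.isColimitOf _ _ ?_ ?_
  · intro (x : Ext M (colimit D) q)
    obtain ⟨i, y, hy⟩ := hL x
    exact ⟨i, y, hy.symm⟩
  · intro i j (xi : Ext M (D.obj i) q) (xj : Ext M (D.obj j) q) (h :
      xi.comp (Ext.mk₀ (colimit.ι D i)) (add_zero q) = xj.comp (Ext.mk₀ (colimit.ι D j)) (add_zero q))
    let d := xi.comp (Ext.mk₀ (D.map (IsFiltered.leftToMax i j))) (add_zero q) -
      xj.comp (Ext.mk₀ (D.map (IsFiltered.rightToMax i j))) (add_zero q)
    obtain ⟨k, ψ, hψ⟩ := hV _ d (by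
      simpa only [d, sub_comp, Ext.comp_assoc_of_third_deg_zero, Ext.mk₀_comp_mk₀, colimit.w,
        sub_eq_zero] using h)
    simp only [d, sub_comp, Ext.comp_assoc_of_third_deg_zero, Ext.mk₀_comp_mk₀, sub_eq_zero] at hψ
    refine ⟨k, IsFiltered.leftToMax i j ≫ ψ, IsFiltered.rightToMax i j ≫ ψ, ?_⟩
    change xi.comp (Ext.mk₀ (D.map _)) (add_zero q) = xj.comp (Ext.mk₀ (D.map _)) (add_zero q)
    rw [Functor.map_comp, Functor.map_comp]
    exact hψ

end Groth.Agent.SiteCoh.AbColim
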