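import Groth.Agent.SiteCoh.Psi
import Groth.Agent.DHA.KInjectiveResolution
import Groth.Agent.DHA.KInj.Products
import Groth.Agent.DHA.Brown.Coprod
import Mathlib.Algebra.Homology.HomologicalComplexLimits
import Mathlib.Algebra.DirectSum.Basic
import Groth.Prelude.Def_CohDer

/-!
# Maps from a compact sheaf into sums of uniformly bounded below objects
-/

set_option autoImplicit false

universe v u

open CategoryTheory CategoryTheory.Limits Pretriangulated DirectSum

attribute [local instance] Classical.propDecidable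

namespace Groth.Agent.SiteCoh.CompactBelow

section SumTo

variable {T : Type u} [Category.{v} T] [Preadditive T] {ι : Type v}

/-- `⊕ Hom(K, X i) → Hom(K, c.pt)`. -/
noncomputable def sumTo (K : T) {X : ι → T} (c : Cofan X) : (⨁ i, (K ⟶ X i)) →+ (K ⟶ c.pt) :=
  DirectSum.toAddMonoid fun i => Preadditive.rightComp K (c.inj i)

theorem sumTo_of (K : T) {X : ι → T} (c : Cofan X) (i : ι) (x : K ⟶ X i) :
    sumTo K c (DirectSum.of (fun i => (K ⟶ X i)) i x) = x ≫ c.inj i :=
  DirectSum.toAddMonoid_of _ _ _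

theorem sumTo_map {K : T} {X Y : ι → T} (c : Cofan X) (c' : Cofan Y) (φ : ∀ i, X i ⟶ Y i) (ψ : c.pt ⟶ c'.pt)
    (h : ∀ i, c.inj i ≫ ψ = φ i ≫ c'.inj i) (x : ⨁ i, (K ⟶ X i)) :
    sumTo K c' (DirectSum.map (fun i => Preadditive.rightComp K (φ i)) x) = sumTo K c x ≫ ψ := by
  refine DFunLike.congr_fun (f := (sumTo K c').comp (DirectSum.map fun i => Preadditive.rightComp K (φ i)))
    (g := (Preadditive.rightComp K ψ).comp (sumTo K c)) (DirectSum.addHom_ext fun i y => ?_) x
  show sumTo K c' (DirectSum.map _ (DirectSum.of (fun i => (K ⟶ X i)) i y)) = sumTo K c (DirectSum.of (fun i => (K ⟶ X i)) i y) ≫ ψ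
  rw [DirectSum.map_of, sumTo_of, sumTo_of, Category.assoc, h, ← Category.assoc]
  rfl

theorem sumTo_iso {K K' : T} (e : K' ≅ K) {X : ι → T} (c : Cofan X) (x : ⨁ i, (K ⟶ X i)) :
    sumTo K' c (DirectSum.map (fun i => Preadditive.leftComp (X i) e.hom) x) = e.hom ≫ sumTo K c x := by
  refine DFunLike.congr_fun (f := (sumTo K' c).comp (DirectSum.map fun i => Preadditive.leftComp (X i) e.hom))
    (g := (Preadditive.leftComp c.pt e.hom).comp (sumTo K c)) (DirectSum.addHom_ext fun i y => ?_) x
  show sumTo K' c (DirectSum.map _ (DirectSum.of (fun i => (K ⟶ X i)) i y)) = e.hom ≫ sumTo K c (DirectSum.of (fun i => (K ⟶ X i)) i y)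
  rw [DirectSum.map_of, sumTo_of, sumTo_of, ← Category.assoc]
  rfl

theorem bijective_of_isColimit (K : T) {X : ι → T} {c c' : Cofan X} (hc : IsColimit c) (hc' : IsColimit c')
    (h : Function.Bijective (sumTo K c)) : Function.Bijective (sumTo K c') := by
  let e := hc.coconePointUniqueUpToIso hc'
  have he : ⇑(sumTo K c') = (fun y => y ≫ e.hom) ∘ ⇑(sumTo K c) := funext fun x => by
    refine DFunLike.congr_fun (f := sumTo K c') (g := (Preadditive.rightComp K e.hom).comp (sumTo K c))
      (DirectSum.addHom_ext fun i y => ?_) x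
    show sumTo K c' (DirectSum.of _ i y) = sumTo K c (DirectSum.of _ i y) ≫ e.hom
    rw [sumTo_of, sumTo_of, Category.assoc]
    exact congrArg (y ≫ ·) (hc.comp_coconePointUniqueUpToIso_hom hc' ⟨i⟩).symm
  rw [he]
  exact Function.Bijective.comp ⟨fun a b hab => (cancel_mono e.hom).1 hab, fun y => ⟨y ≫ e.inv, by simp⟩⟩ h

theorem bijective_of_iso {K K' : T} (e : K' ≅ K) {X : ι → T} (c : Cofan X)
    (h : Function.Bijective (sumTo K c)) : Function.Bijective (sumTo K' c) := by
  have hm : Function.Bijective (DirectSum.map (fun i => Preadditive.leftComp (X i) e.hom) :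
      (⨁ i, (K ⟶ X i)) → ⨁ i, (K' ⟶ X i)) :=
    ⟨(DirectSum.map_injective _).2 fun i a b hab => (cancel_epi e.hom).1 hab,
      (DirectSum.map_surjective _).2 fun i y => ⟨e.inv ≫ y, e.hom_inv_id_assoc y⟩⟩
  refine (Function.Bijective.of_comp_iff _ hm).1 ?_
  have : ⇑(sumTo K' c) ∘ ⇑(DirectSum.map fun i => Preadditive.leftComp (X i) e.hom) =
      (fun y => e.hom ≫ y) ∘ ⇑(sumTo K c) := funext fun x => sumTo_iso e c x
  rw [this]
  exact Function.Bijective.comp ⟨fun a b hab => (cancel_epi e.hom).1 hab, fun y => ⟨e.inv ≫ y, by simp⟩⟩ h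

theorem exists_lift {K : T} {X Y : ι → T} (φ : ∀ i, X i ⟶ Y i) (y : ⨁ i, (K ⟶ Y i))
    (hy : ∀ i, ∃ x : K ⟶ X i, x ≫ φ i = y i) :
    ∃ x : ⨁ i, (K ⟶ X i), DirectSum.map (fun i => Preadditive.rightComp K (φ i)) x = y := by
  choose f hf using hy
  refine ⟨DFinsupp.mk (DFinsupp.support y) fun i => f i.1, DFinsupp.ext fun i => ?_⟩
  rw [DirectSum.map_apply]
  by_cases hi : i ∈ DFinsupp.support y
  · rw [DFinsupp.mk_of_mem hi]
    exact hf i
  · rw [DFinsupp.mk_of_notMem hi, map_zero]
    exact (DFinsupp.notMem_support_iff.1 hi).symm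

end SumTo

variable {A : Type u} [Category.{v} A] [Abelian A] [IsGrothendieckAbelian.{v} A]
  [HasDerivedCategory.{v} A] [HasExt.{v} A]

theorem enough_kInjective (K : CochainComplex A ℤ) :
    ∃ (I : CochainComplex A ℤ) (f : K ⟶ I), I.IsKInjective ∧ QuasiIso f := by
  obtain ⟨I, f, h1, h2, -⟩ := DHA.KInj.exists_resolution A K
  exact ⟨I, f, h1, h2⟩

theorem hasColimitsOfShape (ι : Type v) : HasColimitsOfShape (Discrete ι) (DerivedCategory A) := ⟨fun F =>
  have := DHA.KInj.hasCoproduct_of_enough_kInjective enough_kInjective (F.obj ∘ Discrete.mk)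
  hasColimit_of_iso Discrete.natIsoFunctor⟩

attribute [local instance] hasColimitsOfShape

variable {ι : Type v}

theorem isColimit_single (n : ℤ) (F : ι → A) :
    Nonempty (IsColimit (Cofan.mk ((DerivedCategory.singleFunctor A n).obj (∐ F))
      (fun i => (DerivedCategory.singleFunctor A n).map (Sigma.ι F i)))) := by
  let S := HomologicalComplex.single A (ComplexShape.up ℤ) n
  obtain ⟨hc⟩ := DHA.KInj.nonempty_isColimit_Q enough_kInjective (fun i => S.obj (F i))
  refine ⟨IsColimit.ofIsoColimit hc (Cofan.ext (DerivedCategory.Q.mapIso (PreservesCoproduct.iso S F).symm) fun i => ?_)⟩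
  show DerivedCategory.Q.map (Sigma.ι _ i) ≫ DerivedCategory.Q.map (PreservesCoproduct.iso S F).inv =
    DerivedCategory.Q.map (S.map (Sigma.ι F i))
  rw [← Functor.map_comp, PreservesCoproduct.inv_hom]
  exact congrArg _ (ι_comp_sigmaComparison S F i)

theorem isGE_coproduct (n : ℤ) (X : ι → DerivedCategory A) (h : ∀ i, (X i).IsGE n) : (∐ X).IsGE n := by
  choose K hK e using fun i => DerivedCategory.exists_iso_Q_obj_of_isGE (X i) n
  obtain ⟨hc⟩ := DHA.KInj.nonempty_isColimit_Q enough_kInjective K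
  have : (∐ K).IsStrictlyGE n := by
    rw [CochainComplex.isStrictlyGE_iff]
    intro j hj
    refine (IsZero.iff_id_eq_zero _).2 (Cofan.IsColimit.hom_ext
      (isColimitCofanMkObjOfIsColimit (HomologicalComplex.eval A (ComplexShape.up ℤ) j) K _ (coproductIsCoproduct K))
      _ _ fun i => ?_)
    exact ((K i).isZero_of_isStrictlyGE n j hj).eq_of_src _ _
  let e' : DerivedCategory.Q.obj (∐ K) ≅ ∐ X :=
    hc.coconePointUniqueUpToIso (coproductIsCoproduct fun i => DerivedCategory.Q.obj (K i)) ≪≫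
      Sigma.mapIso fun i => (e i).some.symm
  have : (DerivedCategory.Q.obj (∐ K)).IsGE n := (DerivedCategory.isGE_Q_obj_iff _ _).2 inferInstance
  exact DerivedCategory.TStructure.t.isGE_of_iso e' n

variable (G : A)

/-- Composition with an isomorphism. -/
noncomputable def postIso {T : Type*} [Category T] [Preadditive T] (Z : T) {X Y : T} (e : X ≅ Y) :
    (Z ⟶ X) ≃+ (Z ⟶ Y) :=
  AddEquiv.ofBijective (Preadditive.rightComp Z e.hom)
    ⟨fun _ _ hab => (cancel_mono e.hom).1 hab, fun y => ⟨y ≫ e.inv, by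
      show (y ≫ e.inv) ≫ e.hom = y
      simp⟩⟩

/-- Maps between single objects are `Ext` classes. -/
noncomputable def eSingle (q n : ℤ) (k : ℕ) (hk : n + k = q) (F : A) :
    ((DerivedCategory.singleFunctor A q).obj G ⟶ (DerivedCategory.singleFunctor A n).obj F) ≃+
      Abelian.Ext G F k :=
  (TruncAcyclic.shiftHom G q ((DerivedCategory.singleFunctor A n).obj F)).trans
    ((postIso _ (((DerivedCategory.singleFunctors A).shiftIso q (n - q) n (by lia)).app F ≪≫
      (((DerivedCategory.singleFunctors A).shiftIso (k : ℤ) (n - q) 0 (by lia)).app F).symm)).trans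
        Abelian.Ext.homAddEquiv.symm)

theorem eSingle_natural (q n : ℤ) (k : ℕ) (hk : n + k = q) {F F' : A} (f : F ⟶ F')
    (x : (DerivedCategory.singleFunctor A q).obj G ⟶ (DerivedCategory.singleFunctor A n).obj F) :
    eSingle G q n k hk F' (x ≫ (DerivedCategory.singleFunctor A n).map f) =
      (eSingle G q n k hk F x).comp (Abelian.Ext.mk₀ f) (add_zero k) := by
  apply Abelian.Ext.homEquiv.injective
  refine Eq.trans ?_ (Abelian.Ext.comp_hom _ _ _).symm
  rw [Abelian.Ext.mk₀_hom, ShiftedHom.comp_mk₀]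
  simp only [eSingle, AddEquiv.trans_apply]
  refine (Abelian.Ext.homAddEquiv.apply_symm_apply _).trans
    (Eq.trans ?_ (congrArg (· ≫ _) (Abelian.Ext.homAddEquiv.apply_symm_apply _)).symm)
  show TruncAcyclic.shiftHom G q _ (x ≫ _) ≫ _ = (TruncAcyclic.shiftHom G q _ x ≫ _) ≫ _
  rw [Psi.shiftHom_comp, Category.assoc, Category.assoc]
  congr 1
  simp only [Iso.trans_hom, Iso.app_hom, Iso.symm_hom, Iso.app_inv, Category.assoc]
  erw [((DerivedCategory.singleFunctors A).shiftIso q (n - q) n (by lia)).hom.naturality_assoc f]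
  congr 1
  exact ((DerivedCategory.singleFunctors A).shiftIso (k : ℤ) (n - q) 0 (by lia)).inv.naturality f

/-- `⊕ Ext(G, F i) → Ext(G, ∐ F)`. -/
noncomputable def extSum (k : ℕ) (F : ι → A) : (⨁ i, Abelian.Ext G (F i) k) →+ Abelian.Ext G (∐ F) k :=
  DirectSum.toAddMonoid fun i =>
    AddMonoidHom.mk' (fun x : Abelian.Ext G (F i) k => x.comp (Abelian.Ext.mk₀ (Sigma.ι F i)) (add_zero k))
      (fun x y => Abelian.Ext.add_comp x y _ (add_zero k))

theorem eSingle_sumTo (q n : ℤ) (k : ℕ) (hk : n + k = q) (F : ι → A)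
    (x : ⨁ i, ((DerivedCategory.singleFunctor A q).obj G ⟶ (DerivedCategory.singleFunctor A n).obj (F i))) :
    eSingle G q n k hk (∐ F) (sumTo ((DerivedCategory.singleFunctor A q).obj G)
      (Cofan.mk ((DerivedCategory.singleFunctor A n).obj (∐ F))
        fun i => (DerivedCategory.singleFunctor A n).map (Sigma.ι F i)) x) =
      extSum G k F (DirectSum.map (fun i => (eSingle G q n k hk (F i)).toAddMonoidHom) x) := by
  induction x using DirectSum.induction_on with
  | zero => simp only [map_zero]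
  | of i y =>
    rw [sumTo_of, DirectSum.map_of, extSum, DirectSum.toAddMonoid_of]
    exact eSingle_natural G q n k hk (Sigma.ι F i) y
  | add x y hx hy => simp only [map_add, hx, hy]

theorem bijective_sumTo_single (q n : ℤ) (k : ℕ) (hk : n + k = q) (F : ι → A)
    (hb : Function.Bijective (extSum G k F)) :
    Function.Bijective (sumTo ((DerivedCategory.singleFunctor A q).obj G)
      (Cofan.mk ((DerivedCategory.singleFunctor A n).obj (∐ F))
        fun i => (DerivedCategory.singleFunctor A n).map (Sigma.ι F i))) := by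
  have hμ : Function.Bijective (DirectSum.map (fun i => (eSingle G q n k hk (F i)).toAddMonoidHom)) :=
    ⟨(DirectSum.map_injective _).2 fun i => (eSingle G q n k hk (F i)).injective,
      (DirectSum.map_surjective _).2 fun i => (eSingle G q n k hk (F i)).surjective⟩
  refine (Function.Bijective.of_comp_iff' (eSingle G q n k hk (∐ F)).bijective _).1 ?_
  exact (funext (eSingle_sumTo G q n k hk F) :
    (⇑(eSingle G q n k hk (∐ F)) ∘ _) = _) ▸ hb.comp hμ

variable (hG : ∀ (k : ℕ) (ι : Type v) (F : ι → A), Function.Bijective (extSum G k F))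

theorem bijective_of_lt (q n : ℤ) (hqn : q < n) (X : ι → DerivedCategory A) (h : ∀ i, (X i).IsGE n) :
    Function.Bijective (sumTo ((DerivedCategory.singleFunctor A q).obj G) (Cofan.mk (∐ X) (Sigma.ι X))) := by
  refine ⟨(injective_iff_map_eq_zero _).2 fun x _ => DFinsupp.ext fun i => ?_, fun y => ⟨0, ?_⟩⟩
  · have := h i
    exact DerivedCategory.TStructure.t.zero_of_isLE_of_isGE (x i) q n hqn inferInstance inferInstance
  · have := isGE_coproduct n X h
    exact (map_zero _).trans (DerivedCategory.TStructure.t.zero_of_isLE_of_isGE y q n hqn inferInstance this).symm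

include hG in
theorem bijective_single (q n : ℤ) (X : ι → DerivedCategory A) (F : ι → A)
    (e : ∀ i, (DerivedCategory.singleFunctor A n).obj (F i) ≅ X i) :
    Function.Bijective (sumTo ((DerivedCategory.singleFunctor A q).obj G) (Cofan.mk (∐ X) (Sigma.ι X))) := by
  rcases lt_or_ge q n with hqn | hqn
  · exact bijective_of_lt G q n hqn X fun i => DerivedCategory.TStructure.t.isGE_of_iso (e i) n
  obtain ⟨k, hk⟩ := Int.le.dest hqn
  let K := (DerivedCategory.singleFunctor A q).obj G
  let c := Cofan.mk ((DerivedCategory.singleFunctor A n).obj (∐ F))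
    (fun i => (DerivedCategory.singleFunctor A n).map (Sigma.ι F i))
  obtain ⟨hc⟩ := isColimit_single n F
  have hb : Function.Bijective (sumTo K c) := bijective_sumTo_single G q n k (by omega) F (hG k ι F)
  let c' : Cofan X := Cofan.mk ((DerivedCategory.singleFunctor A n).obj (∐ F))
    (fun i => (e i).inv ≫ (DerivedCategory.singleFunctor A n).map (Sigma.ι F i))
  have hc' : IsColimit c' := Cofan.IsColimit.mk _
    (fun s => Cofan.IsColimit.desc hc fun i => (e i).hom ≫ s.inj i)
    (fun s i => by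
      show ((e i).inv ≫ c.inj i) ≫ _ = s.inj i
      rw [Category.assoc, Cofan.IsColimit.fac hc, Iso.inv_hom_id_assoc])
    (fun s m hm => Cofan.IsColimit.hom_ext hc _ _ fun i => by
      rw [Cofan.IsColimit.fac hc]
      show c.inj i ≫ m = (e i).hom ≫ s.inj i
      rw [← hm i]
      exact ((congrArg ((e i).hom ≫ ·) (Category.assoc _ _ _)).trans ((e i).hom_inv_id_assoc _)).symm)
  refine bijective_of_isColimit K hc' (coproductIsCoproduct X) ?_
  have hm : Function.Bijective (DirectSum.map (fun i => Preadditive.rightComp K (e i).hom) :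
      (⨁ i, (K ⟶ (DerivedCategory.singleFunctor A n).obj (F i))) → ⨁ i, (K ⟶ X i)) :=
    ⟨(DirectSum.map_injective _).2 fun i a b hab => (cancel_mono (e i).hom).1 hab,
      (DirectSum.map_surjective _).2 fun i y => ⟨y ≫ (e i).inv, by
        show (y ≫ (e i).inv) ≫ (e i).hom = y
        simp⟩⟩
  refine (Function.Bijective.of_comp_iff _ hm).1 ?_
  have : ⇑(sumTo K c') ∘ ⇑(DirectSum.map fun i => Preadditive.rightComp K (e i).hom) = ⇑(sumTo K c) :=
    funext fun x => (sumTo_map c c' (fun i => (e i).hom) (𝟙 _) (fun i => by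
      show c.inj i ≫ 𝟙 _ = (e i).hom ≫ (e i).inv ≫ _
      rw [Iso.hom_inv_id_assoc]
      exact Category.comp_id _) x).trans (Category.comp_id _)
  rw [this]
  exact hb

include hG in
theorem bijective_of_isGE : ∀ (d : ℕ) (q n : ℤ), q < n + d → ∀ (X : ι → DerivedCategory A), (∀ i, (X i).IsGE n) →
    Function.Bijective (sumTo ((DerivedCategory.singleFunctor A q).obj G) (Cofan.mk (∐ X) (Sigma.ι X))) := by
  intro d
  induction d with
  | zero => exact fun q n hqn => bijective_of_lt G q n (by omega)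
  | succ d ih =>
    intro q n hqn X hX
    let t := (DerivedCategory.TStructure.t : Triangulated.TStructure (DerivedCategory A))
    let T := fun i => (t.triangleLTGE (n + 1)).obj (X i)
    let A₁ := fun i => (t.truncLT (n + 1)).obj (X i)
    let C₁ := fun i => (t.truncGE (n + 1)).obj (X i)
    let α : ∀ i, A₁ i ⟶ X i := fun i => (t.truncLTι (n + 1)).app (X i)
    let π : ∀ i, X i ⟶ C₁ i := fun i => (t.truncGEπ (n + 1)).app (X i)
    let δ : ∀ i, C₁ i ⟶ (A₁ i)⟦(1 : ℤ)⟧ := fun i => (t.truncGEδLT (n + 1)).app (X i)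
    let δT : ∐ C₁ ⟶ (∐ A₁)⟦(1 : ℤ)⟧ := Sigma.desc fun i => δ i ≫ (Sigma.ι A₁ i)⟦(1 : ℤ)⟧'
    have hT : Triangle.mk (Limits.Sigma.map α) (Limits.Sigma.map π) δT ∈
        (Pretriangulated.distinguishedTriangles : Set (Triangle (DerivedCategory A))) :=
      DHA.Brown.coproductTriangle_distinguished T fun i => t.triangleLTGE_distinguished (n + 1) (X i)
    have hTi := fun i => t.triangleLTGE_distinguished (n + 1) (X i)
    choose F _ e using fun i => Groth.Agent.KFlat.TruncHom.truncLT_succ_iso_single (X i) n (hX i)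
    let e₀ : ∀ i, (DerivedCategory.singleFunctor A n).obj (F i) ≅ A₁ i := fun i => (e i).some.symm
    let K := fun q : ℤ => (DerivedCategory.singleFunctor A q).obj G
    let cA : Cofan A₁ := Cofan.mk (∐ A₁) (Sigma.ι A₁)
    let cX : Cofan X := Cofan.mk (∐ X) (Sigma.ι X)
    let cC : Cofan C₁ := Cofan.mk (∐ C₁) (Sigma.ι C₁)
    have hA : ∀ q, Function.Bijective (sumTo (K q) cA) := fun q => bijective_single G hG q n A₁ F e₀
    have hC : ∀ q, q < n + 1 + d → Function.Bijective (sumTo (K q) cC) := fun q hq =>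
      ih q (n + 1) hq C₁ fun i => inferInstanceAs (t.IsGE ((t.truncGE (n + 1)).obj (X i)) (n + 1))
    let cA₁ : Cofan fun i => (A₁ i)⟦(1 : ℤ)⟧ := Cofan.mk ((∐ A₁)⟦(1 : ℤ)⟧) fun i => (Sigma.ι A₁ i)⟦(1 : ℤ)⟧'
    have hA₁ : ∀ q, Function.Bijective (sumTo (K q) cA₁) := fun q =>
      bijective_of_isColimit (K q) (coproductIsCoproduct _) (DHA.Brown.isColimitShift A₁ 1)
        (bijective_single G hG q (n - 1) _ F fun i =>
          (((DerivedCategory.singleFunctors A).shiftIso 1 (n - 1) n (by lia)).app (F i)).symm ≪≫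
            (shiftFunctor (DerivedCategory A) (1 : ℤ)).mapIso (e₀ i))
    have hπ : ∀ {q : ℤ} (x : ⨁ i, (K q ⟶ X i)),
        sumTo (K q) cC (DirectSum.map (fun i => Preadditive.rightComp (K q) (π i)) x) =
          sumTo (K q) cX x ≫ Limits.Sigma.map π :=
      fun x => sumTo_map cX cC π _ (fun i => Sigma.ι_map π i) x
    have hα : ∀ {q : ℤ} (x : ⨁ i, (K q ⟶ A₁ i)),
        sumTo (K q) cX (DirectSum.map (fun i => Preadditive.rightComp (K q) (α i)) x) =
          sumTo (K q) cA x ≫ Limits.Sigma.map α :=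
      fun x => sumTo_map cA cX α _ (fun i => Sigma.ι_map α i) x
    have hδ : ∀ {q : ℤ} (x : ⨁ i, (K q ⟶ C₁ i)),
        sumTo (K q) cA₁ (DirectSum.map (fun i => Preadditive.rightComp (K q) (δ i)) x) =
          sumTo (K q) cC x ≫ δT :=
      fun x => sumTo_map cC cA₁ δ _ (fun i => Sigma.ι_desc _ i) x
    constructor
    · refine (injective_iff_map_eq_zero _).2 fun x hx => ?_
      have hxC : DirectSum.map (fun i => Preadditive.rightComp (K q) (π i)) x = 0 :=
        (hC q (by omega)).1 (by rw [hπ, map_zero]; exact (congrArg (· ≫ Limits.Sigma.map π) hx).trans zero_comp)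
      obtain ⟨a, ha⟩ := exists_lift α x fun i => by
        have h0 := congrArg (fun z : ⨁ i, (K q ⟶ C₁ i) => z i) hxC
        simp only [DirectSum.map_apply] at h0
        obtain ⟨g, hg⟩ := Triangle.coyoneda_exact₂ _ (hTi i) (x i) h0
        exact ⟨g, hg.symm⟩
      let h := sumTo (K q) cA a
      have hh : h ≫ Limits.Sigma.map α = 0 := by rw [← hα, ha]; exact hx
      obtain ⟨g₀, hg₀⟩ := Triangle.coyoneda_exact₁ _ hT (h⟦(1 : ℤ)⟧') (by
        show h⟦(1 : ℤ)⟧' ≫ (Limits.Sigma.map α)⟦(1 : ℤ)⟧' = 0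
        rw [← Functor.map_comp, hh, Functor.map_zero])
      let eK : (K q)⟦(1 : ℤ)⟧ ≅ K (q - 1) :=
        ((DerivedCategory.singleFunctors A).shiftIso 1 (q - 1) q (by lia)).app G
      obtain ⟨z, hz⟩ := (bijective_of_iso eK cC (hC (q - 1) (by omega))).2 g₀
      choose b hb using fun i => (shiftFunctor (DerivedCategory A) (1 : ℤ)).map_surjective (z i ≫ δ i)
      let bb : ⨁ i, (K q ⟶ A₁ i) := DFinsupp.mk (DFinsupp.support z) fun i => b i.1
      have hbb : ∀ i, (bb i)⟦(1 : ℤ)⟧' = z i ≫ δ i := fun i => by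
        by_cases hi : i ∈ DFinsupp.support z
        · exact (congrArg _ (DFinsupp.mk_of_mem hi)).trans (hb i)
        · rw [show bb i = 0 from DFinsupp.mk_of_notMem hi, Functor.map_zero, DFinsupp.notMem_support_iff.1 hi,
            zero_comp]
      have hab : a = bb := by
        refine (hA q).1 ((shiftFunctor (DerivedCategory A) (1 : ℤ)).map_injective ?_)
        let ψ : (⨁ i, (K q ⟶ A₁ i)) →+ ⨁ i, ((K q)⟦(1 : ℤ)⟧ ⟶ (A₁ i)⟦(1 : ℤ)⟧) :=
          DirectSum.map fun i => (shiftFunctor (DerivedCategory A) (1 : ℤ)).mapAddHom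
        have hψ : ∀ y, sumTo ((K q)⟦(1 : ℤ)⟧) cA₁ (ψ y) = (sumTo (K q) cA y)⟦(1 : ℤ)⟧' := fun y =>
          DFunLike.congr_fun (f := (sumTo ((K q)⟦(1 : ℤ)⟧) cA₁).comp ψ)
            (g := (shiftFunctor (DerivedCategory A) (1 : ℤ)).mapAddHom.comp (sumTo (K q) cA))
            (DirectSum.addHom_ext fun i w => by
              show sumTo _ cA₁ (DirectSum.map _ (DirectSum.of (fun i => (K q ⟶ A₁ i)) i w)) = (sumTo (K q) cA (DirectSum.of (fun i => (K q ⟶ A₁ i)) i w))⟦(1 : ℤ)⟧'
              rw [DirectSum.map_of, sumTo_of, sumTo_of]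
              exact ((shiftFunctor (DerivedCategory A) (1 : ℤ)).map_comp w (Sigma.ι A₁ i)).symm) y
        rw [← hψ bb]
        have hψb : ψ bb = DirectSum.map (fun i => Preadditive.rightComp _ (δ i)) z := DFinsupp.ext fun i => by
          simp only [ψ, DirectSum.map_apply]
          exact hbb i
        rw [hψb]
        refine hg₀.trans ?_
        refine ((congrArg (· ≫ δT) hz).symm.trans ?_)
        exact (sumTo_map cC cA₁ δ δT (fun i => Sigma.ι_desc _ i) z).symm
      refine DFinsupp.ext fun i => ?_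
      show x i = 0
      rw [← ha, DirectSum.map_apply, hab]
      show bb i ≫ α i = 0
      apply (shiftFunctor (DerivedCategory A) (1 : ℤ)).map_injective
      rw [Functor.map_comp, hbb, Functor.map_zero, Category.assoc]
      exact (congrArg (z i ≫ ·) (Pretriangulated.comp_distTriang_mor_zero₃₁ _ (hTi i))).trans comp_zero
    · intro y
      obtain ⟨z, hz⟩ := (hC q (by omega)).2 (y ≫ Limits.Sigma.map π)
      have h0 : DirectSum.map (fun i => Preadditive.rightComp (K q) (δ i)) z = 0 := (hA₁ q).1 (by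
        rw [hδ, hz, map_zero, Category.assoc]
        exact (congrArg (y ≫ ·) (Pretriangulated.comp_distTriang_mor_zero₂₃ _ hT)).trans comp_zero)
      obtain ⟨w, hw⟩ := exists_lift π z fun i => by
        have h1 := congrArg (fun s : ⨁ i, (K q ⟶ (A₁ i)⟦(1 : ℤ)⟧) => s i) h0
        simp only [DirectSum.map_apply] at h1
        obtain ⟨g, hg⟩ := Triangle.coyoneda_exact₃ _ (hTi i) (z i) h1
        exact ⟨g, hg.symm⟩
      obtain ⟨g, hg⟩ := Triangle.coyoneda_exact₂ _ hT (y - sumTo (K q) cX w) (by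
        show (y - sumTo (K q) cX w) ≫ Limits.Sigma.map π = 0
        rw [Preadditive.sub_comp, ← hπ, hw, hz, sub_self])
      obtain ⟨a, ha⟩ := (hA q).2 g
      refine ⟨w + DirectSum.map (fun i => Preadditive.rightComp (K q) (α i)) a, ?_⟩
      rw [map_add, hα, ha]
      exact (congrArg (sumTo (K q) cX w + ·) hg.symm).trans (add_sub_cancel _ _)

include hG in
theorem bijective_homSum (X : ι → DerivedCategory A) [HasCoproduct X] (n : ℤ) (hX : ∀ i, (X i).IsGE n) :
    Function.Bijective (CohDer.homSumToHomCoprod ((DerivedCategory.singleFunctor A 0).obj G) X) := by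
  have h := bijective_of_isGE G hG ((-n).toNat + 1) 0 n (by omega) X hX
  have h' := bijective_of_isColimit ((DerivedCategory.singleFunctor A 0).obj G)
    (coproductIsCoproduct X) (c' := Cofan.mk _ (Sigma.ι X)) (coproductIsCoproduct X) h
  have e : CohDer.homSumToHomCoprod ((DerivedCategory.singleFunctor A 0).obj G) X =
      sumTo ((DerivedCategory.singleFunctor A 0).obj G) (Cofan.mk _ (Sigma.ι X)) :=
    DirectSum.addHom_ext fun i y => by
      rw [sumTo_of]
      unfold CohDer.homSumToHomCoprod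
      exact DirectSum.toAddMonoid_of _ _ _
  rw [e]
  exact h'

end Groth.Agent.SiteCoh.CompactBelow

namespace Groth.Agent.SiteCoh.CompactBelow

/-- A coproduct of abelian groups is the direct sum. -/
theorem bijective_toAddMonoid {ι : Type v} {X : ι → AddCommGrpCat.{v}} {c : Cofan X} (hc : IsColimit c) :
    Function.Bijective (DirectSum.toAddMonoid fun i => (c.inj i).hom : (⨁ i, (X i : Type v)) → c.pt) := by
  let Φ : AddCommGrpCat.of (⨁ i, (X i : Type v)) ⟶ c.pt :=
    AddCommGrpCat.ofHom (DirectSum.toAddMonoid fun i => (c.inj i).hom)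
  let Ψ : c.pt ⟶ AddCommGrpCat.of (⨁ i, (X i : Type v)) :=
    Cofan.IsColimit.desc hc fun i => AddCommGrpCat.ofHom (DirectSum.of (fun i => (X i : Type v)) i)
  have h₁ : Ψ ≫ Φ = 𝟙 _ := Cofan.IsColimit.hom_ext hc _ _ fun i => by
    rw [← Category.assoc, Cofan.IsColimit.fac hc, Category.comp_id]
    refine AddCommGrpCat.ext fun x => ?_
    show DirectSum.toAddMonoid (fun i => (c.inj i).hom) (DirectSum.of (fun i => (X i : Type v)) i x) = c.inj i x
    exact DirectSum.toAddMonoid_of _ _ _
  have h₂ : Φ ≫ Ψ = 𝟙 _ := AddCommGrpCat.hom_ext (DirectSum.addHom_ext fun i x => by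
    show Ψ (DirectSum.toAddMonoid (fun i => (c.inj i).hom) (DirectSum.of (fun i => (X i : Type v)) i x)) =
      DirectSum.of (fun i => (X i : Type v)) i x
    rw [DirectSum.toAddMonoid_of]
    exact ConcreteCategory.congr_hom (Cofan.IsColimit.fac hc
      (fun i => AddCommGrpCat.ofHom (DirectSum.of (fun i => (X i : Type v)) i)) i) x)
  exact ⟨fun a b hab => (ConcreteCategory.congr_hom h₂ a).symm.trans
    ((congrArg Ψ hab).trans (ConcreteCategory.congr_hom h₂ b)),
    fun y => ⟨Ψ y, ConcreteCategory.congr_hom h₁ y⟩⟩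

end Groth.Agent.SiteCoh.CompactBelow

namespace Groth.Agent.SiteCoh.CompactBelow

theorem bijective_extSum_freeSheaf {C : Type v} [SmallCategory C] (J : GrothendieckTopology C) (U : C) (k : ℕ)
    (ι : Type v) [HasDerivedCategory.{v} (Sheaf J AddCommGrpCat.{v})] (F : ι → Sheaf J AddCommGrpCat.{v})
    [PreservesColimitsOfShape (Discrete ι) ((Sheaf.cohomologyPresheafFunctor J k).flip.obj (Opposite.op U))] :
    Function.Bijective (extSum (CohCx.freeSheaf J U) k F) := by
  let P := (Sheaf.cohomologyPresheafFunctor J k).flip.obj (Opposite.op U)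
  have hc := isColimitCofanMkObjOfIsColimit P F _ (coproductIsCoproduct F)
  exact bijective_toAddMonoid hc

end Groth.Agent.SiteCoh.CompactBelow
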