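import Groth.Agent.SiteCoh.TruncAcyclic
import Mathlib.Algebra.Homology.ShortComplex.Ab

/-!
# Cohomology of a termwise limit of complexes of abelian groups
-/

set_option autoImplicit false

universe u

open CategoryTheory CategoryTheory.Limits HomologicalComplex

namespace Groth.Agent.SiteCoh.CxLim

variable {K K' : CochainComplex AddCommGrpCat.{u} ℤ}

theorem iCycles_injective (m : ℤ) : Function.Injective (K.iCycles m) :=
  (AddCommGrpCat.mono_iff_injective _).1 inferInstance

theorem exists_cycle (m : ℤ) (x : K.X m) (hx : K.d m (m + 1) x = 0) : ∃ z, K.iCycles m z = x := by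
  have h : (ShortComplex.mk (K.iCycles m) (K.d m (m + 1)) (K.iCycles_d m (m + 1))).Exact :=
    ShortComplex.exact_of_f_is_kernel _ (K.cyclesIsKernel m (m + 1) (by simp))
  exact ((ShortComplex.ab_exact_iff _).1 h) x hx

theorem homologyπ_surjective (m : ℤ) : Function.Surjective (K.homologyπ m) :=
  (AddCommGrpCat.epi_iff_surjective _).1 inferInstance

theorem exists_toCycles (m : ℤ) (z : K.cycles m) (hz : K.homologyπ m z = 0) :
    ∃ b, K.toCycles (m - 1) m b = z := by
  have h : (ShortComplex.mk (K.toCycles (m - 1) m) (K.homologyπ m) (by simp)).Exact :=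
    ShortComplex.exact_of_g_is_cokernel _ (K.homologyIsCokernel (m - 1) m (by simp))
  exact ((ShortComplex.ab_exact_iff _).1 h) z hz

theorem homologyπ_toCycles (i m : ℤ) (b : K.X i) : K.homologyπ m (K.toCycles i m b) = 0 := by
  rw [← ConcreteCategory.comp_apply, HomologicalComplex.toCycles_comp_homologyπ]
  rfl

theorem iCycles_toCycles (i m : ℤ) (b : K.X i) : K.iCycles m (K.toCycles i m b) = K.d i m b := by
  rw [← ConcreteCategory.comp_apply, HomologicalComplex.toCycles_i]

theorem d_iCycles (i m : ℤ) (z : K.cycles i) : K.d i m (K.iCycles i z) = 0 := by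
  rw [← ConcreteCategory.comp_apply, HomologicalComplex.iCycles_d]
  rfl

theorem map_toCycles (f : K ⟶ K') (i m : ℤ) (b : K.X i) :
    cyclesMap f m (K.toCycles i m b) = K'.toCycles i m (f.f i b) := by
  apply iCycles_injective
  rw [iCycles_toCycles, ← ConcreteCategory.comp_apply, HomologicalComplex.cyclesMap_i, ConcreteCategory.comp_apply,
    iCycles_toCycles, ← ConcreteCategory.comp_apply, ← f.comm, ConcreteCategory.comp_apply]

theorem map_iCycles (f : K ⟶ K') (m : ℤ) (z : K.cycles m) :
    K'.iCycles m (cyclesMap f m z) = f.f m (K.iCycles m z) := by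
  rw [← ConcreteCategory.comp_apply, HomologicalComplex.cyclesMap_i, ConcreteCategory.comp_apply]

theorem map_homologyπ (f : K ⟶ K') (m : ℤ) (z : K.cycles m) :
    homologyMap f m (K.homologyπ m z) = K'.homologyπ m (cyclesMap f m z) := by
  rw [← ConcreteCategory.comp_apply, HomologicalComplex.homologyπ_naturality, ConcreteCategory.comp_apply]

theorem map_comm (f : K ⟶ K') (i m : ℤ) (b : K.X i) : K'.d i m (f.f i b) = f.f m (K.d i m b) := by
  rw [← ConcreteCategory.comp_apply, f.comm, ConcreteCategory.comp_apply]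

theorem bijective (X : ℕ → CochainComplex AddCommGrpCat.{u} ℤ) (τ : ∀ n, X (n + 1) ⟶ X n)
    (L : CochainComplex AddCommGrpCat.{u} ℤ) (ρ : ∀ n, L ⟶ X n) (hρ : ∀ n, ρ (n + 1) ≫ τ n = ρ n)
    (hext : ∀ (j : ℤ) (y y' : L.X j), (∀ n, (ρ n).f j y = (ρ n).f j y') → y = y')
    (hex : ∀ (j : ℤ) (y : ∀ n, (X n).X j), (∀ n, (τ n).f j (y (n + 1)) = y n) →
      ∃ l, ∀ n, (ρ n).f j l = y n)
    (m : ℤ) (n₀ : ℕ)
    (ha₁ : CohCx.LimOneIsZero (fun n => (X n).X (m - 1)) (fun n => ((τ n).f (m - 1)).hom))
    (ha₂ : CohCx.LimOneIsZero (fun n => (X n).X (m - 1 - 1)) (fun n => ((τ n).f (m - 1 - 1)).hom))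
    (hb : CohCx.LimOneIsZero (fun n => (X n).homology (m - 1)) (fun n => (homologyMap (τ n) (m - 1)).hom))
    (hc : ∀ n, n₀ ≤ n → Function.Bijective (homologyMap (τ n) m)) :
    Function.Bijective (homologyMap (ρ n₀) m) := by
  constructor
  · refine (injective_iff_map_eq_zero _).2 fun h hh => ?_
    obtain ⟨ζ, rfl⟩ := homologyπ_surjective m h
    rw [map_homologyπ] at hh
    have hstep : ∀ n, cyclesMap (τ n) m (cyclesMap (ρ (n + 1)) m ζ) = cyclesMap (ρ n) m ζ := fun n => by
      rw [← ConcreteCategory.comp_apply, ← cyclesMap_comp, hρ]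
    have hdown : ∀ n, (X (n + 1)).homologyπ m (cyclesMap (ρ (n + 1)) m ζ) = 0 →
        (X n).homologyπ m (cyclesMap (ρ n) m ζ) = 0 := fun n hn => by
      rw [← hstep n, ← map_homologyπ, hn, map_zero]
    have hall : ∀ n, (X n).homologyπ m (cyclesMap (ρ n) m ζ) = 0 := fun n => by
      rcases le_total n₀ n with hn | hn
      · induction n, hn using Nat.le_induction with
        | base => exact hh
        | succ n hn ih =>
          refine (hc n hn).1 ?_
          rw [map_homologyπ, hstep, ih, map_zero]
      · induction hn using Nat.decreasingInduction with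
        | of_succ k hk ih => exact hdown k ih
        | self => exact hh
    choose b hb' using fun n => exists_toCycles m _ (hall n)
    have he : ∀ n, ∃ ε : (X n).cycles (m - 1), (X n).iCycles (m - 1) ε = b n - (τ n).f (m - 1) (b (n + 1)) := fun n => by
      refine exists_cycle _ _ ?_
      have h0 : (X n).toCycles (m - 1) m (b n - (τ n).f (m - 1) (b (n + 1))) = 0 := by
        rw [map_sub, ← map_toCycles, hb', hb', hstep, sub_self]
      have h1 := congrArg ((X n).iCycles m) h0
      rw [iCycles_toCycles, map_zero] at h1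
      rwa [show m - 1 + 1 = m by ring]
    choose ε hε using he
    obtain ⟨g, hg⟩ := hb fun n => (X n).homologyπ (m - 1) (ε n)
    choose ω hω using fun n => homologyπ_surjective (K := X n) (m - 1) (g n)
    have hc' : ∀ n, ∃ c, (X n).toCycles (m - 1 - 1) (m - 1) c =
        ε n - (ω n - cyclesMap (τ n) (m - 1) (ω (n + 1))) := fun n => by
      refine exists_toCycles _ _ ?_
      rw [map_sub, map_sub, hω, ← map_homologyπ, hω, sub_eq_zero]
      exact (congrFun hg n).symm
    choose c hc'' using hc'
    obtain ⟨f, hf⟩ := ha₂ c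
    let b' : ∀ n, (X n).X (m - 1) := fun n =>
      b n - (X n).iCycles (m - 1) (ω n) - (X n).d (m - 1 - 1) (m - 1) (f n)
    have hcomp : ∀ n, (τ n).f (m - 1) (b' (n + 1)) = b' n := fun n => by
      have h1 := congrArg ((X n).iCycles (m - 1)) (hc'' n)
      have h2 : c n = f n - (τ n).f (m - 1 - 1) (f (n + 1)) := (congrFun hf n).symm
      rw [iCycles_toCycles, h2, map_sub, map_comm, map_sub, map_sub, map_iCycles, hε] at h1
      show (τ n).f (m - 1) (b (n + 1) - _ - _) = b n - _ - _
      rw [map_sub, map_sub]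
      linear_combination (norm := abel) h1
    obtain ⟨β, hβ⟩ := hex _ b' hcomp
    suffices L.toCycles (m - 1) m β = ζ by rw [← this, homologyπ_toCycles]
    apply iCycles_injective
    refine hext _ _ _ fun n => ?_
    rw [← map_iCycles, ← map_iCycles, map_toCycles, hβ, iCycles_toCycles, ← hb', iCycles_toCycles]
    show (X n).d (m - 1) m (b n - _ - _) = _
    rw [map_sub, map_sub, d_iCycles, ← ConcreteCategory.comp_apply, HomologicalComplex.d_comp_d]
    simp
  · intro h₀
    obtain ⟨h, hh, rfl⟩ := TruncAcyclic.exists_compatible (A := fun n => ((X n).homology m : Type u))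
      (fun n => homologyMap (τ n) m) n₀ (fun n hn => (hc n hn).2) h₀
    choose z hz using fun n => homologyπ_surjective (K := X n) m (h n)
    have hb₀ : ∀ n, ∃ b, (X n).toCycles (m - 1) m b = cyclesMap (τ n) m (z (n + 1)) - z n := fun n => by
      refine exists_toCycles _ _ ?_
      rw [map_sub, ← map_homologyπ, hz, hz, hh, sub_self]
    choose b hb' using hb₀
    obtain ⟨c, hc'⟩ := ha₁ b
    let z' : ∀ n, (X n).cycles m := fun n => z n + (X n).toCycles (m - 1) m (c n)
    have hcomp : ∀ n, cyclesMap (τ n) m (z' (n + 1)) = z' n := fun n => by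
      have h2 : b n = c n - (τ n).f (m - 1) (c (n + 1)) := (congrFun hc' n).symm
      have h1 := hb' n
      rw [h2, map_sub] at h1
      show cyclesMap (τ n) m (_ + _) = _ + _
      rw [map_add, map_toCycles]
      linear_combination (norm := abel) -h1
    obtain ⟨y, hy⟩ := hex m (fun n => (X n).iCycles m (z' n)) fun n => by
      rw [← map_iCycles, hcomp]
    obtain ⟨ζ, hζ⟩ := exists_cycle m y (hext _ _ _ fun n => by
      rw [map_zero, ← map_comm, hy, d_iCycles])
    refine ⟨L.homologyπ m ζ, ?_⟩
    rw [map_homologyπ, show cyclesMap (ρ n₀) m ζ = z' n₀ from iCycles_injective m (by rw [map_iCycles, hζ, hy])]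
    show (X n₀).homologyπ m (_ + _) = _
    rw [map_add, homologyπ_toCycles, add_zero, hz]

end Groth.Agent.SiteCoh.CxLim
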