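import Groth.Agent.SiteCoh.HDUSheafify

/-!
# Classes of cycles are natural in the complex
-/

set_option autoImplicit false

universe w v u

open CategoryTheory CategoryTheory.Limits Opposite CochainComplex.HomComplex

namespace Groth.Agent.SiteCoh.EtaPostcomp

variable {A : Type u} [Category.{v} A] [Abelian A] [HasDerivedCategory.{w} A]
  {I I' : CochainComplex A ℤ} (g : I ⟶ I') (q : ℤ)

theorem eta_postcomp (T : A) (f : T ⟶ I.cycles q) :
    HyperCech.Rest.eta (𝟙 I') q T (f ≫ HomologicalComplex.cyclesMap g q) =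
      HyperCech.Rest.eta (𝟙 I) q T f ≫ (DerivedCategory.Q.map g)⟦q⟧' := by
  let z : Cocycle (HyperCech.Main.S T) I q :=
    Cocycle.fromSingleMk (f ≫ I.iCycles q) (zero_add q) (q + 1) rfl (by simp)
  let z' : Cocycle (HyperCech.Main.S T) I' q :=
    Cocycle.fromSingleMk ((f ≫ HomologicalComplex.cyclesMap g q) ≫ I'.iCycles q) (zero_add q) (q + 1) rfl (by simp)
  have hz : z' = z.postcomp g := by
    apply Cocycle.ext
    simp only [z, z', Cocycle.fromSingleMk_coe, Cocycle.postcomp_coe, ← Cochain.fromSingleMk_postcomp]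
    congr 1
    simp
  change (HyperCech.Main.sIso T).hom ≫ HyperCech.Derived.Th _ I' q (CohomologyClass.mk z') ≫
      (inv (DerivedCategory.Q.map (𝟙 I')))⟦q⟧' =
    ((HyperCech.Main.sIso T).hom ≫ HyperCech.Derived.Th _ I q (CohomologyClass.mk z) ≫
      (inv (DerivedCategory.Q.map (𝟙 I)))⟦q⟧') ≫ (DerivedCategory.Q.map g)⟦q⟧'
  rw [hz, HyperCech.Derived.Th_mk, HyperCech.Derived.Th_mk, Cocycle.equivHomShift_symm_postcomp]
  simp only [CategoryTheory.Functor.map_id, IsIso.inv_id, Category.comp_id, Category.assoc, Functor.map_comp]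
  congr 2
  exact (DerivedCategory.Q.commShiftIso q).hom.naturality g

end Groth.Agent.SiteCoh.EtaPostcomp
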