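import Groth.Agent.SiteCoh.Nerve
import Mathlib.CategoryTheory.Limits.Preserves.Finite

/-!
# The image of a Čech nerve under a left exact functor between categories of sheaves of sets
-/

set_option autoImplicit false

universe u

open CategoryTheory CategoryTheory.Limits Opposite Simplicial AlgebraicTopology

namespace Groth.Agent.SiteCoh.NerveMap

variable {C : Type u} [SmallCategory C] {J : GrothendieckTopology C}
  {D : Type u} [SmallCategory D] {K : GrothendieckTopology D}
  (G : Sheaf K (Type u) ⥤ Sheaf J (Type u)) [PreservesFiniteLimits G]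
  {L' L : Sheaf K (Type u)} (f : L' ⟶ L)

/-- The presheaves of sets underlying the image of the augmented Čech nerve. -/
noncomputable abbrev nerveMap : SimplicialObject.Augmented (Cᵒᵖ ⥤ Type u) :=
  ((SimplicialObject.Augmented.whiskering _ _).obj (G ⋙ sheafToPresheaf J (Type u))).obj
    (Arrow.mk f).augmentedCechNerve

/-- The image of the limit cone of a wide pullback of copies of `f`. -/
noncomputable def isLimitMap (n : ℕ) : IsLimit (G.mapCone
    (limit.cone (WidePullbackShape.wideCospan L (fun _ : Fin (n + 1) => L') fun _ => f))) :=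
  isLimitOfPreserves G (limit.isLimit _)

theorem hom_ext (n : ℕ) {T : Sheaf J (Type u)}
    {a b : T ⟶ G.obj (widePullback L (fun _ : Fin (n + 1) => L') fun _ => f)}
    (h : ∀ j, a ≫ G.map (WidePullback.π (fun _ : Fin (n + 1) => f) j) =
      b ≫ G.map (WidePullback.π (fun _ : Fin (n + 1) => f) j))
    (hb : a ≫ G.map (WidePullback.base fun _ : Fin (n + 1) => f) =
      b ≫ G.map (WidePullback.base fun _ : Fin (n + 1) => f)) : a = b := by
  refine (isLimitMap G f n).hom_ext fun j => ?_
  cases j with
  | none => exact hb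
  | some j => exact h j

theorem exists_lift (n : ℕ) {T : Sheaf J (Type u)} (b : T ⟶ G.obj L) (p : Fin (n + 1) → (T ⟶ G.obj L'))
    (w : ∀ j, p j ≫ G.map f = b) :
    ∃ l : T ⟶ G.obj (widePullback L (fun _ : Fin (n + 1) => L') fun _ => f),
      (∀ j, l ≫ G.map (WidePullback.π (fun _ : Fin (n + 1) => f) j) = p j) ∧
        l ≫ G.map (WidePullback.base fun _ : Fin (n + 1) => f) = b := by
  let s := WidePullbackShape.mkCone
    (F := WidePullbackShape.wideCospan L (fun _ : Fin (n + 1) => L') (fun _ => f) ⋙ G) b p w
  exact ⟨(isLimitMap G f n).lift s, fun j => (isLimitMap G f n).fac s (some j),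
    (isLimitMap G f n).fac s none⟩

theorem isCechLike_nerveMap (V : Cᵒᵖ) : CechLike.IsCechLike (CechLike.at' (nerveMap G f) V) := by
  obtain ⟨V⟩ := V
  let P : ℕ → Sheaf J (Type u) := fun n => G.obj ((Arrow.mk f).cechNerve.obj (op ⦋n⦌))
  let v : ∀ (n : ℕ) (_ : Fin (n + 1)), P n ⟶ P 0 :=
    fun n j => G.map ((Arrow.mk f).cechNerve.map (SimplexCategory.const ⦋0⦌ ⦋n⦌ j).op)
  have hvπ : ∀ (n : ℕ) (j : Fin (n + 1)),
      v n j ≫ G.map (WidePullback.π (fun _ : Fin 1 => f) 0) =
        G.map (WidePullback.π (fun _ : Fin (n + 1) => f) j) := fun n j =>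
    (G.map_comp _ _).symm.trans (congrArg G.map (WidePullback.lift_π ..))
  have hvb : ∀ (n : ℕ) (j : Fin (n + 1)),
      v n j ≫ G.map (WidePullback.base (fun _ : Fin 1 => f)) =
        G.map (WidePullback.base (fun _ : Fin (n + 1) => f)) := fun n j =>
    (G.map_comp _ _).symm.trans (congrArg G.map (WidePullback.lift_base ..))
  refine ⟨fun n x y hxy => ?_, fun n w hw => ?_⟩
  · obtain ⟨a, rfl⟩ := (Nerve.secEquiv V (P n)).surjective x
    obtain ⟨b, rfl⟩ := (Nerve.secEquiv V (P n)).surjective y
    have hab : ∀ j, a ≫ v n j = b ≫ v n j := fun j => (Nerve.secEquiv V (P 0)).injective (by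
      rw [Nerve.secEquiv_comp, Nerve.secEquiv_comp]
      exact hxy j)
    refine congrArg _ (hom_ext G f n (fun j => ?_) ?_)
    · have := congrArg (· ≫ G.map (WidePullback.π (fun _ : Fin 1 => f) 0)) (hab j)
      simp only [Category.assoc] at this
      erw [hvπ n j] at this
      exact this
    · have := congrArg (· ≫ G.map (WidePullback.base (fun _ : Fin 1 => f))) (hab 0)
      simp only [Category.assoc] at this
      erw [hvb n 0] at this
      exact this
  · choose a ha using fun j => (Nerve.secEquiv V (P 0)).surjective (w j)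
    have hb : ∀ j, a j ≫ G.map (WidePullback.base (fun _ : Fin 1 => f)) =
        a 0 ≫ G.map (WidePullback.base (fun _ : Fin 1 => f)) :=
      fun j => (Nerve.secEquiv V (G.obj L)).injective (by
      erw [Nerve.secEquiv_comp (a j) (G.map (WidePullback.base (fun _ : Fin 1 => f))),
        Nerve.secEquiv_comp (a 0) (G.map (WidePullback.base (fun _ : Fin 1 => f))), ha j, ha 0]
      exact hw j)
    obtain ⟨l, hlπ, hlb⟩ := exists_lift G f n (a 0 ≫ G.map (WidePullback.base (fun _ : Fin 1 => f)))
      (fun j => a j ≫ G.map (WidePullback.π (fun _ : Fin 1 => f) 0))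
      (fun j => by
        rw [Category.assoc, ← G.map_comp]
        refine (congrArg (a j ≫ G.map ·) ?_).trans (hb j)
        exact WidePullback.π_arrow (fun _ : Fin 1 => f) 0)
    refine ⟨Nerve.secEquiv V (P n) l, fun j => ?_⟩
    have hl : l ≫ v n j = a j := by
      refine hom_ext G f 0 (fun i => ?_) ?_
      · rw [show i = (0 : Fin 1) from Subsingleton.elim (α := Fin 1) _ _, Category.assoc]
        erw [hvπ n j]
        exact hlπ j
      · rw [Category.assoc]
        erw [hvb n j]
        exact hlb.trans (hb j).symm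
    refine Eq.trans ?_ ((congrArg _ hl).trans (ha j))
    exact (Nerve.secEquiv_comp l (v n j)).symm

theorem isLocallySurjective_nerveMap_hom [Epi (G.map f)] :
    Presheaf.IsLocallySurjective J ((nerveMap G f).hom.app (op ⦋0⦌)) := by
  let d : L' ⟶ (Arrow.mk f).cechNerve.obj (op ⦋0⦌) :=
    WidePullback.lift f (fun _ : Fin 1 => 𝟙 L') (fun _ => Category.id_comp f)
  have hd : (G.map d).hom ≫ (nerveMap G f).hom.app (op ⦋0⦌) = (G.map f).hom := by
    have h : d ≫ WidePullback.base (fun _ : Fin 1 => f) = f := WidePullback.lift_base ..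
    exact (congrArg (fun φ => (G.map d).hom ≫ φ) (by simp [nerveMap,
      SimplicialObject.Augmented.whiskering, SimplicialObject.Augmented.whiskeringObj]; rfl)).trans
      (congrArg (fun φ => φ.hom) ((G.map_comp _ _).symm.trans (congrArg G.map h)))
  have : Sheaf.IsLocallySurjective (G.map f) :=
    (Sheaf.isLocallySurjective_iff_epi' _ (G.map f)).2 inferInstance
  have hf : Presheaf.IsLocallySurjective J (G.map f).hom := this
  have h2 : Presheaf.IsLocallySurjective J ((G.map d).hom ≫ (nerveMap G f).hom.app (op ⦋0⦌)) := by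
    rw [hd]
    exact hf
  exact Presheaf.isLocallySurjective_of_isLocallySurjective J (G.map d).hom _

/-- The free abelian sheaves on the image of a Čech nerve form a resolution. -/
theorem quasiIso_free_nerveMap [Epi (G.map f)] :
    QuasiIso (AlternatingFaceMapComplex.ε.app
      (((SimplicialObject.Augmented.whiskering _ _).obj (Free.freePre J)).obj (nerveMap G f))) :=
  CechLike.quasiIso_free_ε J (nerveMap G f) (isCechLike_nerveMap G f)
    (isLocallySurjective_nerveMap_hom G f)

end Groth.Agent.SiteCoh.NerveMap
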