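import Groth.Agent.SiteCoh.TruncAcyclic
import Mathlib.Algebra.Homology.SingleHomology

/-!
# The edge map from hypercohomology to sections of the cohomology sheaf
-/

set_option autoImplicit false

universe w v u

open CategoryTheory CategoryTheory.Limits Opposite DerivedCategory

namespace Groth.Agent.SiteCoh.Psi

open Groth.Agent.KFlat.TruncHom (ιH Φ Φ_comp Φ_apply)
open Groth.Agent.SiteCoh.TruncAcyclic (shiftHom)

section Gen

variable {A : Type u} [Category.{v} A] [Abelian A] [HasDerivedCategory.{w} A] (P : A) (q : ℤ)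

/-- A morphism to the cohomology that lifts to cycles comes from a morphism out of `P[-q]`. -/
theorem exists_Φ (I : CochainComplex A ℤ) (f₀ : P ⟶ I.cycles q) :
    ∃ g : (singleFunctor A q).obj P ⟶ Q.obj I,
      Φ P q (Q.obj I) g = f₀ ≫ I.homologyπ q ≫ (homologyFunctorFactors A q).inv.app I := by
  let S : CochainComplex A ℤ := (HomologicalComplex.single A (ComplexShape.up ℤ) q).obj P
  let e : (singleFunctor A q).obj P ≅ Q.obj S := (singleFunctorIsoCompQ A q).app P
  let u : P ≅ P := ιH P q ≪≫ (homologyFunctor A q).mapIso e ≪≫ (homologyFunctorFactors A q).app S ≪≫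
    HomologicalComplex.singleObjHomologySelfIso (ComplexShape.up ℤ) q P
  let f : P ⟶ I.cycles q := u.inv ≫ f₀
  let φ : S ⟶ I := HomologicalComplex.mkHomFromSingle (f ≫ I.iCycles q) (fun k _ => by simp)
  have h1 : (HomologicalComplex.singleObjCyclesSelfIso (ComplexShape.up ℤ) q P).inv ≫
      HomologicalComplex.cyclesMap φ q = f := by
    rw [← cancel_mono (I.iCycles q), Category.assoc, HomologicalComplex.cyclesMap_i,
      HomologicalComplex.singleObjCyclesSelfIso_inv_iCycles_assoc]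
    simp [φ]
  have h2 : (HomologicalComplex.singleObjHomologySelfIso (ComplexShape.up ℤ) q P).inv ≫
      HomologicalComplex.homologyMap φ q = f ≫ I.homologyπ q := by
    rw [show (HomologicalComplex.singleObjHomologySelfIso (ComplexShape.up ℤ) q P).inv =
      (HomologicalComplex.singleObjCyclesSelfIso (ComplexShape.up ℤ) q P).inv ≫ S.homologyπ q from rfl,
      Category.assoc, HomologicalComplex.homologyπ_naturality, ← Category.assoc, h1]
  refine ⟨e.hom ≫ Q.map φ, ?_⟩
  rw [Φ_apply, Functor.map_comp]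
  have hn : (homologyFunctor A q).map (Q.map φ) =
      (homologyFunctorFactors A q).hom.app S ≫ HomologicalComplex.homologyMap φ q ≫
        (homologyFunctorFactors A q).inv.app I := by
    exact ((Iso.eq_comp_inv ((homologyFunctorFactors A q).app I)).2
      (homologyFunctorFactors_hom_naturality φ q)).trans (Category.assoc _ _ _)
  rw [hn]
  have h3 : u.hom ≫ f = f₀ := Iso.hom_inv_id_assoc u f₀
  rw [← h3]
  simp only [u, Iso.trans_hom, Functor.mapIso_hom, Iso.app_hom, Category.assoc]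
  erw [← reassoc_of% h2, Iso.hom_inv_id_assoc]
  rfl

theorem shiftHom_comp {X Y : DerivedCategory A} (g : (singleFunctor A q).obj P ⟶ X) (f : X ⟶ Y) :
    shiftHom P q Y (g ≫ f) = shiftHom P q X g ≫ f⟦q⟧' := by
  show _ ≫ (g ≫ f)⟦q⟧' = (_ ≫ g⟦q⟧') ≫ f⟦q⟧'
  rw [Functor.map_comp, Category.assoc]

theorem shiftHom_symm_comp {X Y : DerivedCategory A} (y : (singleFunctor A 0).obj P ⟶ X⟦q⟧) (f : X ⟶ Y) :
    (shiftHom P q Y).symm (y ≫ f⟦q⟧') = (shiftHom P q X).symm y ≫ f := by
  rw [AddEquiv.symm_apply_eq, shiftHom_comp, AddEquiv.apply_symm_apply]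

theorem shiftHom_symm_precomp {P' : A} (h : P' ⟶ P) {X : DerivedCategory A}
    (y : (singleFunctor A 0).obj P ⟶ X⟦q⟧) :
    (shiftHom P' q X).symm ((singleFunctor A 0).map h ≫ y) =
      (singleFunctor A q).map h ≫ (shiftHom P q X).symm y := by
  rw [AddEquiv.symm_apply_eq]
  conv_lhs => rw [← (shiftHom P q X).apply_symm_apply y]
  show (singleFunctor A 0).map h ≫ _ ≫ _ = _ ≫ (_ ≫ _)⟦q⟧'
  rw [Functor.map_comp, ← Category.assoc, ← Category.assoc]
  congr 1
  exact ((DerivedCategory.singleFunctors A).shiftIso q 0 q (by lia)).inv.naturality h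

theorem Φ_precomp {P' : A} (h : P' ⟶ P) {X : DerivedCategory A} (g : (singleFunctor A q).obj P ⟶ X) :
    Φ P' q X ((singleFunctor A q).map h ≫ g) = h ≫ Φ P q X g := by
  rw [Φ_apply, Φ_apply, Functor.map_comp, ← Category.assoc, ← Category.assoc]
  congr 1
  exact ((singleFunctorCompHomologyFunctorIso A q).inv.naturality h).symm

end Gen

variable {C : Type u} [SmallCategory C] {J : GrothendieckTopology C}
  [HasDerivedCategory.{u} (Sheaf J AddCommGrpCat.{u})]

/-- `H^q(U, X) → H^q(X)(U)`. -/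
noncomputable def Ψ (X : DerivedCategory (Sheaf J AddCommGrpCat.{u})) (q : ℤ) (U : C) :
    CohCx.HDU X q U →+ (CohCx.HD X q).obj.obj (op U) :=
  ((Free.sectionEquiv J U (CohCx.HD X q)).toAddMonoidHom.comp (Φ (CohCx.freeSheaf J U) q X)).comp
    (shiftHom (CohCx.freeSheaf J U) q X).symm.toAddMonoidHom

theorem Ψ_comp {X Y : DerivedCategory (Sheaf J AddCommGrpCat.{u})} (f : X ⟶ Y) (q : ℤ) (U : C)
    (y : CohCx.HDU X q U) :
    Ψ Y q U (y ≫ f⟦q⟧') = ((DerivedCategory.homologyFunctor _ q).map f).hom.app (op U) (Ψ X q U y) := by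
  show Free.sectionEquiv J U _ (Φ _ q Y ((shiftHom _ q Y).symm (y ≫ f⟦q⟧'))) =
    _
  rw [shiftHom_symm_comp, Φ_comp, Free.sectionEquiv_comp]
  rfl

theorem Ψ_res (X : DerivedCategory (Sheaf J AddCommGrpCat.{u})) (q : ℤ) {U V : C} (g : V ⟶ U)
    (y : CohCx.HDU X q U) :
    Ψ X q V ((singleFunctor _ 0).map (CohCx.freeSheafMap J g) ≫ y) =
      (CohCx.HD X q).obj.map g.op (Ψ X q U y) := by
  show Free.sectionEquiv J V _ (Φ _ q X ((shiftHom _ q X).symm ((singleFunctor _ 0).map (CohCx.freeSheafMap J g) ≫ y))) =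
    _
  rw [shiftHom_symm_precomp, Φ_precomp, Free.sectionEquiv_map]
  rfl

/-- Every section of the cohomology sheaf comes locally from hypercohomology. -/
theorem locally_surjective (X : DerivedCategory (Sheaf J AddCommGrpCat.{u})) (q : ℤ) (U : C)
    (s : (CohCx.HD X q).obj.obj (op U)) :
    ∃ T ∈ J U, ∀ ⦃W : C⦄ (g : W ⟶ U), T.arrows g →
      ∃ y : CohCx.HDU X q W, Ψ X q W y = (CohCx.HD X q).obj.map g.op s := by
  let I := (DerivedCategory.Q (C := Sheaf J AddCommGrpCat.{u})).objPreimage X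
  let e : DerivedCategory.Q.obj I ≅ X := (DerivedCategory.Q (C := Sheaf J AddCommGrpCat.{u})).objObjPreimageIso X
  let H := DerivedCategory.homologyFunctor (Sheaf J AddCommGrpCat.{u}) q
  let i : I.homology q ≅ CohCx.HD X q :=
    ((DerivedCategory.homologyFunctorFactors (Sheaf J AddCommGrpCat.{u}) q).app I).symm ≪≫ H.mapIso e
  have hπ : Sheaf.IsLocallySurjective (I.homologyπ q ≫ i.hom) :=
    (Sheaf.isLocallySurjective_iff_epi' _ _).2 inferInstance
  refine ⟨_, Presheaf.imageSieve_mem J (I.homologyπ q ≫ i.hom).hom s, ?_⟩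
  rintro W g ⟨z, hz⟩
  obtain ⟨γ, hγ⟩ := exists_Φ (CohCx.freeSheaf J W) q I ((Free.sectionEquiv J W _).symm z)
  refine ⟨shiftHom (CohCx.freeSheaf J W) q X (γ ≫ e.hom), ?_⟩
  show Free.sectionEquiv J W _ (Φ _ q X ((shiftHom _ q X).symm (shiftHom _ q X (γ ≫ e.hom)))) = _
  rw [AddEquiv.symm_apply_apply, Φ_comp, hγ]
  refine Eq.trans ?_ hz
  refine ((congrArg (Free.sectionEquiv J W _) ?_).trans (Free.sectionEquiv_comp J _ (I.homologyπ q ≫ i.hom))).trans
    (congrArg _ (AddEquiv.apply_symm_apply _ z))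
  simp only [Category.assoc]
  rfl

/-- Under acyclicity of the cohomology sheaves, `Ψ` is bijective on a covering class. -/
theorem bijective (E : DerivedCategory (Sheaf J AddCommGrpCat.{u})) [HasProduct (CohCx.truncTower E)] (B : Set C)
    (hB : ∀ U : C, ∃ (ι : Type u) (Y : ι → C) (f : ∀ i, Y i ⟶ U), Sieve.ofArrows Y f ∈ J U ∧ ∀ i, Y i ∈ B)
    (h : ∀ U ∈ B, ∀ (p : ℕ) (q : ℤ), Subsingleton (CohSite.HU (CohCx.HD E q) (p + 1) U))
    (U : C) (hU : U ∈ B) (q : ℤ) : Function.Bijective (Ψ E q U) := by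
  obtain ⟨n, hn, hb, hΦ⟩ := TruncAcyclic.exists_stage E B hB h U hU q
  have := TruncLim.isIso_homology E n q hn
  let Ev := sheafToPresheaf J AddCommGrpCat.{u} ⋙ (evaluation Cᵒᵖ AddCommGrpCat.{u}).obj (op U)
  have hiso : Function.Bijective (Ev.map ((DerivedCategory.homologyFunctor _ q).map (CohCx.toTruncTower E n))) :=
    ConcreteCategory.bijective_of_isIso _
  have hΨ : Function.Bijective (Ψ (CohCx.truncTower E n) q U) :=
    ((Free.sectionEquiv J U _).bijective.comp hΦ).comp (shiftHom _ q _).symm.bijective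
  have e : ⇑(Ev.map ((DerivedCategory.homologyFunctor _ q).map (CohCx.toTruncTower E n))) ∘ ⇑(Ψ E q U) =
      ⇑(Ψ (CohCx.truncTower E n) q U) ∘
        ⇑(Preadditive.rightComp _ ((shiftFunctor _ q).map (CohCx.toTruncTower E n))) :=
    funext fun y => (Ψ_comp (CohCx.toTruncTower E n) q U y).symm
  exact (Function.Bijective.of_comp_iff' hiso _).1 (e ▸ hΨ.comp hb)

end Groth.Agent.SiteCoh.Psi
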