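import Groth.Agent.SiteCoh.Cech
import Groth.Agent.SiteCoh.Cartan
import Mathlib.CategoryTheory.Sites.CoverPreserving
import Mathlib.CategoryTheory.Limits.Shapes.Pullback.IsPullback.Basic
import Mathlib.CategoryTheory.Limits.Preserves.Shapes.Pullbacks

/-!
# Čech complexes along a functor commuting with fibre products

The iterated fibre products of a family go to iterated fibre products of the image family, so the Čech
complex of `V ↦ F(u V)` is the complex of morphisms out of a resolution of a free sheaf on the target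
site, even if the target category does not have all fibre products.
-/

set_option autoImplicit false

universe u

open CategoryTheory CategoryTheory.Limits Opposite Simplicial AlgebraicTopology

namespace Groth.Agent.SiteCoh.PushCech

variable {C D : Type u} [SmallCategory C] [SmallCategory D] [HasPullbacks C] (u : C ⥤ D)
  [PreservesLimitsOfShape WalkingCospan u]

/-- The image of an iterated fibre product is an iterated fibre product. -/
theorem existsUnique_lift {U : C} : ∀ (n : ℕ) (Z : Fin (n + 1) → Over U) {V : D} (a : V ⟶ u.obj U)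
    (b : ∀ j, V ⟶ u.obj (Z j).left), (∀ j, b j ≫ u.map (Z j).hom = a) →
      ∃! c : V ⟶ u.obj (∏ᶜ Z).left, ∀ j, c ≫ u.map (Pi.π Z j).left = b j
  | 0, Z, V, a, b, hb => by
    let s : Z 0 ⟶ ∏ᶜ Z := Pi.lift fun j => eqToHom (by rw [Subsingleton.elim (α := Fin 1) j 0])
    have h0 : s ≫ Pi.π Z 0 = 𝟙 _ := by simp [s]
    have h1 : Pi.π Z 0 ≫ s = 𝟙 _ := Pi.hom_ext _ _ fun j => by
      obtain rfl : j = 0 := Subsingleton.elim (α := Fin 1) _ _
      rw [Category.assoc, h0, Category.comp_id, Category.id_comp]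
    refine ⟨b 0 ≫ u.map s.left, fun j => ?_, fun c hc => ?_⟩
    · obtain rfl : j = 0 := Subsingleton.elim (α := Fin 1) _ _
      rw [Category.assoc, ← u.map_comp, ← Over.comp_left, h0, Over.id_left, u.map_id, Category.comp_id]
    · rw [← hc 0, Category.assoc, ← u.map_comp, ← Over.comp_left, h1, Over.id_left, u.map_id,
        Category.comp_id]
  | n + 1, Z, V, a, b, hb => by
    let Z' := fun j : Fin (n + 1) => Z j.succ
    obtain ⟨c', hc', huniq⟩ := existsUnique_lift n Z' a (fun j => b j.succ) (fun j => hb _)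
    let P' := ∏ᶜ Z'
    let Q : Over U := Over.mk (pullback.fst (Z 0).hom P'.hom ≫ (Z 0).hom)
    let f₀ : Q ⟶ Z 0 := Over.homMk (pullback.fst (Z 0).hom P'.hom)
    let f' : Q ⟶ P' := Over.homMk (pullback.snd (Z 0).hom P'.hom) pullback.condition.symm
    let toP : Q ⟶ ∏ᶜ Z := Pi.lift (Fin.cases f₀ (fun j => f' ≫ Pi.π Z' j))
    let toQ : ∏ᶜ Z ⟶ Q := Over.homMk
      (pullback.lift (Pi.π Z 0).left (Pi.lift (fun j : Fin (n + 1) => Pi.π Z j.succ) : ∏ᶜ Z ⟶ P').left
        (by rw [Over.w, Over.w]))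
      (by
        show pullback.lift _ _ _ ≫ pullback.fst _ _ ≫ _ = _
        rw [pullback.lift_fst_assoc, Over.w])
    have hPQ : toQ ≫ toP = 𝟙 _ := Pi.hom_ext _ _ fun j => by
      refine Fin.cases ?_ (fun k => ?_) j
      · rw [Category.assoc, Pi.lift_π, Category.id_comp]
        exact Over.OverMorphism.ext (pullback.lift_fst _ _ _)
      · rw [Category.assoc, Pi.lift_π, Category.id_comp]
        refine Eq.trans ?_ (Pi.lift_π (fun j : Fin (n + 1) => Pi.π Z j.succ) k)
        show toQ ≫ f' ≫ Pi.π Z' k = _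
        rw [← Category.assoc, show toQ ≫ f' = (Pi.lift (fun j : Fin (n + 1) => Pi.π Z j.succ) : ∏ᶜ Z ⟶ P') from
          Over.OverMorphism.ext (pullback.lift_snd _ _ _)]
    have hsq := (IsPullback.of_hasPullback (Z 0).hom P'.hom).map u
    have hca : c' ≫ u.map P'.hom = a := by
      rw [← hb (0 : Fin (n + 1)).succ, ← hc' 0, Category.assoc, ← u.map_comp]
      exact congrArg (fun g => c' ≫ u.map g) (Over.w (Pi.π Z' 0)).symm
    let d := hsq.lift (b 0) c' ((hb 0).trans hca.symm)
    refine ⟨d ≫ u.map toP.left, fun j => ?_, fun c hc => ?_⟩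
    · rw [Category.assoc, ← u.map_comp, ← Over.comp_left, Pi.lift_π]
      refine Fin.cases ?_ (fun k => ?_) j
      · exact hsq.lift_fst _ _ _
      · show d ≫ u.map (f'.left ≫ (Pi.π Z' k).left) = _
        rw [u.map_comp, ← Category.assoc]
        exact (congrArg (· ≫ u.map (Pi.π Z' k).left) (hsq.lift_snd _ _ _)).trans (hc' k)
    · have hcd : c ≫ u.map toQ.left = d := by
        refine hsq.hom_ext ?_ ?_
        · rw [hsq.lift_fst, Category.assoc, ← u.map_comp]
          exact (congrArg (fun g => c ≫ u.map g) (pullback.lift_fst _ _ _)).trans (hc 0)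
        · rw [hsq.lift_snd, Category.assoc, ← u.map_comp]
          refine (congrArg (fun g => c ≫ u.map g) (pullback.lift_snd _ _ _)).trans (huniq _ fun j => ?_)
          show (c ≫ u.map _) ≫ u.map _ = _
          rw [Category.assoc, ← u.map_comp, ← Over.comp_left, Pi.lift_π]
          exact hc j.succ
      rw [← hcd, Category.assoc, ← u.map_comp, ← Over.comp_left, hPQ, Over.id_left, u.map_id, Category.comp_id]

variable {U : C}

/-- The image of a formal coproduct of objects over `U`. -/
@[simps]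
noncomputable def mapFC : FormalCoproduct.{u} (Over U) ⥤ FormalCoproduct.{u} (Over (u.obj U)) where
  obj x := ⟨x.I, fun i => (Over.post u).obj (x.obj i)⟩
  map f := ⟨f.f, fun i => (Over.post u).map (f.φ i)⟩

variable {ι : Type u} (Y : ι → Over U)

/-- The sieve generated by the image family. -/
abbrev gen : Sieve (u.obj U) := Sieve.ofArrows (fun i => u.obj (Y i).left) (fun i => u.map (Y i).hom)

omit [PreservesLimitsOfShape WalkingCospan u] in
theorem hom_mem_gen (n : SimplexCategoryᵒᵖ) (k : ((FormalCoproduct.mk ι Y).cech.obj n).I) :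
    gen u Y (u.map (((FormalCoproduct.mk ι Y).cech.obj n).obj k).hom) := by
  have h := Over.w (Pi.π ((FormalCoproduct.mk ι Y).obj ∘ k) (⟨0, Nat.succ_pos _⟩ : Fin _))
  rw [Sieve.mem_ofArrows_iff]
  exact ⟨_, u.map (Pi.π ((FormalCoproduct.mk ι Y).obj ∘ k) (⟨0, Nat.succ_pos _⟩ : Fin _)).left,
    (congrArg u.map h).symm.trans (u.map_comp _ _)⟩

/-- The augmented simplicial presheaf of sets of the image family. -/
noncomputable def cechAug : SimplicialObject.Augmented (Dᵒᵖ ⥤ Type u) where
  left := (FormalCoproduct.mk ι Y).cech ⋙ mapFC u ⋙ Cech.coprodPsh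
  right := (gen u Y).functor
  hom :=
    { app := fun n =>
        { app := fun V => ↾fun p => ⟨p.2 ≫ u.map (((FormalCoproduct.mk ι Y).cech.obj n).obj p.1).hom,
            Sieve.downward_closed _ (hom_mem_gen u Y n p.1) _⟩
          naturality := fun V W g => by
            ext p
            exact Subtype.ext (Category.assoc _ _ _) }
      naturality := fun n m θ => by
        ext V p
        refine Subtype.ext ?_
        change (p.2 ≫ u.map (((FormalCoproduct.mk ι Y).cech.map θ).φ p.1).left) ≫ _ = p.2 ≫ _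
        exact (Category.assoc _ _ _).trans (congrArg (p.2 ≫ ·)
          ((u.map_comp _ _).symm.trans (congrArg u.map (Over.w _)))) }

/-- A component of a simplex. -/
noncomputable def comp {n : SimplexCategoryᵒᵖ} {V : Dᵒᵖ} (t : Fin (n.unop.len + 1))
    (p : ((cechAug u Y).left.obj n).obj V) : Σ i : ι, (V.unop ⟶ u.obj (Y i).left) :=
  ⟨p.1 t, p.2 ≫ u.map (Pi.π ((FormalCoproduct.mk ι Y).obj ∘ p.1) t).left⟩

theorem comp_map {n m : SimplexCategoryᵒᵖ} (θ : n ⟶ m) {V : Dᵒᵖ} (t : Fin (m.unop.len + 1))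
    (p : ((cechAug u Y).left.obj n).obj V) :
    comp u Y t (((cechAug u Y).left.map θ).app V p) = comp u Y (θ.unop.toOrderHom t) p := by
  refine Sigma.ext rfl (heq_of_eq ?_)
  change (p.2 ≫ u.map (((FormalCoproduct.mk ι Y).cech.map θ).φ p.1).left) ≫ _ = p.2 ≫ _
  refine (Category.assoc _ _ _).trans (congrArg (p.2 ≫ ·) ((u.map_comp _ _).symm.trans (congrArg u.map ?_)))
  exact (Over.comp_left _ _ _ _ _).symm.trans (congrArg CommaMorphism.left (Pi.lift_π _ _))

theorem aug_eq_comp {n : SimplexCategoryᵒᵖ} {V : Dᵒᵖ} (t : Fin (n.unop.len + 1))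
    (p : ((cechAug u Y).left.obj n).obj V) :
    (((cechAug u Y).hom.app n).app V p).val = (comp u Y t p).2 ≫ u.map (Y (comp u Y t p).1).hom := by
  exact (congrArg (p.2 ≫ ·) ((congrArg u.map (Over.w (Pi.π ((FormalCoproduct.mk ι Y).obj ∘ p.1) t)).symm).trans
    (u.map_comp _ _))).trans (Category.assoc _ _ _).symm

theorem comp_ext {n : SimplexCategoryᵒᵖ} {V : Dᵒᵖ} (p p' : ((cechAug u Y).left.obj n).obj V)
    (h : ∀ t, comp u Y t p = comp u Y t p') : p = p' := by
  obtain ⟨k, a⟩ := p
  obtain ⟨k', a'⟩ := p'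
  obtain rfl : k = k' := funext fun t => congrArg Sigma.fst (h t)
  refine Sigma.ext rfl (heq_of_eq ?_)
  have hh : ∀ t, a ≫ u.map (Pi.π ((FormalCoproduct.mk ι Y).obj ∘ k) t).left =
      a' ≫ u.map (Pi.π ((FormalCoproduct.mk ι Y).obj ∘ k) t).left := fun t =>
    eq_of_heq (Sigma.mk.inj_iff.1 (h t)).2
  refine (existsUnique_lift u n.unop.len ((FormalCoproduct.mk ι Y).obj ∘ k)
    (a ≫ u.map (∏ᶜ ((FormalCoproduct.mk ι Y).obj ∘ k)).hom)
    (fun t => a ≫ u.map (Pi.π ((FormalCoproduct.mk ι Y).obj ∘ k) t).left)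
    (fun t => (Category.assoc _ _ _).trans (congrArg (a ≫ ·) ((u.map_comp _ _).symm.trans (congrArg u.map (Over.w _)))))).unique (fun t => rfl) (fun t => (hh t).symm)

theorem isCechLike_cechAug (V : Dᵒᵖ) : CechLike.IsCechLike (CechLike.at' (cechAug u Y) V) := by
  refine ⟨fun n p p' h => comp_ext u Y p p' fun t => ?_, fun n w hw => ?_⟩
  · have := congrArg (comp u Y (n := op ⦋0⦌) (0 : Fin 1)) (h t)
    exact (comp_map u Y _ _ _).symm.trans (this.trans (comp_map u Y _ _ _))
  · let c : Fin (n + 1) → Σ i : ι, (V.unop ⟶ u.obj (Y i).left) := fun j => comp u Y (0 : Fin 1) (w j)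
    have hc : ∀ j, (c j).2 ≫ u.map (Y (c j).1).hom = (c 0).2 ≫ u.map (Y (c 0).1).hom := fun j =>
      (aug_eq_comp u Y (n := op ⦋0⦌) (0 : Fin 1) (w j)).symm.trans
        ((congrArg Subtype.val (hw j)).trans (aug_eq_comp u Y (n := op ⦋0⦌) (0 : Fin 1) (w 0)))
    let k : Fin (n + 1) → ι := fun j => (c j).1
    obtain ⟨a, ha, -⟩ := existsUnique_lift u n ((FormalCoproduct.mk ι Y).obj ∘ k)
      ((c 0).2 ≫ u.map (Y (c 0).1).hom) (fun j => (c j).2) hc
    refine ⟨⟨k, a⟩, fun j => comp_ext u Y (n := op ⦋0⦌) _ _ fun t => ?_⟩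
    obtain rfl : t = (0 : Fin 1) := Subsingleton.elim (α := Fin 1) _ _
    refine (comp_map u Y _ _ _).trans (Sigma.ext rfl (heq_of_eq ?_))
    exact ha j

theorem isLocallySurjective_cechAug (K : GrothendieckTopology D) :
    Presheaf.IsLocallySurjective K ((cechAug u Y).hom.app (op ⦋0⦌)) := by
  refine Presheaf.isLocallySurjective_of_surjective K _ fun V => ?_
  rintro ⟨g, hg⟩
  obtain ⟨i, b, rfl⟩ := (Sieve.mem_ofArrows_iff _ _ _).1 hg
  obtain ⟨a, ha, -⟩ := existsUnique_lift u 0 ((FormalCoproduct.mk ι Y).obj ∘ fun _ : Fin 1 => i)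
    (b ≫ u.map (Y i).hom) (fun _ => b) (fun _ => rfl)
  refine ⟨⟨fun _ => i, a⟩, Subtype.ext ?_⟩
  refine (aug_eq_comp u Y (n := op ⦋0⦌) (0 : Fin 1) ⟨fun _ => i, a⟩).trans ?_
  exact congrArg (· ≫ u.map (Y i).hom) (ha 0)

variable (J : GrothendieckTopology C) (K : GrothendieckTopology D)

omit [HasPullbacks C] [PreservesLimitsOfShape WalkingCospan u] in
theorem gen_mem (hu : CoverPreserving J K u) (hY : Cech.gen Y ∈ J U) : gen u Y ∈ K (u.obj U) := by
  refine K.superset_covering ?_ (hu.cover_preserve hY)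
  rintro W f ⟨Z, g, h, hg, rfl⟩
  obtain ⟨i, b, rfl⟩ := (Sieve.mem_ofArrows_iff _ _ _).1 hg
  rw [Sieve.mem_ofArrows_iff]
  exact ⟨i, h ≫ u.map b, by rw [u.map_comp, Category.assoc]⟩

/-- The complex of free sheaves of the image family. -/
noncomputable abbrev cx : ChainComplex (Sheaf K AddCommGrpCat.{u}) ℕ :=
  (alternatingFaceMapComplex _).obj
    (((SimplicialObject.Augmented.whiskering _ _).obj (Free.freePre K)).obj (cechAug u Y)).left

/-- The resolution of the free abelian sheaf on the image of the target. -/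
noncomputable def resolution : cx u Y K ⟶ (ChainComplex.single₀ _).obj (CohCx.freeSheaf K (u.obj U)) :=
  AlternatingFaceMapComplex.ε.app
      (((SimplicialObject.Augmented.whiskering _ _).obj (Free.freePre K)).obj (cechAug u Y)) ≫
    (ChainComplex.single₀ _).map ((Free.freePre K).map (gen u Y).functorInclusion)

theorem quasiIso_resolution (hY : gen u Y ∈ K (u.obj U)) : QuasiIso (resolution u Y K) := by
  have hW : K.W (gen u Y).functorInclusion := by
    rw [GrothendieckTopology.W_iff_isLocallyBijective]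
    exact ⟨Presheaf.isLocallyInjective_of_injective _ _ fun V => fun a b hab => Subtype.ext hab,
      ⟨fun {V} g => K.superset_covering (fun W k hk => ⟨⟨k ≫ g, hk⟩, rfl⟩)
        (K.pullback_stable g hY)⟩⟩
  have h1 := CechLike.quasiIso_free_ε K (cechAug u Y) (isCechLike_cechAug u Y)
    (isLocallySurjective_cechAug u Y K)
  have := Free.isIso_freePre_map_of_W K _ hW
  have h4 : QuasiIso ((ChainComplex.single₀ (Sheaf K AddCommGrpCat.{u})).map
      ((Free.freePre K).map (gen u Y).functorInclusion)) := inferInstance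
  exact quasiIso_comp (hφ := h1) (hφ' := h4) _ _

/-- Čech cochains of `V ↦ F(u V)`. -/
noncomputable def cechComplexIso (F : Sheaf K AddCommGrpCat.{u}) :
    (cechComplexFunctor Y).obj ((Over.forget U).op ⋙ u.op ⋙ F.obj) ≅
      (HomRes.homCx (cx u Y K)).obj F :=
  (alternatingCofaceMapComplex _).mapIso
    (Functor.isoWhiskerLeft ((FormalCoproduct.mk ι Y).cech ⋙ mapFC u).rightOp (Cech.evIso K F).symm) ≪≫
  Cech.cofaceIso ((FormalCoproduct.mk ι Y).cech ⋙ mapFC u ⋙ Cech.coprodPsh.{u} ⋙ Free.freePre K) F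

theorem isZero_cechH [u.IsContinuous J K] (hu : CoverPreserving J K u) (hY : Cech.gen Y ∈ J U)
    (I : Sheaf K AddCommGrpCat.{u}) [Injective I] (p : ℕ) :
    IsZero (CohCx.cechH ((CohSite.push K J u).obj I).obj Y (p + 1)) := by
  have := quasiIso_resolution u Y K (gen_mem u Y J K hu hY)
  exact (Cartan.isZero_homology_homCx_of_injective (resolution u Y K) I p).of_iso
    ((HomologicalComplex.homologyFunctor _ _ (p + 1)).mapIso (cechComplexIso u Y K I))

end Groth.Agent.SiteCoh.PushCech
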