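import Groth.Agent.SiteCoh.TruncLim
import Mathlib.CategoryTheory.Limits.Shapes.Products

/-!
# Cohomology of objects with acyclic cohomology sheaves on a covering class
-/

set_option autoImplicit false

universe u

open CategoryTheory CategoryTheory.Limits Opposite Pretriangulated DerivedCategory

namespace Groth.Agent.SiteCoh.TruncAcyclic

theorem exists_compatible {A : ℕ → Type u} (t : ∀ n, A (n + 1) → A n)
    (n₀ : ℕ) (h : ∀ n, n₀ ≤ n → Function.Surjective (t n)) (x₀ : A n₀) :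
    ∃ x : ∀ n, A n, (∀ n, t n (x (n + 1)) = x n) ∧ x n₀ = x₀ := by
  induction n₀ generalizing A with
  | zero =>
    choose s hs using fun n => h n (Nat.zero_le n)
    exact ⟨fun n => Nat.rec (motive := fun n => A n) x₀ (fun n an => s n an) n, fun n => hs n _, rfl⟩
  | succ n₀ ih =>
    obtain ⟨x, hx, hx₀⟩ := ih (A := fun n => A (n + 1)) (fun n => t (n + 1)) (fun n hn => h (n + 1) (by omega)) x₀
    refine ⟨fun n => Nat.casesOn (motive := fun n => A n) n (t 0 (x 0)) x, fun n => ?_, hx₀⟩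
    cases n with
    | zero => rfl
    | succ n => exact hx n

section Shift

variable {A : Type*} [Category A] [Abelian A] [HasDerivedCategory A] (P : A) (q : ℤ) (X : DerivedCategory A)

/-- `Hom(P[-q], X) = Hom(P, X[q])`. -/
noncomputable def shiftHom : ((singleFunctor A q).obj P ⟶ X) ≃+ ((singleFunctor A 0).obj P ⟶ X⟦q⟧) :=
  AddEquiv.ofBijective
    (AddMonoidHom.mk' (fun g => (((DerivedCategory.singleFunctors A).shiftIso q 0 q (by lia)).app P).inv ≫ g⟦q⟧')
      (fun a b => by rw [Functor.map_add, Preadditive.comp_add]))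
    ⟨fun a b hab => (shiftFunctor (DerivedCategory A) q).map_injective ((cancel_epi _).1 hab),
      fun y => by
        obtain ⟨g, hg⟩ := (shiftFunctor (DerivedCategory A) q).map_surjective
          ((((DerivedCategory.singleFunctors A).shiftIso q 0 q (by lia)).app P).hom ≫ y)
        exact ⟨g, by
          show _ ≫ g⟦q⟧' = y
          rw [hg, Iso.inv_hom_id_assoc]⟩⟩

end Shift

variable {C : Type u} [SmallCategory C] {J : GrothendieckTopology C}
  [HasDerivedCategory.{u} (Sheaf J AddCommGrpCat.{u})] (E : DerivedCategory (Sheaf J AddCommGrpCat.{u}))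

theorem acy (M : Sheaf J AddCommGrpCat.{u}) (U : C) (h : ∀ p : ℕ, Subsingleton (CohSite.HU M (p + 1) U)) :
    Groth.Agent.KFlat.TruncHom.Acy (CohCx.freeSheaf J U) M := fun a b hab f => by
  have h0 : shiftHom (CohCx.freeSheaf J U) a ((singleFunctor _ b).obj M) f = 0 :=
    TruncCoh.single_hom_eq_zero (CohCx.freeSheaf J U) M b a (fun k hk => by
      obtain ⟨p, rfl⟩ : ∃ p, k = p + 1 := ⟨k - 1, by omega⟩
      exact h p) _
  exact (shiftHom (CohCx.freeSheaf J U) a ((singleFunctor _ b).obj M)).injective (h0.trans (map_zero _).symm)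

theorem exists_stage [HasProduct (CohCx.truncTower E)] (B : Set C)
    (hB : ∀ U : C, ∃ (ι : Type u) (Y : ι → C) (f : ∀ i, Y i ⟶ U), Sieve.ofArrows Y f ∈ J U ∧ ∀ i, Y i ∈ B)
    (h : ∀ U ∈ B, ∀ (p : ℕ) (q : ℤ), Subsingleton (CohSite.HU (CohCx.HD E q) (p + 1) U))
    (U : C) (hU : U ∈ B) (q : ℤ) :
    ∃ n : ℕ, -(n : ℤ) ≤ q ∧
      Function.Bijective (Preadditive.rightComp _ ((shiftFunctor _ q).map (CohCx.toTruncTower E n)) :
        CohCx.HDU E q U → CohCx.HDU (CohCx.truncTower E n) q U) ∧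
      Function.Bijective (Groth.Agent.KFlat.TruncHom.Φ (CohCx.freeSheaf J U) q (CohCx.truncTower E n)) := by
  have hv : ∀ V ∈ B, ∀ (m : ℤ) (k : ℕ), 0 < k → Subsingleton (CohSite.HU (CohCx.HD E m) k V) :=
    fun V hV m k hk => by
      obtain ⟨p, rfl⟩ : ∃ p, k = p + 1 := ⟨k - 1, by omega⟩
      exact h V hV p m
  have hL : CohCx.IsRlimVia (CohCx.truncTower E) (CohCx.truncTowerMap E) E (CohCx.toTruncTower E) := by
    refine TruncLim.isRlimVia E B hB fun V _ => ⟨fun _ => 0, fun T hT => ?_⟩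
    choose ι Y f hf hY using hB
    refine ⟨Σ (W : C) (_ : {g : W ⟶ V // T.arrows g}), ι W, fun x => Y x.1 x.2.2,
      fun x => f x.1 x.2.2 ≫ x.2.1.1, fun x => T.downward_closed x.2.1.2 _, ?_,
      fun x m k hk => hv _ (hY _ _) _ k (by exact_mod_cast (show (0 : ℤ) < k from hk))⟩
    refine J.superset_covering ?_ (J.bind_covering hT (R := fun W _ _ => Sieve.ofArrows (Y W) (f W)) fun W _ _ => hf W)
    rintro Z _ ⟨W, h₀, g, hg, ⟨W', k, g₀, hg₀, rfl⟩, rfl⟩
    obtain ⟨i⟩ := hg₀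
    refine ⟨_, k, _, Presieve.ofArrows.mk (⟨W, ⟨g, hg⟩, i⟩ : Σ (W : C) (_ : {g : W ⟶ V // T.arrows g}), ι W), ?_⟩
    exact (Category.assoc _ _ _).symm
  let n₀ : ℕ := (-q).toNat
  have hn₀ : -(n₀ : ℤ) ≤ q := by
    have := Int.self_le_toNat (-q)
    omega
  have hsurj : ∀ n, n₀ ≤ n → Function.Surjective
      (Preadditive.rightComp _ ((shiftFunctor _ q).map (CohCx.truncTowerMap E n)) :
        CohCx.HDU (CohCx.truncTower E (n + 1)) q U → CohCx.HDU (CohCx.truncTower E n) q U) :=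
    fun n hn => TruncLim.map_surjective E U q n fun k hk => hv U hU _ k (by omega)
  have hbij : Function.Bijective (Preadditive.rightComp _ ((shiftFunctor _ q).map (CohCx.toTruncTower E n₀)) :
      CohCx.HDU E q U → CohCx.HDU (CohCx.truncTower E n₀) q U) := by
    constructor
    · refine (injective_iff_map_eq_zero _).2 fun y hy => ?_
      refine RlimSections.eq_zero_of_stage _ _ E _ hL q n₀ U ?_ ?_ y hy
      · exact TruncLim.limOne E U (q - 1) n₀ fun k hk => hv U hU _ k (by omega)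
      · exact TruncLim.transition_injective E U q n₀ fun k hk => hv U hU _ k (by omega)
    · intro x₀
      obtain ⟨x, hx, hx₀⟩ := exists_compatible
        (A := fun n => CohCx.HDU (CohCx.truncTower E n) q U)
        (fun n => Preadditive.rightComp _ ((shiftFunctor _ q).map (CohCx.truncTowerMap E n))) n₀ hsurj x₀
      obtain ⟨y, hy⟩ := RlimSeq.exists_lift _ _ E _ hL _ q x hx
      exact ⟨y, (hy n₀).trans hx₀⟩
  let K := CohCx.truncTower E n₀
  have hK : K.IsGE (-(n₀ : ℤ)) := inferInstanceAs (TStructure.t.IsGE ((TStructure.t.truncGE (-(n₀ : ℤ))).obj E) _)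
  have hΦ : Function.Bijective (Groth.Agent.KFlat.TruncHom.Φ (CohCx.freeSheaf J U) q K) := by
    refine Groth.Agent.KFlat.TruncHom.Φ_bijective_of_isGE _ q _ K hK fun j hj => ?_
    rcases lt_or_ge j (-(n₀ : ℤ)) with hj' | hj'
    · exact Groth.Agent.KFlat.TruncHom.acy_of_isZero _ (isZero_of_isGE K _ j hj')
    · have := TruncLim.isIso_homology E n₀ j hj'
      exact (acy _ U fun p => h U hU p j).of_iso
        (asIso ((DerivedCategory.homologyFunctor _ j).map (CohCx.toTruncTower E n₀)))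
  exact ⟨n₀, hn₀, hbij, hΦ⟩

theorem nonempty_addEquiv [HasProduct (CohCx.truncTower E)] (B : Set C)
    (hB : ∀ U : C, ∃ (ι : Type u) (Y : ι → C) (f : ∀ i, Y i ⟶ U), Sieve.ofArrows Y f ∈ J U ∧ ∀ i, Y i ∈ B)
    (h : ∀ U ∈ B, ∀ (p : ℕ) (q : ℤ), Subsingleton (CohSite.HU (CohCx.HD E q) (p + 1) U))
    (U : C) (hU : U ∈ B) (q : ℤ) :
    Nonempty (CohCx.HDU E q U ≃+ (CohCx.HD E q).obj.obj (op U)) := by
  obtain ⟨n₀, hn₀, hbij, hΦ⟩ := exists_stage E B hB h U hU q
  let K := CohCx.truncTower E n₀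
  have := TruncLim.isIso_homology E n₀ q hn₀
  let Ev := sheafToPresheaf J AddCommGrpCat.{u} ⋙ (evaluation Cᵒᵖ AddCommGrpCat.{u}).obj (op U)
  exact ⟨((AddEquiv.ofBijective _ hbij).trans (shiftHom (CohCx.freeSheaf J U) q K).symm).trans
    ((AddEquiv.ofBijective _ hΦ).trans ((Free.sectionEquiv J U _).trans
      (Ev.mapIso (asIso ((DerivedCategory.homologyFunctor _ q).map (CohCx.toTruncTower E n₀)))).symm.addCommGroupIsoToAddEquiv))⟩

end Groth.Agent.SiteCoh.TruncAcyclic
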